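import Cfsg.Agent.H49.A7Spec
import Cfsg.Agent.H73.D8W60

/-! A7: the facts that hold in every configuration. -/

set_option autoImplicit false

namespace H49.A7

open Subgroup Cfsg Equiv
open scoped commutatorElement

universe u

section Lift
variable {A : Type*} [Group A] {B : Type*} [Group B] (f : A →* B) (hs : Function.Surjective f)
  (hk : ∀ a, f a = 1 → a ∈ center A ∧ a ^ 3 = 1)
include hs hk

theorem lift_ord {p m : ℕ} (hp : p.Prime) (h3 : 3 * m % p = 1) {c : B} (hc : orderOf c = p) :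
    ∃ x : A, f x = c ∧ orderOf x = p := by
  obtain ⟨y, rfl⟩ := hs c
  haveI := Fact.mk hp
  have e : f (y ^ (3 * m)) = f y := by rw [map_pow, ← pow_mod_orderOf, hc, h3, pow_one]
  refine ⟨_, e, orderOf_eq_prime ?_ fun k => ?_⟩
  · rw [← pow_mul, show 3 * m * p = p * 3 * m by ring, pow_mul, pow_mul,
      (hk _ (by rw [map_pow, ← hc, pow_orderOf_eq_one])).2, one_pow]
  · rw [k, map_one] at e
    rw [← e, orderOf_one] at hc
    exact hp.one_lt.ne hc

theorem lift_sq {p m : ℕ} (hp : p.Prime) (h3 : 3 * m % p = 1) {c b : B} (hc : orderOf c = p)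
    (hb : b * c * b⁻¹ = c ^ 2) : ∃ x a : A, orderOf x = p ∧ a * x * a⁻¹ = x ^ 2 := by
  obtain ⟨x, rfl, hx⟩ := lift_ord f hs hk hp h3 hc
  obtain ⟨a, rfl⟩ := hs b
  refine ⟨x, a, hx, ?_⟩
  obtain ⟨h1, h2⟩ := hk (a * x * a⁻¹ * (x ^ 2)⁻¹) (by simp [hb])
  set z := a * x * a⁻¹ * (x ^ 2)⁻¹ with hz
  have e : a * x * a⁻¹ = z * x ^ 2 := by simp [hz]
  have h4 : z ^ p = 1 := by
    have := congrArg (· ^ p) e
    simp only [conj_pow] at this
    rw [Commute.mul_pow (mem_center_iff.1 h1 _).symm, ← pow_mul, mul_comm 2, pow_mul, ← hx,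
      pow_orderOf_eq_one] at this
    simpa [hx] using this.symm
  have h5 : z = 1 := by
    have : z ^ (3 * m) = 1 := by rw [pow_mul, h2, one_pow]
    rwa [← Nat.div_add_mod (3 * m) p, pow_add, pow_mul, h4, one_pow, one_mul, h3, pow_one] at this
  rw [e, h5, one_mul]

end Lift

abbrev A7 := ↥(alternatingGroup (Fin 7))

def c7 : A7 := ⟨c[0, 1, 2, 3, 4, 5, 6], Perm.mem_alternatingGroup.2 (by decide)⟩
def b7 : A7 := ⟨c[1, 2, 4] * c[3, 6, 5], Perm.mem_alternatingGroup.2 (by decide)⟩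
def c5 : A7 := ⟨c[0, 1, 2, 3, 4], Perm.mem_alternatingGroup.2 (by decide)⟩
def b5 : A7 := ⟨c[1, 2, 4, 3] * c[5, 6], Perm.mem_alternatingGroup.2 (by decide)⟩
def c2 : A7 := ⟨c[0, 1] * c[2, 3], Perm.mem_alternatingGroup.2 (by decide)⟩
def c3 : A7 := ⟨c[4, 5, 6], Perm.mem_alternatingGroup.2 (by decide)⟩
def w2 : A7 := ⟨c[0, 1] * c[4, 5], Perm.mem_alternatingGroup.2 (by decide)⟩

variable {Y : Type u} [Group Y] {σ : MulAut Y} {A : Subgroup Y}

theorem Cf.kit [Finite Y] (h : Cf σ A) : Kit σ A := by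
  obtain ⟨e⟩ := h.ty
  have hz := H73.D8W.center_dvd h.qs.1 h.odd (.inr rfl) e
  let f : A →* A7 := e.toMonoidHom.comp (QuotientGroup.mk' _)
  have hs : Function.Surjective f := e.surjective.comp (QuotientGroup.mk'_surjective _)
  have hk0 : ∀ a, f a = 1 ↔ a ∈ center A := fun a => by simp [f]
  have hk : ∀ a, f a = 1 → a ∈ center A ∧ a ^ 3 = 1 := fun a ha => by
    have m := (hk0 a).1 ha
    refine ⟨m, congrArg Subtype.val (orderOf_dvd_iff_pow_eq_one.1 (?_ : orderOf (⟨a, m⟩ : center A) ∣ 3))⟩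
    refine (_root_.orderOf_dvd_natCard _).trans ?_
    rcases hz with k | k <;> simp [k]
  have cA : Nat.card A = 2520 * Nat.card (center A) := by
    rw [card_eq_card_quotient_mul_card_subgroup (center A), Nat.card_congr e.toEquiv,
      nat_card_alternatingGroup]
    simp [Nat.factorial]
  haveI : Fact (Nat.Prime 7) := ⟨by norm_num⟩
  haveI : Fact (Nat.Prime 5) := ⟨by norm_num⟩
  haveI : Fact (Nat.Prime 3) := ⟨by norm_num⟩
  have le : ∀ M : Subgroup Y, IsQuasisimple M → (∀ m ∈ M, σ m = m) → M ≤ A ∨ ⁅A ⊓ M, M⁆ = ⊥ :=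
    fun M q k => H14.quasi_sub_normalized q fun m hm => h.nor m (k m hm)
  refine ⟨hz.imp (fun k => ⟨by rw [cA, k], card_eq_one.1 k⟩) fun k => ⟨by rw [cA, k], k⟩, ?_, ?_, ?_,
    fun M q k x h1 h2 h3 => (le M q k).resolve_right fun m =>
      h3 (commutator_eq_bot_iff_le_centralizer.1 m ⟨h1, h2⟩), fun M q k n => ?_⟩
  · obtain ⟨x, a, h1, h2⟩ := lift_sq f hs hk (p := 7) (m := 5) Fact.out rfl (c := c7) (b := b7)
      (orderOf_eq_prime (by decide +kernel) (by decide +kernel)) (by decide +kernel)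
    exact ⟨x, x.2, a, a.2, by rw [orderOf_coe, h1], congrArg Subtype.val h2⟩
  · obtain ⟨x, a, h1, h2⟩ := lift_sq f hs hk (p := 5) (m := 2) Fact.out rfl (c := c5) (b := b5)
      (orderOf_eq_prime (by decide +kernel) (by decide +kernel)) (by decide +kernel)
    exact ⟨x, x.2, a, a.2, by rw [orderOf_coe, h1], congrArg Subtype.val h2⟩
  · obtain ⟨x, hx, ox⟩ := lift_ord f hs hk (p := 2) (m := 1) Nat.prime_two rfl (c := c2)
      (orderOf_eq_prime (by decide) (by decide))
    obtain ⟨w, hw⟩ := hs w2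
    obtain ⟨y, hy⟩ := hs c3
    have xx : x * x = 1 := by rw [← pow_two, ← ox, pow_orderOf_eq_one]
    obtain ⟨h1, h2⟩ := hk (w * y * w⁻¹ * y) (by simp only [map_mul, map_inv, hw, hy]; decide)
    set z := w * y * w⁻¹ * y with hz
    have c1 := mem_center_iff.1 h1
    have hy' : f (y * z) = c3 := by rw [map_mul, (hk0 z).2 h1, hy, mul_one]
    have i1 : w * (y * z) * w⁻¹ = (y * z)⁻¹ := by
      have : w * y * w⁻¹ = z * y⁻¹ := by simp [hz]
      rw [eq_inv_iff_mul_eq_one, show w * (y * z) * w⁻¹ = w * y * (z * w⁻¹) by group, ← c1,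
        ← mul_assoc (w * y), this]
      calc z * y⁻¹ * z * (y * z) = z * (y⁻¹ * (z * y)) * z := by group
        _ = z ^ 3 := by rw [← c1 y, pow_three]; group
        _ = 1 := h2
    generalize y * z = v at hy' i1
    obtain ⟨h3, h4⟩ := hk (v ^ 3) (by rw [map_pow, hy']; decide)
    have h5 : v ^ 3 = 1 := by
      have : w * v ^ 3 * w⁻¹ = (v ^ 3)⁻¹ := by rw [← conj_pow, i1, inv_pow]
      rw [mem_center_iff.1 h3 w, mul_inv_cancel_right, eq_inv_iff_mul_eq_one] at this
      calc v ^ 3 = v ^ 3 * v ^ 3 * v ^ 3 := by rw [this, one_mul]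
        _ = 1 := by rw [← h4]; group
    have n1 : v ∉ center A := fun k => absurd (hy' ▸ (hk0 v).2 k) (by decide)
    obtain ⟨h6, h7⟩ := hk (x * v * x⁻¹ * v⁻¹) (by simp only [map_mul, map_inv, hx, hy']; decide)
    set z' := x * v * x⁻¹ * v⁻¹ with hz'
    have e1 : x * v * x⁻¹ = z' * v := by simp [hz']
    have e2 : z' * z' = 1 := by
      have : x * (x * v * x⁻¹) * x⁻¹ = v := by
        rw [show x * (x * v * x⁻¹) * x⁻¹ = x * x * v * (x * x)⁻¹ by group, xx]; simp
      rw [e1, ← mul_assoc, mem_center_iff.1 h6 x, mul_assoc z', mul_assoc z', e1, ← mul_assoc] at this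
      simpa using this
    have e3 : z' = 1 := by rw [← h7, pow_three, e2, mul_one]
    refine ⟨x, x.2, v, v.2, by rw [orderOf_coe, ox], by
      rw [orderOf_coe]; exact orderOf_eq_prime h5 fun k => n1 (k ▸ one_mem _), ?_, fun k =>
        n1 (mem_center_iff.2 fun g => Subtype.ext (k g g.2))⟩
    rw [e3, one_mul, mul_inv_eq_iff_eq_mul] at e1
    exact congrArg Subtype.val e1
  · rcases le M q k with m | m
    · rcases H14.quasi_sub_normalized h.qs n with m' | m'
      · exact .inl (le_antisymm m m')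
      · exact (H14.quasi_sub_commutator_ne_bot q
          (H14.commutator_eq_bot_mono m' (le_inf le_rfl m) m)).elim
    · refine .inr (commutator_eq_bot_iff_le_centralizer.1 (H14.commutator_eq_bot_of_perfect
        (H14.quasi_sub_perfect q) (H14.commutator_eq_bot_mono m (le_inf ?_ ?_) le_rfl)))
      · exact commutator_comm M A ▸ le_normalizer_iff_commutator_le_right.1 fun x hx => h.nor x (k x hx)
      · exact le_normalizer_iff_commutator_le_right.1 n

theorem Cf.congr {Z : Type*} [Group Z] (e : Y ≃* Z) (h : Cf σ A) :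
    Cf (MulAut.congr e σ) (A.map e.toMonoidHom) := by
  have i := A.equivMapOfInjective e.toMonoidHom e.injective
  obtain ⟨t⟩ := h.ty
  refine ⟨by rw [← map_mul, h.sq, map_one], (map_ne_one_iff _ (MulAut.congr e).injective).2 h.ne,
    H14.quasi_of_mulEquiv h.qs i, H73.D8W.card_center i ▸ h.odd, ⟨(H73.D8W.cq i).symm.trans t⟩, ?_,
    fun y hy => ?_, fun k => ?_⟩
  · rintro _ ⟨a, ha, rfl⟩
    simp [h.fix a ha]
  · obtain ⟨y, rfl⟩ := e.surjective y
    exact le_normalizer_map e.toMonoidHom ⟨y, h.nor y (by simpa using hy), rfl⟩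
  · have := h.par fun y m => k (e y) (by ext; simp [m])
    have m : centralizer (A.map e.toMonoidHom : Set Z) = (centralizer (A : Set Y)).map e.toMonoidHom := by
      ext z
      obtain ⟨y, rfl⟩ := e.surjective z
      refine Iff.trans ?_ (mem_map_iff_mem (f := e.toMonoidHom) e.injective).symm
      exact ⟨fun k a ha => e.injective (by simpa using k (e a) ⟨a, ha, rfl⟩), by
        rintro k _ ⟨a, ha, rfl⟩
        simpa using congrArg e (k a ha)⟩
    rwa [m, card_map_of_injective e.injective]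

theorem No.of_iso {Z : Type*} [Group Z] (h : No Z) (e : Y ≃* Z) : No Y :=
  fun _ _ k => h _ _ (k.congr e)

theorem jobKit : JobKit.{u} := ⟨fun _ _ _ _ _ h => h.kit, fun _ _ _ _ e _ _ h => h.congr e⟩

end H49.A7
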