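import Cfsg.Agent.H85.DZTr
import Cfsg.Agent.H30.DZL
import Cfsg.Agent.H93.FZNE0
import Cfsg.Agent.H12.ExtTransfer
import Cfsg.Agent.H85.E2

/-! DZ, branches NE and WA: general lemmas. -/

set_option autoImplicit false
set_option linter.unusedSectionVars false

namespace H49.NW

open Subgroup Cfsg H14 H98 H1.Gold H31.S2 H85.FZ H49.D8 H85.DZ

universe u

variable {G : Type u} [Group G] [Finite G] {t v s u a σ ρ x y g k : G}
  {X S P E D R M Z Φ Y K F : Subgroup G}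

theorem card_le2 (h : ∀ x ∈ F, ∀ y ∈ F, x ∉ K → y ∉ K → x * y ∈ K) :
    Nat.card F ≤ 2 * Nat.card ↥(F ⊓ K) := by
  by_cases e : F ≤ K
  · rw [inf_eq_left.2 e]; omega
  obtain ⟨x, hx, xK⟩ := SetLike.not_le_iff_exists.1 e
  rw [← H85.card_sup_zpowers_two (A := F ⊓ K) (x := x) ⟨mul_mem hx hx, h x hx x hx xK xK⟩
    (mem_normalizer_fintype fun y hy => mem_inf.2 ⟨mul_mem (mul_mem hx hy.1) (inv_mem hx),
      h _ (mul_mem hx hy.1) _ (inv_mem hx) (fun k => xK ((K.mul_mem_cancel_right hy.2).1 k))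
        fun k => xK (K.inv_mem_iff.1 k)⟩) fun k => xK k.2]
  refine card_le_of_le fun y hy => (em (y ∈ K)).elim (fun k => mem_sup_left ⟨hy, k⟩) fun k => ?_
  have := mul_mem (mem_sup_left (T := zpowers x) (show y * x ∈ F ⊓ K from
    ⟨mul_mem hy hx, h y hy x hx k xK⟩)) (inv_mem (mem_sup_right (mem_zpowers x)))
  simpa using this

theorem two_le (h : K < F) : 2 * Nat.card K ≤ Nat.card F := by
  obtain ⟨c, e⟩ := card_dvd_of_le h.le
  have : ¬ Nat.card F ≤ Nat.card K := fun k => h.ne (eq_of_le_of_card_ge h.le k)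
  have p : 0 < Nat.card F := Nat.card_pos
  rw [e] at this p ⊢
  rw [mul_comm]
  exact Nat.mul_le_mul_left _ (by by_contra k; interval_cases c <;> simp at k this p)

theorem two_of_sq (h2 : ∀ e ∈ E, e * e = 1) : IsPGroup 2 E :=
  isPGroup_iff_forall.2 fun e he => ⟨1, by simpa [pow_two] using h2 e he⟩

theorem ab_of_sq (h2 : ∀ e ∈ E, e * e = 1) : E ≤ cen E := fun x hx => mem_cen_iff.2 fun y hy => by
  rw [← inv_eq_of_mul_eq_one_right (h2 _ (mul_mem hx hy)), mul_inv_rev,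
    inv_eq_of_mul_eq_one_right (h2 _ hx), inv_eq_of_mul_eq_one_right (h2 _ hy)]

/-- No elementary group of order `32` centralizes a conjugate of `t`. -/
theorem e32 (h : H85.DZ.Loc t v s u a σ ρ) (hx : IsConj t x) (h2 : ∀ e ∈ E, e * e = 1)
    (hc : 32 ≤ Nat.card E) (hE : x ∈ cen E) : False := by
  obtain ⟨n, hn⟩ := (two_of_sq h2).exists_card_eq
  obtain ⟨Q, hQ⟩ := Sylow.exists_subgroup_card_pow_prime (G := E) 2 (n := 4) (by
    rw [hn] at hc ⊢
    exact pow_dvd_pow 2 (by by_contra k; interval_cases n <;> simp at k hc))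
  have le : Q.map E.subtype ≤ E := map_subtype_le Q
  have c : Nat.card (Q.map E.subtype) = 16 := by rw [card_subtype, hQ]; rfl
  have := card_le_of_le (h.sc hx (fun e he => h2 e (le he)) c (centralizer_le le hE) (two_of_sq h2)
    ((ab_of_sq h2).trans (centralizer_le le)))
  omega

/-- The words `ws` are independent commuting involutions. -/
def elOK (T : Tb) (ws : List (ℕ × List ℕ)) (n : ℕ) : Bool :=
  ((List.range n).all fun s => T.same (app ws [s, s]) (app ws []) &&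
    (List.range s).all fun r => T.same (app ws [r, s]) (app ws [s, r])) &&
  (List.range n).all fun k => (subs k).all fun w => !T.eqv (app ws [k]) (app ws w)

theorem same_nil : ∀ n ≤ 6, ∀ w ∈ subs n, (Tb.of n []).same (w ++ w) [] = true := by decide +kernel

theorem elem {T : Tb} {z : ℕ → G} (P : Pres T z) (I : Ind z T.n) (ws : List (ℕ × List ℕ))
    (l : List G) (hn : l.length ≤ 6) (e : ∀ i < l.length, val l i = W z (app ws [i]))
    (chk : elOK T ws l.length = true) :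
    (∀ e ∈ cl l, e * e = 1) ∧ Nat.card (cl l) = 2 ^ l.length ∧
      ∀ e ∈ cl l, ∃ w ∈ subs l.length, e = W z (app ws w) := by
  rw [elOK, Bool.and_eq_true] at chk
  have wf : (Tb.of l.length []).wf = true := by simp [Tb.wf, Tb.of]
  have P' := P.derive' (.of l.length []) _ e wf chk.1
  have I' := P.ind_derive I P' wf e fun k hk w hw => by
    simpa using List.all_eq_true.1 (List.all_eq_true.1 chk.2 k (List.mem_range.2 hk)) w hw
  have m : ∀ g ∈ cl l, ∃ w ∈ subs l.length, g = W (val l) w := fun g hg =>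
    P'.mem_cl wf l.length le_rfl (by rwa [List.take_length])
  refine ⟨fun g hg => ?_, by
    have := P'.card wf le_rfl I'
    rwa [H_val, show (Tb.of l.length []).n = l.length from rfl, List.take_length] at this,
    fun g hg => ?_⟩
  · obtain ⟨w, hw, rfl⟩ := m g hg
    rw [← W_append]
    exact P'.W_eq (w' := []) (same_nil _ hn w hw)
  · obtain ⟨w, hw, rfl⟩ := m g hg
    exact ⟨w, hw, W_app e (subs_lt hw)⟩

/-- An action in new letters. -/
theorem act_derive {T : Tb} {z z' : ℕ → G} (P : Pres T z) {L L' : List ℕ} {f f' ws : List (ℕ × List ℕ)}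
    (A : Act z g L f) {n : ℕ} (e : ∀ i < n, z' i = W z (app ws [i]))
    (chk : ∀ r ∈ L', r < n ∧ (app ws [r]).all (· ∈ L) = true ∧ (app f' [r]).all (· < n) = true ∧
      T.same (app f (app ws [r])) (app ws (app f' [r])) = true) : Act z' g L' f' := fun r hr => by
  obtain ⟨k1, k2, k3, k4⟩ := chk r hr
  rw [e r k1, A.w k2, P.W_eq k4, W_app e k3]

theorem cen1_mul {b : G} (hb : b ∈ cen E) : E ⊓ cen1 (t * b) = E ⊓ cen1 t := by
  ext e
  rw [mem_inf, mem_inf]
  refine and_congr_right fun he => ?_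
  rw [mem_cen1, mem_cen1, ← mul_assoc, mul_assoc t,
    mem_cen_iff.1 hb e he, ← mul_assoc, mul_left_inj]

/-- `P` is Sylow in `N(E)`. -/
theorem na (h : Lc t v s u a σ ρ) (hP : IsPGroup 2 P) (TP : cl [a, u, v, t, s] ≤ P) (PE : P ≤ nor E)
    (hE : E ⊓ cen1 t = cl [a, u, v]) (ab : E ≤ cen E)
    (cls : ∀ x ∈ P, IsConj t x → ∃ w ∈ P, ∃ b ∈ cl [a, u, v], x = w * (t * b) * w⁻¹ ∧
      (b = 1 ∨ ∀ g ∈ nor (cl [a, u, v, t]), g * t * g⁻¹ ≠ t * b)) : IsSyl 2 P (nor E) := by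
  by_contra hn
  obtain ⟨n, nE, nP, n1, n2⟩ := ext_of_not_syl hP PE hn
  obtain ⟨w, hw, b, hb, e, k⟩ := cls _ (conj_mem_of_mem_normalizer nP (TP (mem_cl (by simp))))
    (isConj_iff.2 ⟨n, rfl⟩)
  have e' : w⁻¹ * n * t * (w⁻¹ * n)⁻¹ = t * b := by
    calc _ = w⁻¹ * (n * t * n⁻¹) * w := by group
      _ = _ := by rw [e]; group
  have m : w⁻¹ * n ∈ nor E := mul_mem (inv_mem (PE hw)) nE
  have m0 : w⁻¹ * n ∈ nor (cl [a, u, v]) := by
    rw [← cj_eq_self_iff, ← hE, cj_inf, cj_cen1, e', cj_eq_self m, cen1_mul (ab (hE.ge hb).1)]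
  have le : cl [a, u, v] ≤ cl [a, u, v, t] := cl_mono (by simp)
  have mA : w⁻¹ * n ∈ nor (cl [a, u, v, t]) := nor_cl fun y hy => by
    simp only [List.mem_cons, List.not_mem_nil, or_false] at hy
    rcases hy with rfl | rfl | rfl | rfl
    iterate 3 exact le (conj_mem_of_mem_normalizer m0 (mem_cl (by simp)))
    exact e' ▸ mul_mem (mem_cl (by simp)) (le hb)
  rcases k with rfl | k
  · exact n1 ((mul_mem_cancel_left (inv_mem hw)).1 (TP (two h (isPGroup_ext hP nP n2)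
      (TP.trans le_sup_right) (mul_mem (inv_mem (mem_sup_right hw)) (mem_sup_left (mem_zpowers n)))
      (mul_inv_eq_iff_eq_mul.1 (by simpa using e')) mA)))
  · exact k _ mA e'

theorem nor_cen (hg : g ∈ nor E) (hx : x ∈ cen E) : g * x * g⁻¹ ∈ cen E :=
  conj_mem_of_mem_normalizer (normalizer_le_normalizer_centralizer E hg) hx

theorem no8 (hS : IsSyl 2 P (nor E)) (h4 : ∀ x ∈ P, x ^ 4 ∈ cen E) (hg : g ∈ nor E)
    (h8 : g ^ 8 ∈ cen E) : g ^ 4 ∈ cen E := by
  obtain ⟨m, hm, e⟩ := two_odd g 2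
  obtain ⟨c, c1, c2⟩ := hS.exists_cj_le e (zpowers_le.2 (pow_mem hg m))
  have := nor_cen (inv_mem c1) (h4 _ (c2 (conj_mem_cj (mem_zpowers _))))
  obtain ⟨j, rfl⟩ : ∃ j, m = 8 * j + 1 := ⟨m / 8, by omega⟩
  rw [conj_pow, show c⁻¹ * (c * (g ^ (8 * j + 1)) ^ 4 * c⁻¹) * c⁻¹⁻¹ = (g ^ 8) ^ (4 * j) * g ^ 4 by
    group] at this
  exact (mul_mem_cancel_left (pow_mem h8 _)).1 this

theorem noZ (hS : IsSyl 2 P M) (h1 : M ≤ nor Z) (h2 : M ≤ nor Φ) (hP : ∀ x ∈ P, x ∈ cen Φ → x ∈ cen Z)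
    (hk : k ∈ M) (k1 : k ∈ cen Φ) (k2 : k * k ∈ cen Z) : k ∈ cen Z := by
  obtain ⟨m, hm, e⟩ := two_odd k 0
  obtain ⟨c, c1, c2⟩ := hS.exists_cj_le e (zpowers_le.2 (pow_mem hk m))
  have := nor_cen (inv_mem (h1 c1)) (hP _ (c2 (conj_mem_cj (mem_zpowers _)))
    (nor_cen (h2 c1) (pow_mem k1 m)))
  exact mem_of_sq hm (by simpa [mul_assoc] using this) k2

theorem res_simple {X : Type*} [Group X] [Finite X] [IsSimpleGroup X] (hna : ¬ IsMulCommutative X) :
    res 2 (⊤ : Subgroup X) = ⊤ := by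
  have n : (res 2 (⊤ : Subgroup X)).Normal := ⟨fun x hx g => by
    have := map_res_le (p := 2) (MulAut.conj g).toMonoidHom ⊤ ⟨x, hx, rfl⟩
    exact res_mono le_top this⟩
  refine n.eq_bot_or_eq_top.resolve_left fun e => hna ?_
  have hp : IsPGroup 2 X := (res_eq_bot_iff.1 e).of_equiv topEquiv
  have := hp.center_nontrivial
  rcases (inferInstance : (center X).Normal).eq_bot_or_eq_top with k | k
  · rw [k] at this; exact absurd this (not_nontrivial _)
  · exact ⟨⟨fun a b => (mem_center_iff.1 (k ▸ mem_top b : b ∈ center X) a)⟩⟩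

/-- Transfer in `G`. -/
theorem trG (hX : AS X t) (hS : IsSyl 2 S ⊤) (hD : ⁅S, S⁆ ≤ D) (yy : y * y = 1) (yD : y ∉ D)
    (yR : y ∈ R) (RS : R ≤ S) (Ry : R ≤ cen1 y) (h : ∀ g, cj g R ≤ S → g * y * g⁻¹ * y ∈ D) :
    y ∉ X := fun k => by
  have := hX.simple
  refine H12.not_mem_res_of_extremal hS hD yy (RS yR) yD yR (hS.isPGroup.to_le RS)
    (fun r hr => mem_cen1.1 (Ry hr)) h (res_mono le_top (map_res_le X.subtype ⊤ ⟨⟨y, k⟩, ?_, rfl⟩))
  rw [res_simple hX.nab]; trivial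

/-- Transfer in `X`. -/
theorem trX (hX : AS X t) (hS : IsSyl 2 S ⊤) (hD : ⁅S ⊓ X, S ⊓ X⁆ ≤ D) (yy : y * y = 1) (yD : y ∉ D)
    (yR : y ∈ R) (RS : R ≤ S ⊓ X) (Ry : R ≤ cen1 y)
    (h : ∀ g ∈ X, cj g R ≤ S → g * y * g⁻¹ * y ∈ D) : False := by
  have := hX.simple
  refine H12.not_mem_res_of_extremal (as_syl hX hS).subgroupOf_top (D := D.subgroupOf X)
    (R := R.subgroupOf X) (y := ⟨y, (RS yR).2⟩) (commutator_le.2 fun a ha b hb =>
      hD (commutator_mem_commutator ha hb)) (Subtype.ext yy) (RS yR) yD yR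
    (isPGroup_subgroupOf (hS.isPGroup.to_le (RS.trans inf_le_left)) X)
    (fun r hr => Subtype.ext (mem_cen1.1 (Ry hr))) (fun g k => h g g.2 fun z hz => ?_)
    (by rw [res_simple hX.nab]; trivial)
  have m := mem_cj.1 hz
  have : (g * ⟨_, (RS m).2⟩ * g⁻¹ : X) ∈ _ := k (conj_mem_cj (H := R.subgroupOf X) m)
  simpa [mul_assoc] using (mem_subgroupOf.1 this).1

theorem gen0 {H : Type*} [Group H] [Finite H] {a x y : H} (ax : x * a = a * x) (ay : y * a = a * y)
    (aa : a * a = 1) (xx : x * x = 1 ∨ x * x = a) (yy : y * y = 1 ∨ y * y = a)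
    (gg : x * y * x⁻¹ * y⁻¹ * (x * y * x⁻¹ * y⁻¹) = 1) :
    ⁅cl [a, x, y], cl [a, x, y]⁆ ≤ zpowers (x * y * x⁻¹ * y⁻¹) := by
  have cx : x * x * y = y * (x * x) := by rcases xx with e | e <;> simp [e, ay]
  have cy : y * y * x = x * (y * y) := by rcases yy with e | e <;> simp [e, ax]
  obtain ⟨g, hg⟩ : ∃ g, g = x * y * x⁻¹ * y⁻¹ := ⟨_, rfl⟩
  rw [← hg] at gg ⊢
  have gi : g⁻¹ = g := inv_eq_of_mul_eq_one_right gg
  have gx : x * g = g * x := by
    calc x * g = x * x * y * x⁻¹ * y⁻¹ := by rw [hg]; group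
      _ = g⁻¹ * x := by rw [cx, hg]; group
      _ = _ := by rw [gi]
  have gy : y * g = g * y := by
    calc y * g = y * g⁻¹ := by rw [gi]
      _ = y * y * x * y⁻¹ * x⁻¹ := by rw [hg]; group
      _ = x * y * x⁻¹ := by rw [cy]; group
      _ = _ := by rw [hg]; group
  have ga : a * g = g * a := by
    have k : cl [x, y] ≤ cen1 a := cl_le.2 (by simp [mem_cen1, ax, ay])
    exact (mem_cen1.1 (k (hg ▸ mul_mem (mul_mem (mul_mem (m1 x y) (m2 x y)) (inv_mem (m1 x y)))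
      (inv_mem (m2 x y))))).symm
  have cg : cl [a, x, y] ≤ cen1 g := cl_le.2 (by simp [mem_cen1, gx, gy, ga])
  have key : ∀ b ∈ cl [a, x, y], (∀ c ∈ [a, x, y], b * c * b⁻¹ * c⁻¹ ∈ zpowers g) →
      ∀ c ∈ cl [a, x, y], b * c * b⁻¹ * c⁻¹ ∈ zpowers g := fun b hb h c hc => by
    have nz : ∀ c ∈ cl [a, x, y], ∀ e ∈ zpowers g, c * e * c⁻¹ = e := fun c hc e he => by
      rw [(mem_cen1.1 (zpowers_le.2 (mem_cen1.2 (mem_cen1.1 (cg hc)).symm) he)).symm]; group
    unfold cl at hc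
    induction hc using closure_induction with
    | mem c hc => exact h c hc
    | one => simp
    | mul c d hc hd i1 i2 =>
      have hc' : c ∈ cl [a, x, y] := by unfold cl; exact hc
      have := mul_mem i1 ((nz c hc' _ i2).symm ▸ i2)
      convert this using 1; group
    | inv c hc i1 =>
      have hc' : c⁻¹ ∈ cl [a, x, y] := inv_mem (by unfold cl; exact hc)
      have := inv_mem ((nz _ hc' _ i1).symm ▸ i1)
      convert this using 1; group
  refine commutator_le.2 fun b hb c hc => key b hb (fun c hc => ?_) c hc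
  have := inv_mem (key c (mem_cl hc) (fun d hd => ?_) b hb)
  · convert this using 1; group
  simp only [List.mem_cons, List.not_mem_nil, or_false] at hc hd
  rcases hc with rfl | rfl | rfl <;> rcases hd with rfl | rfl | rfl
  all_goals first
    | (simp [ax, ay]; done)
    | (simp [← ax, ← ay]; done)
    | exact hg ▸ mem_zpowers g
    | (convert inv_mem (mem_zpowers g) using 1; rw [hg]; group)

/-- The commutator group modulo `K`. -/
theorem gen (hY : Y ≤ K ⊔ cl [a, x, y]) (na : a ∈ nor K) (nx : x ∈ nor K) (ny : y ∈ nor K)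
    (ax : x * a * x⁻¹ * a ∈ K) (ay : y * a * y⁻¹ * a ∈ K) (aa : a * a = 1)
    (xx : x * x ∈ K ∨ a * (x * x) ∈ K) (yy : y * y ∈ K ∨ a * (y * y) ∈ K)
    (gg : x * y * x⁻¹ * y⁻¹ * (x * y * x⁻¹ * y⁻¹) ∈ K) (aK : a ∉ K)
    (ga : a * (x * y * x⁻¹ * y⁻¹) ∉ K) : ∃ D, ⁅Y, Y⁆ ≤ D ∧ K ≤ D ∧ a ∉ D := by
  let f := QuotientGroup.mk' (K.subgroupOf (nor K))
  have hf : ∀ g : nor K, f g = 1 ↔ (g : G) ∈ K := fun g => QuotientGroup.eq_one_iff g
  let a' : nor K := ⟨a, na⟩
  let x' : nor K := ⟨x, nx⟩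
  let y' : nor K := ⟨y, ny⟩
  have aa' : f a' * f a' = 1 := by rw [← map_mul, show a' * a' = 1 from Subtype.ext aa, map_one]
  have c : ∀ b : nor K, (b : G) * a * (b : G)⁻¹ * a ∈ K → f b * f a' = f a' * f b := fun b hb => by
    have := (hf (b * a' * b⁻¹ * a')).2 hb
    simp only [map_mul, map_inv] at this
    rw [← inv_eq_of_mul_eq_one_right aa', mul_inv_eq_one, inv_eq_of_mul_eq_one_right aa',
      mul_inv_eq_iff_eq_mul] at this
    exact this
  have q : ∀ b : nor K, ((b : G) * b ∈ K ∨ a * (b * b) ∈ K) → f b * f b = 1 ∨ f b * f b = f a' :=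
    fun b hb => hb.imp (fun e => by simpa using (hf (b * b)).2 e) fun e => by
      have := (hf (a' * (b * b))).2 e
      simp only [map_mul] at this
      rw [← inv_eq_of_mul_eq_one_right this, inv_eq_of_mul_eq_one_right aa']
  have gg' := (hf (x' * y' * x'⁻¹ * y'⁻¹ * (x' * y' * x'⁻¹ * y'⁻¹))).2 gg
  simp only [map_mul, map_inv] at gg'
  have key := gen0 (c x' ax) (c y' ay) aa' (q x' xx) (q y' yy) gg'
  have hY' : ∀ b ∈ Y, ∃ hb : b ∈ nor K, f ⟨b, hb⟩ ∈ cl [f a', f x', f y'] := fun b hb => by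
    have : K ⊔ cl [a, x, y] ≤ ((cl [f a', f x', f y']).comap f).map (nor K).subtype :=
      sup_le (fun g hg => ⟨⟨g, le_normalizer hg⟩, by
        rw [SetLike.mem_coe, mem_comap, (hf ⟨g, _⟩).2 hg]; exact one_mem _, rfl⟩) (cl_le.2 fun g hg => by
        simp only [List.mem_cons, List.not_mem_nil, or_false] at hg
        rcases hg with rfl | rfl | rfl
        exacts [⟨a', mem_cl (by simp), rfl⟩, ⟨x', mem_cl (by simp), rfl⟩, ⟨y', mem_cl (by simp), rfl⟩])
    obtain ⟨b', h1, rfl⟩ := this (hY hb)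
    exact ⟨b'.2, h1⟩
  refine ⟨((zpowers (f x' * f y' * (f x')⁻¹ * (f y')⁻¹)).comap f).map (nor K).subtype,
    commutator_le.2 fun b hb c hc => ?_, fun g hg => ⟨⟨g, le_normalizer hg⟩, by
      rw [SetLike.mem_coe, mem_comap, (hf ⟨g, _⟩).2 hg]; exact one_mem _, rfl⟩, ?_⟩
  · obtain ⟨b1, b2⟩ := hY' b hb
    obtain ⟨c1, c2⟩ := hY' c hc
    exact ⟨⟨b, b1⟩ * ⟨c, c1⟩ * ⟨b, b1⟩⁻¹ * ⟨c, c1⟩⁻¹, by
      rw [SetLike.mem_coe, mem_comap]
      simp only [map_mul, map_inv]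
      exact key (commutator_mem_commutator b2 c2), rfl⟩
  · rintro ⟨b, h1, h2⟩
    obtain rfl : b = a' := Subtype.ext h2
    rcases (H85.mem_zpowers_of_sq gg').1 h1 with e | e
    · exact aK ((hf _).1 e)
    · exact ga ((hf (a' * (x' * y' * x'⁻¹ * y'⁻¹))).1 (by simp only [map_mul, map_inv]; rw [← e, aa']))

end H49.NW
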