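import Cfsg.Agent.H49.D8Kit
import Cfsg.Agent.H88.ASBase

/-! D8: frames of a quasisimple subgroup `A`, `K = C(A)`, `N = N(A)`. -/

set_option autoImplicit false
set_option linter.unusedSectionVars false

namespace H49.D8

open Subgroup Cfsg H98 H14 H1.Gold H85.FZ

universe u

variable {G : Type u} [Group G] [Finite G] {v s z d e g h x y c c' σ ρ : G} {A K T W : Subgroup G}

theorem eq_one_of_odd_two {O : Subgroup G} (o : Odd (Nat.card O)) (hT : IsPGroup 2 T) (h1 : x ∈ O)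
    (h2 : x ∈ T) : x = 1 := by
  obtain ⟨k, hk⟩ := isPGroup_iff_forall.1 hT x h2
  exact H69.eq_one_of_odd_of_pow_two_pow (o.of_dvd_nat (O.orderOf_dvd_natCard h1)) hk

theorem te_one (hK : IsTightlyEmbedded K) (hg : g ∉ nor K) (hT : IsPGroup 2 T) (h1 : x ∈ K)
    (h2 : x ∈ cj g K) (h3 : x ∈ T) : x = 1 := eq_one_of_odd_two (hK.2 g hg) hT ⟨h1, h2⟩ h3

theorem norK : nor A ≤ nor (cen A) := normalizer_le_normalizer_centralizer A

namespace Fr

variable (f : Fr (nor A) A (cen A) T v s z)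
include f

theorem cjK (hx : x ∈ T) (hy : y ∈ cen A) : x * y * x⁻¹ ∈ cen A :=
  conj_mem_of_mem_normalizer (norK (f.syl.le hx)) hy

theorem zA : z ∈ A := f.D_leA f.toDH.z_mem

theorem zC : z ∈ T ⊓ cen (cl [v, s]) := ⟨f.D_le f.toDH.z_mem, f.toDH.z_cen⟩

theorem cD (hc : c ∈ T ⊓ cen (cl [v, s])) (hd : d ∈ cl [v, s]) : d * c = c * d := mcen.1 hc.2 d hd

theorem KC (h1 : c ∈ T) (h2 : c ∈ cen A) : c ∈ T ⊓ cen (cl [v, s]) :=
  ⟨h1, centralizer_anti f.D_leA h2⟩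

theorem sqK (hc : c ∈ T ⊓ cen (cl [v, s])) : c * c ∈ cen A := by
  by_cases i : In (cen A) z c
  · rcases i with i | i
    · exact mul_mem i i
    · have := mul_mem i i
      rwa [mul_assoc, ← mul_assoc z, f.cD hc f.toDH.z_mem, mul_assoc, f.zz, mul_one] at this
  · exact (f.out c hc i).1

theorem comK (hc : c ∈ T ⊓ cen (cl [v, s])) (hc' : c' ∈ T ⊓ cen (cl [v, s])) :
    c * c' * c⁻¹ * c'⁻¹ ∈ cen A := by
  have := mul_mem (mul_mem (f.sqK (mul_mem hc hc')) (f.cjK (inv_mem hc'.1) (inv_mem (f.sqK hc))))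
    (inv_mem (f.sqK hc'))
  rwa [show c * c' * (c * c') * (c'⁻¹ * (c * c)⁻¹ * c'⁻¹⁻¹) * (c' * c')⁻¹ = c * c' * c⁻¹ * c'⁻¹ by
    group] at this

theorem inner (i : In (cen A) z c) (hd : d ∈ cl [v, s]) : c * d ∈ cen A ⊔ A := by
  rcases i with i | i
  · exact mul_mem_sup i (f.D_leA hd)
  · have := mul_mem_sup i (A.mul_mem f.zA (f.D_leA hd))
    rwa [mul_assoc, ← mul_assoc z, f.zz, one_mul] at this

/-- One of `c`, `c z` commutes with a `σ`. -/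
theorem exA (hc : c ∈ T ⊓ cen (cl [v, s])) :
    ∃ w, (w = c ∨ w = c * z) ∧ ∃ σ ∈ A, Tri σ z v ∧ σ * w = w * σ := by
  by_cases i : In (cen A) z c
  · obtain ⟨σ, h1, h2⟩ := f.triA
    rcases i with i | i
    exacts [⟨_, Or.inl rfl, σ, h1, h2, mcen.1 i σ h1⟩, ⟨_, Or.inr rfl, σ, h1, h2, mcen.1 i σ h1⟩]
  · obtain ⟨-, w, hw, k, -⟩ := f.out c hc i
    exact ⟨w, hw, k⟩

theorem shift (hc : c ∈ T ⊓ cen (cl [v, s])) (hd : d ∈ cl [v, z]) {w : G} (hw : w = c ∨ w = c * z) :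
    w ∈ T ⊓ cen (cl [v, s]) ∧ ∃ d' ∈ cl [v, z], c * d = w * d' := by
  rcases hw with rfl | rfl
  · exact ⟨hc, d, hd, rfl⟩
  · exact ⟨mul_mem hc f.zC, z * d, mul_mem (m2 _ _) hd, by
      rw [mul_assoc, ← mul_assoc z, f.zz, one_mul]⟩

theorem N1V (hc : c ∈ T ⊓ cen (cl [v, s])) (hd : d ∈ cl [v, z]) :
    ∃ a ∈ A, ∃ w, (w = c ∨ w = c * z) ∧ a * (c * d) * a⁻¹ = w := by
  obtain ⟨w, hw, σ, h1, h2, h3⟩ := f.exA hc
  obtain ⟨-, d', hd', e⟩ := f.shift hc hd hw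
  by_cases d1 : d' = 1
  · exact ⟨1, one_mem _, w, hw, by rw [e, d1]; group⟩
  obtain ⟨y, hy, ey⟩ := h2.to_z f.toDH hd' d1
  refine ⟨y, zpowers_le.2 h1 hy, w * z, ?_, ?_⟩
  · rcases hw with rfl | rfl
    exacts [Or.inr rfl, Or.inl (by rw [mul_assoc, f.zz, mul_one])]
  · rw [e, ← mul_assoc, mc1.1 ((zpowers_le.2 (mc1.2 h3) : _ ≤ cen1 w) hy), ← ey]; group

variable (o : Odd (Nat.card ↥(A ⊓ cen A)))
include o

theorem DK (hd : d ∈ cl [v, s]) (k : d ∈ cen A) : d = 1 :=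
  eq_one_of_odd_two o f.toDH.two ⟨f.D_leA hd, k⟩ hd

theorem zK : z ∉ cen A := fun k => f.z1 (f.DK o f.toDH.z_mem k)

theorem sq2 (hc : c ∈ T ⊓ cen (cl [v, s])) (hd : d ∈ cl [v, s]) (k : c * d * (c * d) = 1) :
    c * c = 1 ∧ d * d = 1 := by
  rw [mul_assoc, ← mul_assoc d, f.cD hc hd, mul_assoc, ← mul_assoc] at k
  have : d * d = 1 := f.DK o (mul_mem hd hd) (by
    rw [eq_inv_of_mul_eq_one_right k]; exact inv_mem (f.sqK hc))
  exact ⟨by rwa [this, mul_one] at k, this⟩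

/-- An involution of `T ⊓ N(V)` is conjugate under `A` into `T ⊓ C(D)`. -/
theorem N1 (hx : x ∈ T) (xx : x * x = 1) (k : x * v * x⁻¹ ∈ cl [v, z]) :
    ∃ a ∈ A, a * x * a⁻¹ ∈ T ⊓ cen (cl [v, s]) := by
  obtain ⟨c, hc, d, hd, rfl⟩ := f.dec le_rfl hx k
  have fin : (∃ a ∈ A, ∃ w, (w = c ∨ w = c * z) ∧ a * (c * d) * a⁻¹ = w) →
      ∃ a ∈ A, a * (c * d) * a⁻¹ ∈ T ⊓ cen (cl [v, s]) := by
    rintro ⟨a, ha, w, rfl | rfl, e⟩
    exacts [⟨a, ha, e.symm ▸ hc⟩, ⟨a, ha, e.symm ▸ mul_mem hc f.zC⟩]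
  rcases f.toDH.inv hd (f.sq2 o hc hd xx).2 with m | m
  exacts [fin (f.N1V hc m), fin ((f.swap le_rfl).N1V (cl_sw v s ▸ hc) m)]

omit o in
theorem nv_of_inner (hx : x ∈ T) (i : x ∈ cen A ⊔ A) : x * v * x⁻¹ ∈ cl [v, z] := by
  by_contra n
  obtain ⟨k, hk, a, ha, rfl⟩ := (mem_sup_right_norm (le_normalizer.trans norK)).1 i
  refine f.toDH.not_conj (f.sylA le_normalizer le_rfl) ha (map_le_iff_le_comap.2 fun d hd => ?_)
  have := f.toDH.sw_V (f.nD le_rfl hx) n hd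
  rwa [show k * a * d * (k * a)⁻¹ = k * (a * d * a⁻¹) * k⁻¹ by group, ← mcen.1 hk _
    (mul_mem (mul_mem ha (f.D_leA (f.toDH.V_le hd))) (inv_mem ha)), mul_inv_cancel_right] at this

omit o in
theorem in_of_inner (hc : c ∈ T ⊓ cen (cl [v, s])) (i : c ∈ cen A ⊔ A) : In (cen A) z c := by
  obtain ⟨k, hk, a, ha, e⟩ := (mem_sup_right_norm (le_normalizer.trans norK)).1 i
  have aC : a ∈ cen (cl [v, s]) := by
    rw [show a = k⁻¹ * c by rw [e]; group]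
    exact mul_mem (inv_mem (centralizer_anti f.D_leA hk)) hc.2
  obtain ⟨m, j, ⟨i, rfl⟩, hj⟩ := H69.exists_odd_pow_two_element a
  have hD := zpowers_le.1 ((f.sylA le_normalizer le_rfl).le_of_le_normalizer' (isPGroup_zpowers hj)
    (zpowers_le.2 (pow_mem ha _)) (zpowers_le.2 (centralizer_le_normalizer _ (pow_mem aC _))))
  have e2 : (c * c) ^ i * c = k ^ (2 * i + 1) * a ^ (2 * i + 1) := by
    rw [← pow_two, ← pow_mul, ← pow_succ, e, Commute.mul_pow (mcen.1 hk a ha).symm]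
  have s2 := pow_mem (f.sqK hc) i
  rcases f.toDH.cenD hD (pow_mem aC _) with q | q <;> rw [q] at e2
  · exact Or.inl ((mul_mem_cancel_left s2).1 (by rw [e2, mul_one]; exact pow_mem hk _))
  · exact Or.inr ((mul_mem_cancel_left s2).1 (by
      rw [← mul_assoc, e2, mul_assoc, f.zz, mul_one]; exact pow_mem hk _))

omit o in
theorem fixD (hg : g ∈ T) (hc : c ∈ T ⊓ cen (cl [v, s])) (hd : d ∈ cl [v, s])
    (k : g * (c * d) = c * d * g) : g * c * g⁻¹ * c⁻¹ = d * (g * d * g⁻¹)⁻¹ := by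
  have m := conj_mem_of_mem_normalizer (f.nD le_rfl hg) hd
  calc _ = g * (c * d) * g⁻¹ * (g * d * g⁻¹)⁻¹ * c⁻¹ := by group
    _ = c * (d * (g * d * g⁻¹)⁻¹) * c⁻¹ := by rw [k]; group
    _ = _ := by rw [← f.cD hc (mul_mem hd (inv_mem m)), mul_inv_cancel_right]

/-- An involution of `T ⊓ N(V)` that commutes with an interchanging element is inner. -/
theorem inner_of_sw (hg : g ∈ T) (n : g * v * g⁻¹ ∉ cl [v, z]) (hx : x ∈ T) (xx : x * x = 1)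
    (k : x * v * x⁻¹ ∈ cl [v, z]) (e : g * x = x * g) : x ∈ cen A ⊔ A := by
  obtain ⟨c, hc, d, hd, rfl⟩ := f.dec le_rfl hx k
  refine f.inner (by_contra fun i => ?_) hd
  have m := conj_mem_of_mem_normalizer (f.nD le_rfl hg) hd
  have := f.mv g hg n c hc i
  rw [f.fixD hg hc hd e] at this
  have q := f.DK o (mul_mem (mul_mem hd (inv_mem m)) f.toDH.z_mem) this
  rw [mul_assoc, f.toDH.cz (inv_mem m), ← mul_assoc, mul_inv_eq_one] at q
  rcases (f.toDH.rot (f.nD le_rfl hg) n hd (Or.inr q.symm)).2 (f.sq2 o hc hd xx).2 with rfl | rfl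
  · exact f.z1 (by simpa using q)
  · rw [(f.toDH.aut (f.nD le_rfl hg)).1, f.zz] at q
    exact f.z1 q.symm

theorem f3 (hx : x ∈ T) (hy : y ∈ T) (xx : x * x = 1) (yy : y * y = 1) (e : x * y = y * x) :
    x ∈ cen A ⊔ A ∨ y ∈ cen A ⊔ A ∨ x * y ∈ cen A ⊔ A := by
  by_cases a : x * v * x⁻¹ ∈ cl [v, z] <;> by_cases b : y * v * y⁻¹ ∈ cl [v, z]
  · obtain ⟨c, hc, d, hd, rfl⟩ := f.dec le_rfl hx a
    obtain ⟨c', hc', d', hd', rfl⟩ := f.dec le_rfl hy b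
    refine (f.idx c hc c' hc').imp (f.inner · hd) (Or.imp (f.inner · hd') fun i => ?_)
    have := f.inner i (mul_mem hd hd')
    rwa [mul_assoc, ← mul_assoc c', ← f.cD hc' hd, mul_assoc, ← mul_assoc c] at this
  · exact Or.inl (f.inner_of_sw o hy b hx xx a e.symm)
  · exact Or.inr (Or.inl (f.inner_of_sw o hx a hy yy b e))
  · refine Or.inr (Or.inr (f.inner_of_sw o hx a (mul_mem hx hy) ?_
      ((f.toDH.nv_mul (f.nD le_rfl hx) (f.nD le_rfl hy)).2 (iff_of_false a b)) (by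
        rw [mul_assoc, ← e])))
    rw [mul_assoc, ← mul_assoc y, ← e, mul_assoc, yy, mul_one, xx]

omit o in
theorem f2V (hc : c ∈ T ⊓ cen (cl [v, s])) (hd : d ∈ cl [v, z]) (i : ¬ In (cen A) z c) :
    ∃ a ∈ A, ∃ y ∈ A, orderOf y = 2 ∧ a * (c * d) * a⁻¹ = y * (c * d) := by
  obtain ⟨-, w, hw, ⟨σ, h1, h2, h3⟩, ρ, h4, h5, h6⟩ := f.out c hc i
  obtain ⟨hw', d', hd', e⟩ := f.shift hc hd hw
  have D := f.toDH
  rw [e]
  by_cases d1 : d' = 1
  · have zs : s * z ∈ cl [s, z] := mul_mem (m1 _ _) (m2 _ _)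
    refine ⟨ρ, h4, s * z, f.D_leA (D.V'_le zs), orderOf_two_of_mul_self (D.swap.sqV zs) fun q =>
      D.s_not ((mul_mem_cancel_right (m2 v z)).1 (q ▸ one_mem _)), ?_⟩
    calc _ = ρ * (w * z) * ρ⁻¹ * (ρ * z * ρ⁻¹) := by
          rw [d1, mul_one, show ρ * (w * z) * ρ⁻¹ * (ρ * z * ρ⁻¹) = ρ * (w * (z * z)) * ρ⁻¹ by group,
            f.zz, mul_one]
      _ = _ := by rw [h6, h5.1, d1, mul_one, mul_inv_cancel_right, f.cD hw' (D.V'_le zs), f.sz,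
          mul_assoc]
  · have m := conj_mem_of_mem_normalizer h2.nor hd'
    have y1 := mul_mem m (inv_mem hd')
    refine ⟨σ, h1, _, f.D_leA (D.V_le y1), orderOf_two_of_mul_self (D.sqV y1) fun q => ?_, ?_⟩
    · rw [mul_inv_eq_one] at q
      obtain ⟨y, hy, ey⟩ := h2.to_z D hd' d1
      rw [mc1.1 ((zpowers_le.2 (mc1.2 (mul_inv_eq_iff_eq_mul.1 q)) : _ ≤ cen1 d') hy),
        mul_inv_cancel_right] at ey
      rw [ey, h2.1] at q
      exact D.swap.s_not (q ▸ m2 _ _)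
    · rw [← mul_assoc, h3, ← mul_assoc, f.cD hw' (D.V_le y1)]; group

theorem f2 (hx : x ∈ T) (xx : x * x = 1) (i : x ∉ cen A ⊔ A) :
    ∃ a ∈ A, ∃ y ∈ A, orderOf y = 2 ∧ a * x * a⁻¹ = y * x := by
  have D := f.toDH
  by_cases k : x * v * x⁻¹ ∈ cl [v, z]
  · obtain ⟨c, hc, d, hd, rfl⟩ := f.dec le_rfl hx k
    rcases D.inv hd (f.sq2 o hc hd xx).2 with m | m
    exacts [f.f2V hc m fun j => i (f.inner j hd),
      (f.swap le_rfl).f2V (cl_sw v s ▸ hc) m fun j => i (f.inner j hd)]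
  have nx := f.nD le_rfl hx
  have ix := inv_eq_of_mul_eq_one_right xx
  have back : x * (x * v * x⁻¹) * x⁻¹ = v := by
    rw [ix, ← mul_assoc, ← mul_assoc, xx, one_mul, mul_assoc, xx, mul_one]
  have e : x * (s * v) * x⁻¹ = v * s := by
    rw [show x * (s * v) * x⁻¹ = x * s * x⁻¹ * (x * v * x⁻¹) by group]
    obtain ⟨a | a, b | b⟩ := D.of_sw nx k <;> rw [a] at back ⊢
    · rw [b]
    · rw [b] at back; exact absurd (by simpa using back) D.z1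
    · rw [show x * (s * z) * x⁻¹ = x * s * x⁻¹ * (x * z * x⁻¹) by group, b, (D.aut nx).1] at back
      exact absurd (by simpa using back) D.z1
    · rw [b, mul_assoc, ← mul_assoc z, ← D.sz, mul_assoc, D.zz, mul_one]
  refine ⟨v * s, f.D_leA (mul_mem (m1 _ _) (m2 _ _)), z, f.zA, orderOf_two_of_mul_self D.zz D.z1, ?_⟩
  rw [mul_inv_rev, inv_eq_of_mul_eq_one_right D.vv, inv_eq_of_mul_eq_one_right D.ss, mul_assoc,
    mul_inv_eq_iff_eq_mul.1 e, ← mul_assoc, D.vsvs]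

omit o in
theorem four_aux {K' : Subgroup G} (hK : IsTightlyEmbedded K') (hc : c ∈ T ⊓ cen (cl [v, s]))
    (cK : c ∈ K') (cc : c * c = 1) (i : ¬ In (cen A) z c) (hy : y ∈ K') (yz : y * z ∈ cen A)
    (h1 : σ ∈ A) (h2 : Tri σ z v) (h3 : σ * c = c * σ) (h5 : Tri ρ z s)
    (h6 : ρ * (c * z) = c * z * ρ) : cl [v, s] ≤ K' := by
  have n1 : σ ∈ nor K' := te_centralizer_le hK (orderOf_two_of_mul_self cc fun q =>
    i (Or.inl (q ▸ one_mem _))) cK (mc1.2 h3)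
  have e : y⁻¹ * (σ * y * σ⁻¹) = z * v := by
    have := mcen.1 yz σ h1
    calc _ = y⁻¹ * (σ * (y * z) * σ⁻¹) * (σ * z * σ⁻¹) := by
          rw [show y⁻¹ * (σ * (y * z) * σ⁻¹) * (σ * z * σ⁻¹) = y⁻¹ * (σ * (y * (z * z)) * σ⁻¹) by
            group, f.zz, mul_one]
      _ = _ := by rw [this, h2.1]; group
  have vz : v * z ∈ K' := by
    rw [f.vz, ← e]; exact mul_mem (inv_mem hy) (conj_mem_of_mem_normalizer n1 hy)
  have hz : z ∈ K' := h2.vz f.toDH ▸ conj_mem_of_mem_normalizer n1 vz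
  have n2 : ρ ∈ nor K' := te_centralizer_le hK (orderOf_two_of_mul_self (by
    rw [mul_assoc, ← mul_assoc z, f.cD hc f.toDH.z_mem, mul_assoc, f.zz, mul_one, cc]) fun q =>
      i (Or.inr (by rw [q]; exact one_mem _))) (mul_mem cK hz) (mc1.2 h6)
  exact cl2_le ((mul_mem_cancel_right hz).1 vz) (h5.1 ▸ conj_mem_of_mem_normalizer n2 hz)

omit o in
theorem four (hK : IsTightlyEmbedded (cen A)) (hg : g ∉ nor (cen A))
    (hW : W ≤ H98.cj g (cen A) ⊓ (T ⊓ cen (cl [v, s]))) (h4 : 4 ≤ Nat.card W) :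
    cl [v, s] ≤ H98.cj g (cen A) := by
  have one : ∀ a ∈ W, a ∈ cen A → a = 1 := fun a ha k =>
    te_one hK hg f.syl.isPGroup k (hW ha).1 (hW ha).2.1
  have sq : ∀ a ∈ W, a * a = 1 := fun a ha => one _ (mul_mem ha ha) (f.sqK (hW ha).2)
  have main : ∀ c ∈ W, ¬ In (cen A) z c → ∀ y ∈ W, y ≠ 1 → In (cen A) z y →
      cl [v, s] ≤ H98.cj g (cen A) := fun c hc i y hy y1 j => by
    have yz := j.resolve_left fun q => y1 (one y hy q)
    obtain ⟨-, w, rfl | rfl, ⟨σ, h1, h2, h3⟩, ρ, h4, h5, h6⟩ := f.out c (hW hc).2 i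
    · exact f.four_aux (te_cj hK g) (hW hc).2 (hW hc).1 (sq _ hc) i (hW hy).1 yz h1 h2 h3 h5 h6
    · rw [mul_assoc c, f.zz, mul_one] at h6
      exact cl_sw s v ▸ (f.swap le_rfl).four_aux (te_cj hK g) (cl_sw v s ▸ (hW hc).2) (hW hc).1
        (sq _ hc) i (hW hy).1 yz h4 h5 h6 h2 h3
  have uq : ∀ a ∈ W, ∀ b ∈ W, a ≠ 1 → b ≠ 1 → In (cen A) z a → In (cen A) z b → a * b = 1 :=
    fun a ha b hb a1 b1 i j => one _ (mul_mem ha hb) (by
      have := mul_mem (i.resolve_left fun q => a1 (one a ha q)) (j.resolve_left fun q => b1 (one b hb q))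
      rwa [mul_assoc a, ← mul_assoc z, f.cD (hW hb).2 f.toDH.z_mem, mul_assoc b, f.zz, mul_one] at this)
  obtain ⟨a, ha, oa⟩ := H88.exists_involution_of_isPGroup (f.syl.isPGroup.to_le
    (hW.trans (inf_le_right.trans inf_le_left))) (fun e => by rw [e, card_bot] at h4; omega)
  obtain ⟨b, hb, nb⟩ : ∃ b ∈ W, b ∉ zpowers a := by
    by_contra n
    push Not at n
    have := card_le_of_le (show W ≤ zpowers a from n)
    rw [Nat.card_zpowers, oa] at this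
    omega
  have a1 := ne_one_of_two oa
  have b1 : b ≠ 1 := fun q => nb (q ▸ one_mem _)
  have ab : a * b ≠ 1 := fun q => nb (eq_inv_of_mul_eq_one_right q ▸ inv_mem (mem_zpowers a))
  by_cases i : In (cen A) z a
  · exact main b hb (fun j => ab (uq a ha b hb a1 b1 i j)) a ha a1 i
  · rcases (f.idx a (hW ha).2 b (hW hb).2).resolve_left i with j | j
    exacts [main a ha i b hb b1 j, main a ha i _ (mul_mem ha hb) ab j]

omit o in
theorem com_eq (hc : c ∈ T ⊓ cen (cl [v, s])) (hd : d ∈ cl [v, s])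
    (hc' : c' ∈ T ⊓ cen (cl [v, s])) (he : e ∈ cl [v, s]) :
    c * d * (c' * e) * (c * d)⁻¹ * (c' * e)⁻¹ = c * c' * c⁻¹ * c'⁻¹ * (d * e * d⁻¹ * e⁻¹) := by
  have q := f.cD (mul_mem (inv_mem hc) (inv_mem hc')) (mul_mem (mul_mem (mul_mem hd he)
    (inv_mem hd)) (inv_mem he))
  calc _ = c * (d * c') * e * d⁻¹ * (c⁻¹ * e⁻¹) * c'⁻¹ := by group
    _ = c * c' * (d * e * d⁻¹ * e⁻¹ * (c⁻¹ * c'⁻¹)) := by
        rw [f.cD hc' hd, ← f.cD (inv_mem hc) (inv_mem he)]; group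
    _ = _ := by rw [q]; group

omit o in
theorem com0 (hx : x ∈ T) (a : x * v * x⁻¹ ∈ cl [v, z]) (hy : y ∈ T) (b : y * v * y⁻¹ ∈ cl [v, z]) :
    In (cen A) z (x * y * x⁻¹ * y⁻¹) := by
  obtain ⟨c, hc, d, hd, rfl⟩ := f.dec le_rfl hx a
  obtain ⟨c', hc', e, he, rfl⟩ := f.dec le_rfl hy b
  rw [f.com_eq hc hd hc' he]
  rcases f.toDH.com hd he with q | q <;> rw [q]
  · exact Or.inl (by simpa using f.comK hc hc')
  · refine Or.inr ?_
    rw [f.toDH.cz (mul_mem he hd), show z * (e * d) * d⁻¹ * e⁻¹ = z by group, mul_assoc, f.zz, mul_one]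
    exact f.comK hc hc'

omit o in
theorem comδ (hg : g ∈ T) (n : g * v * g⁻¹ ∉ cl [v, z]) (hx : x ∈ T) (a : x * v * x⁻¹ ∈ cl [v, z])
    (hy : y ∈ T) (b : y * v * y⁻¹ ∈ cl [v, z]) (e1 : g * x = x * g) (e2 : g * y = y * g) :
    x * y * x⁻¹ * y⁻¹ ∈ cen A := by
  obtain ⟨c, hc, d, hd, rfl⟩ := f.dec le_rfl hx a
  obtain ⟨c', hc', e, he, rfl⟩ := f.dec le_rfl hy b
  have ng := f.nD le_rfl hg
  have key : ∀ {c d : G}, c ∈ T ⊓ cen (cl [v, s]) → d ∈ cl [v, s] → g * (c * d) = c * d * g →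
      d * (v * s) = v * s * d := fun {c d} hc hd k => by
    have m := conj_mem_of_mem_normalizer ng hd
    refine (f.toDH.rot ng n hd ?_).1
    rcases f.toDH.cenD (mul_mem hd (inv_mem m)) (f.fixD hg hc hd k ▸ mul_mem
      (conj_mem_of_mem_normalizer (normalizer_le_normalizer_centralizer _ ng) hc.2) (inv_mem hc.2))
      with q | q
    · exact Or.inl (mul_inv_eq_one.1 q).symm
    · refine Or.inr ?_
      rw [mul_inv_eq_iff_eq_mul] at q
      rw [f.toDH.cz hd]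
      conv_rhs => rw [q, ← mul_assoc, f.zz, one_mul]
  rw [f.com_eq hc hd hc' he, f.toDH.rot_com hd he (key hc hd e1) (key hc' he e2)]
  simpa using f.comK hc hc'

end Fr

end H49.D8
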