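import Cfsg.Agent.H85.L3Spec
import Cfsg.Agent.H85.DYNW4

/-! L33, job N4: port of `H49/NWN4` to the tower `H85.DY`. -/

set_option autoImplicit false
set_option linter.unusedSectionVars false

namespace H49.L33
open H49.NW hiding Wr WrN WrW
open H85.DY.NW

open Subgroup Cfsg H14 H98 H1.Gold H31.S2 H85.FZ H49.D8 H85.DZ

universe u

variable {G : Type u} [Group G] [Finite G] {t v s u a σ ρ g d e j y n : G} {x : ℕ → G}
  {Z S X Y K : Subgroup G} {p q : D4}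

section

variable (h : Wr t v s u a σ ρ x Z)
include h

theorem DX (hX : AS X t) : H x 6 ≤ X := by
  have k : ∀ i < 2, x i ∈ X := fun i hi => h.zs.zsq i hi ▸ (as_mul hX h.tt _ _).2 Iff.rfl
  have k' : ∀ i < 4, x (i + 2) ∈ X := fun i hi => (as_conj hX (h.fz i hi)).1 (k _ (by omega))
  exact H_le fun i hi => by
    interval_cases i
    exacts [k 0 (by decide), k 1 (by decide), k' 0 (by decide), k' 1 (by decide), k' 2 (by decide),
      k' 3 (by decide)]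

variable (hS : IsSyl 2 S ⊤) (o : Ov t x Z S)
include hS o

theorem leK (YS : Y ≤ S) (hU : ∀ g ∈ Y, g ∈ Z ⊔ H x 6 → g ∈ K) {y y' : G} (hy : y ∈ Y ⊓ K)
    (hy' : y' ∈ Y ⊓ K) (k : Pi x Z y p) (k' : Pi x Z y' q) (hp : ∀ g ∈ Y, ∀ r, Pi x Z g r →
      r ∈ [1, p, q, p * q, q * p, p * q * p, q * p * q, p * q * (p * q)]) : Y ≤ K := fun g hg => by
  obtain ⟨r, kr⟩ := h.zs.exP (o.le (YS hg))
  have f : ∀ c ∈ Y ⊓ K, Pi x Z c r → g ∈ K := fun c hc kc => (K.mul_mem_cancel_left (K.inv_mem hc.2)).1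
    (hU _ (mul_mem (inv_mem hc.1) hg) (h.ker2 o (YS hg) (YS hc.1) kr kc))
  have := hp g hg r kr
  simp only [List.mem_cons, List.not_mem_nil, or_false] at this
  have m := h.zs.pmul k k'
  have m' := h.zs.pmul k' k
  rcases this with rfl | rfl | rfl | rfl | rfl | rfl | rfl | rfl
  exacts [f 1 (one_mem _) (h.zs.pone (one_mem _)), f _ hy k, f _ hy' k', f _ (mul_mem hy hy') m,
    f _ (mul_mem hy' hy) m', f _ (mul_mem (mul_mem hy hy') hy) (h.zs.pmul m k),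
    f _ (mul_mem (mul_mem hy' hy) hy') (h.zs.pmul m' k'),
    f _ (mul_mem (mul_mem hy hy') (mul_mem hy hy')) (h.zs.pmul m m)]

theorem noa (hn : ¬ ∃ n ∈ S, Pi x Z n pa) (hg : g ∈ S) (k : Pi x Z g p) :
    p = 1 ∨ p = pt ∨ p = pc ∨ p = pt' := by
  rcases (by decide +kernel : ∀ p : D4, (p = 1 ∨ p = pt ∨ p = pc ∨ p = pt') ∨ p = pa ∨
    pt * p * pt⁻¹ = pa ∨ pt * p = pa ∨ p * pt = pa) p with e | e | e | e | e
  exacts [e, absurd ⟨_, hg, e ▸ k⟩ hn,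
    absurd ⟨_, mul_mem (mul_mem o.tS hg) (inv_mem o.tS), e ▸ h.zs.pcj h.tP k⟩ hn,
    absurd ⟨_, mul_mem o.tS hg, e ▸ h.zs.pmul h.tP k⟩ hn,
    absurd ⟨_, mul_mem hg o.tS, e ▸ h.zs.pmul k h.tP⟩ hn]

theorem notc (hg : g ∈ Z ⊔ H x 6) (k : Pi x Z y pc) : g * y ∉ Z ⊔ H x 6 := fun e =>
  absurd (h.zs.uniq (h.zs.pmul (h.zs.pone hg) k) (h.zs.pone e)) (by decide)

end

section

variable (h : WrN t v s u a σ ρ x Z)
include h

theorem aΦN (hg : g ∈ nor (Z ⊔ H x 6)) : g * a * g⁻¹ * a ∈ H x 6 := by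
  have m := h.zs.cjZ hg h.aZ
  rw [mem_cen_iff.1 (ab_of_sq h.Z2 m) _ h.aZ]
  refine H_mono (by decide) ((h.hZ _ m).resolve_left fun e => h.aD (H_mono (j := 2) (by decide) ?_))
  exact (mem_normalizer_iff.1 (h.zs.norΦ hg) a).2 e

theorem UKN (l : List G) (hg : g ∈ Z ⊔ H x 6) : g ∈ H x 6 ⊔ cl (a :: l) :=
  (h.UD hg).elim mem_sup_left fun k =>
    (mul_mem_cancel_left (mem_sup_right (mem_cl (by simp)))).1 (mem_sup_left k)

theorem aXN (hX : AS X t) (hS : IsSyl 2 S ⊤) (o : Ov t x Z S) (tX : t ∉ X) : a ∉ X := fun aX => by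
  have nD := fun g (hg : g ∈ S) => h.norD hS o (o.le hg)
  have aU : a ∈ Z ⊔ H x 6 := mem_sup_left h.aZ
  have Ua : Z ⊔ H x 6 ≤ cen1 a := fun y hy => mem_cen1.2 (h.zs.cm' h.aZ hy)
  by_cases hn : ∃ n ∈ S, Pi x Z n pa
  · obtain ⟨n, hn, k⟩ := hn
    have kj := h.zs.pcj k h.tP
    have mj := mul_mem (mul_mem hn o.tS) (inv_mem hn)
    have e : t * n * t⁻¹ * n⁻¹ = t * (n * t * n⁻¹) := by rw [h.ti]; group
    obtain ⟨D, h1, h2, h3⟩ := gen (Y := S) (K := H x 6) (a := a) (x := t) (y := n)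
      ((leK h.toWr) hS o le_rfl (fun g _ => (UKN h) _) ⟨o.tS, mem_sup_right (mem_cl (by simp))⟩
        ⟨hn, mem_sup_right (mem_cl (by simp))⟩ h.tP k fun _ _ r _ => allD r)
      (nD _ (o.U aU)) (nD _ o.tS) (nD _ hn) ((aΦN h) h.tP.1) ((aΦN h) k.1) h.aa (Or.inl (h.tt ▸ one_mem _))
      (h.UD (h.ker o (mul_mem hn hn) (h.zs.pmul k k))) (by
        rw [e]
        exact (h.UD (h.ker o (mul_mem (mul_mem o.tS mj) (mul_mem o.tS mj)) (h.zs.pmul
          (h.zs.pmul h.tP kj) (h.zs.pmul h.tP kj)))).resolve_right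
          (h.sqc hS o (mul_mem o.tS mj) (h.zs.pmul h.tP kj))) h.aD
      (by rw [e]; exact fun m => (notc h.toWr) hS o aU (h.zs.pmul h.tP kj) (mem_sup_right m))
    exact trG hX hS h1 h.aa h3 aU o.U Ua (fun g le => h2 ((aΦN h) (h.wcU o le))) aX
  have UX : Z ⊔ H x 6 ≤ X := fun g hg => (h.UD hg).elim (fun k => (DX h.toWr) hX k) fun k =>
    (mul_mem_cancel_left aX).1 ((DX h.toWr) hX k)
  have nt : ∀ g ∈ S ⊓ X, ¬ Pi x Z g pt := fun g hg k =>
    tX ((X.mul_mem_cancel_right hg.2).1 (UX (h.kert o hg.1 k)))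
  obtain ⟨g, hg, q, k, qq, hq⟩ : ∃ g ∈ S ⊓ X, ∃ q, Pi x Z g q ∧ q * q = 1 ∧
      ∀ y ∈ S ⊓ X, ∀ r, Pi x Z y r → r = 1 ∨ r = q := by
    by_cases c : ∃ g ∈ S ⊓ X, ∃ q, Pi x Z g q ∧ q ≠ 1
    · obtain ⟨g, hg, q, k, q1⟩ := c
      have c1 := (noa h.toWr) hS o hn hg.1 k
      have c2 : q ≠ pt := fun e => nt g hg (e ▸ k)
      refine ⟨g, hg, q, k, by rcases c1 with rfl | rfl | rfl | rfl <;> rfl, fun y hy r kr => ?_⟩
      exact (by decide +kernel : ∀ q r : D4, (q = 1 ∨ q = pt ∨ q = pc ∨ q = pt') → q ≠ 1 → q ≠ pt →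
        (r = 1 ∨ r = pt ∨ r = pc ∨ r = pt') → r ≠ pt → r * q ≠ pt → r = 1 ∨ r = q) q r c1 q1 c2
        ((noa h.toWr) hS o hn hy.1 kr) (fun e => nt y hy (e ▸ kr))
        fun e => nt _ (mul_mem hy hg) (e ▸ h.zs.pmul kr k)
    · exact ⟨1, one_mem _, 1, h.zs.pone (one_mem _), rfl, fun y hy r kr =>
        Or.inl (by_contra fun e => c ⟨y, hy, r, kr, e⟩)⟩
  obtain ⟨D, h1, h2, h3⟩ := gen (Y := S ⊓ X) (K := H x 6) (a := a) (x := g) (y := 1)
    ((leK h.toWr) hS o inf_le_left (fun g _ => (UKN h) _) ⟨hg, mem_sup_right (mem_cl (by simp))⟩ (one_mem _) k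
      (h.zs.pone (one_mem _)) fun y hy r kr => by rcases hq y hy r kr with rfl | rfl <;> simp)
    (nD _ (o.U aU)) (nD _ hg.1) (one_mem _) ((aΦN h) k.1) ((aΦN h) (one_mem _)) h.aa
    (h.UD (h.ker o (mul_mem hg.1 hg.1) (qq ▸ h.zs.pmul k k))) (Or.inl (by simp)) (by simp) h.aD
    (by simpa using h.aD)
  exact trX hX hS h1 h.aa h3 aU (le_inf o.U UX) Ua fun g _ le => h2 ((aΦN h) (h.wcU o le))

end

theorem jobN4 : H85.L33.JobN4.{u} := by
  intro G _ _ X t v s u a σ ρ x Z hX h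
  obtain ⟨S, hS, o⟩ := h.exS
  have tX := h.tX hS o hX (Or.inl fun g hg => (h.narA g hg).2)
  have aX := (aXN h) hX hS o tX
  obtain ⟨e1, e2, e3⟩ := elem h.toTr.pres h.toTr.ind [(0, [3, 0]), (1, [1, 0]), (2, [2])]
    [t * a, u * a, v] (by simp) (fun i hi => by
      change i < 3 at hi; interval_cases i <;> simp [app]) (show elOK _ _ 3 = true by decide +kernel)
  have EX : cl [t * a, u * a, v] ≤ X := cl_le.2 fun y hy => by
    simp only [List.mem_cons, List.not_mem_nil, or_false] at hy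
    rcases hy with rfl | rfl | rfl
    exacts [(as_mul hX h.tt _ _).2 (by simp [tX, aX]), (DX h.toWr) hX (H_mono (by decide) h.zΦ),
      h.ev ▸ (DX h.toWr) hX (mul_mem (x_mem (by decide)) (x_mem (by decide)))]
  refine sr8X hX hS (le_inf (le_trans (cl_le.2 fun y hy => ?_) (h.TP.trans o.ge)) EX) e1 e2
    fun c hc => ?_
  · simp only [List.mem_cons, List.not_mem_nil, or_false] at hy
    rcases hy with rfl | rfl | rfl
    exacts [mul_mem (mem_cl (by simp)) (mem_cl (by simp)), mul_mem (mem_cl (by simp)) (mem_cl (by simp)),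
      mem_cl (by simp)]
  obtain ⟨p, k⟩ := h.zs.exP (o.le hc.1.1)
  have cv := mem_cen_iff.1 hc.2 v (mem_cl (by simp))
  have ct := mem_cen_iff.1 hc.2 (t * a) (mem_cl (by simp))
  have ev : v = 1 * W x [3, 2] := by
    simpa [h.ev] using h.pres.W_eq (w := [2, 3]) (w' := [3, 2]) rfl
  have nE := h.norE k ((by decide +kernel : ∀ p : D4,
    inΦ ([3, 2].map (lp p) ++ [3, 2].reverse) = true → p = 1 ∨ p = pt) p
    (h.zs.pfix k (one_mem _) (by decide) (ev ▸ cv)))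
  have ca : c * a = a * c := (h.memP (h.memP' o hc.1.1 nE)).elim (h.zs.cm' h.aZ) fun e => by
    have := h.zs.cm' h.aZ e
    rwa [← mul_assoc, h.ta, mul_assoc, mul_assoc, mul_right_inj] at this
  rw [mul_assoc t, ← ca, ← mul_assoc, ← mul_assoc, mul_left_inj] at ct
  obtain ⟨w, hw, rfl⟩ := h.toTr.pres.mem_cl rfl 4 (by decide) (memA_of_v h.toTr
    (two h.toLc o.two (h.TP.trans o.ge) hc.1.1 ct (h.norA_of ct nE)) cv)
  have m : ∀ c ∈ subs 3, W (val [a, u, v, t, s]) (app [(0, [3, 0]), (1, [1, 0]), (2, [2])] c) ∈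
      cl [t * a, u * a, v] := fun c hc => by
    rw [← W_app (x' := val [t * a, u * a, v]) (n := 3) (fun i hi => by interval_cases i <;> simp [app])
      (subs_lt hc)]
    exact W_mem_cl [t * a, u * a, v] 3 (subs_lt hc)
  obtain ⟨c, hc', e | e⟩ := (by decide +kernel : ∀ w ∈ subs 4, ∃ c ∈ subs 3,
    tbT.same w (app [(0, [3, 0]), (1, [1, 0]), (2, [2])] c) = true ∨
    tbT.same (0 :: w) (app [(0, [3, 0]), (1, [1, 0]), (2, [2])] c) = true) w hw
  · exact h.toTr.pres.W_eq e ▸ m c hc'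
  · have := EX (h.toTr.pres.W_eq e ▸ m c hc')
    rw [W_cons] at this
    exact absurd ((X.mul_mem_cancel_right hc.1.2).1 this) aX

end H49.L33
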