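import Cfsg.Agent.H85.L3Spec
import Cfsg.Agent.H85.DYNZ

/-! L33, job NZ: port of `H30/NZ1`, `H30/NZ3` to the tower `H85.DY`. -/

set_option autoImplicit false
set_option linter.unusedSectionVars false

namespace H49.L33
open H30.NZ

open Subgroup Cfsg H14 H98 H1.Gold H31.S2 H85.FZ H49.D8 H62.FZ H85.DZ H85.En H62.FZ.NZ

universe u

section

variable {G : Type u} [Group G] [Finite G] {t v s u a σ ρ g n : G} {X K : Subgroup G}
  {T : Tb} {L : List ℕ} {x : ℕ → G} {c k j : ℕ}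

theorem finZ {l : List G} (M : Md T L (val (a :: u :: v :: t :: s :: l))) (hn : T.n = 9)
    (h : H85.DY.Nar t v s u a σ ρ) (ta : ¬ IsConj t (t * a)) (hX : AS X t) (k : test L = true) :
    SectionalPRankLE 2 4 X := by
  simp only [test, Bool.and_eq_true, allB_iff, force_eq, Bool.or_eq_true, Bool.not_eq_true',
    decide_eq_true_eq, beq_iff_eq, List.all_eq_true, List.any_eq_true, List.mem_range] at k
  obtain ⟨⟨⟨⟨⟨⟨⟨k1, k2⟩, k3⟩, b, -, k4, k4'⟩, k5⟩, k6⟩, k7⟩, k8⟩ := k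
  have H3 : H (val (a :: u :: v :: t :: s :: l)) 3 = cl [a, u, v] := H_val _ _
  have H4 : H (val (a :: u :: v :: t :: s :: l)) 4 = cl [a, u, v, t] := H_val _ _
  have H5 : H (val (a :: u :: v :: t :: s :: l)) 5 = cl [a, u, v, t, s] := H_val _ _
  have ev : ∀ c ∈ [1, 2, 3, 4, 7, 8, 9], E (val (a :: u :: v :: t :: s :: l)) 9 c =
      [1, a, u, u * a, v, 1, 1, v * (u * a), t, t * a].getD c 1 := by
    simp [E, Nat.testBit]
  obtain ⟨e1, e2, e3, e4, e7, e8, e9⟩ : _ ∧ _ ∧ _ ∧ _ ∧ _ ∧ _ ∧ _ := by simpa using ev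
  generalize val (a :: u :: v :: t :: s :: l) = x at *
  have cmi : ∀ {c d}, c < 2 ^ 9 → d < 2 ^ 9 →
      (H85.DZ.cm L c d = true ↔ E x 9 c * E x 9 d = E x 9 d * E x 9 c) := hn ▸ cm_iff M
  have sqi : ∀ {c}, c < 2 ^ 9 → (sq1 L c = true ↔ E x 9 c * E x 9 c = 1) := hn ▸ M.sq_iff
  have sj : ∀ {g}, g ∈ H x 9 → ∃ c < 2 ^ 9, g = E x 9 c := hn ▸ M.surj
  have mH : ∀ {k c}, k ≤ 9 → c < 2 ^ 9 → (E x 9 c ∈ H x k ↔ c < 2 ^ k) := hn ▸ memH M
  have bg : ∀ {k j c} {K : Subgroup G}, k ≤ 9 → c < 2 ^ 9 → big L k j c = true →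
      K ≤ H x k ⊓ cen1 (E x 9 c) → j * Nat.card K ≤ 2 ^ k := hn ▸ big_le M
  have cs : ∀ {R c}, R.all (· < 2 ^ 9) = true → tb (cls L 9 R) c = true →
      ∃ r ∈ R, ∃ h ∈ H x 9, E x 9 c = h * E x 9 r * h⁻¹ := hn ▸ M.cls le_rfl
  have mu : ∀ c {d}, d < 2 ^ 9 → mul L c d < 2 ^ 9 ∧ E x 9 (mul L c d) = E x 9 c * E x 9 d :=
    fun c _ hd => (hn ▸ M.mul) hd c
  have cd : ∀ k ≤ 9, Nat.card (H x k) = 2 ^ k := fun k hk => M.P.card M.wf (hn ▸ hk) (M.I.mono (hn ▸ hk))
  have p2 : ∀ k ≤ 9, IsPGroup 2 (H x k) := fun k hk => IsPGroup.of_card (cd k hk)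
  have l79 : H x 7 ≤ H x 9 := H_mono (by decide)
  have cu : ∀ g ∈ H x 9, g * u = u * g ↔ g ∈ H x 7 := fun g hg => by
    obtain ⟨c, hc, rfl⟩ := sj hg
    rw [← e2, ← cmi hc (by decide), k1 c hc, decide_eq_true_eq, mH (by decide) hc]
  have lt : ∀ i < 9, 2 ^ i < 2 ^ 9 := fun i hi => Nat.pow_lt_pow_right one_lt_two hi
  have Sz : H x 9 ≤ cen1 (u * a) := H_le fun i hi => mem_cen1.2 (by
    rw [← e3, ← E_pow x hi, ← cmi (lt i hi) (by decide)]; exact (k8 i hi).1.1)
  have SA : H x 9 ≤ nor (cl [a, u, v]) := H_le fun i hi => mem_normalizer_fintype fun y hy => by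
    rw [← H3] at hy ⊢
    obtain ⟨c, hc, rfl⟩ := sj (H_mono (by decide) hy)
    have m := mu c (lt i hi)
    rw [← E_pow x hi, inv_eq_of_mul_eq_one_right ((sqi (lt i hi)).1 (k8 i hi).1.2), mul_assoc, ← m.2,
      ← (mu _ m.1).2]
    exact (mH (by decide) (mu _ m.1).1).2 ((k8 i hi).2 c ((mH (by decide) hc).1 hy))
  have Gu : H x 7 ≤ cen1 u := fun g hg => mem_cen1.2 ((cu g (l79 hg)).2 hg)
  have m3 : cl [a, u, v] ≤ cl [a, u, v, t] := cl_mono (by simp)
  have mt : t ∈ cl [a, u, v, t] := mem_cl (by simp)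
  have T7 : cl [a, u, v, t, s] ≤ H x 7 := H5 ▸ H_mono (by decide)
  have A7 : cl [a, u, v, t] ≤ H x 7 := H4 ▸ H_mono (by decide)
  have sy : IsSyl 2 (H x 7) (cen1 u) := by
    by_contra hs
    obtain ⟨n, n1, n2, n3, n4⟩ := ext_of_not_syl (p2 7 (by decide)) Gu hs
    have c64 : Nat.card ↥(H x 7 ⊓ cen1 v) = 64 := by
      rw [← k7, ← hn]
      refine M.card_eq (inf_le_left.trans (hn ▸ l79)) fun c hc => ?_
      rw [hn] at hc ⊢
      rw [Bool.and_eq_true, decide_eq_true_eq, cmi hc (by decide), e4, mem_inf, mem_cen1, mH (by decide) hc]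
    have nA : n ∈ nor (cl [a, u, v]) := mem_normalizer_of_cj_le (cj_le_iff.2 (cl_le.2 fun w hw => by
      have w7 := conj_mem_of_mem_normalizer n2 (A7 (m3 (mem_cl hw)))
      obtain ⟨c, hc, ec⟩ := sj (l79 w7)
      rw [mem_cj, inv_inv, ec, ← H3, mH (by decide) hc]
      refine ((k3 c hc).resolve_right fun e => ?_).resolve_left (by
        rw [Bool.not_eq_false, sqi hc, ← ec, conj_mul, h.toTr.A_sq (m3 (mem_cl hw))]; simp)
      have := bg (K := cj n (H x 7 ⊓ cen1 v)) (by decide) hc (e.2.resolve_left (by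
        rw [not_le, ← mH (by decide) hc, ← ec]; exact w7)) (le_inf (cj_le_of_le inf_le_left n2) (by
          rw [← ec, ← cj_cen1]
          refine cj_mono _ fun g hg => ?_
          simp only [List.mem_cons, List.not_mem_nil, or_false] at hw
          rcases hw with rfl | rfl | rfl
          · have := mem_cen1.1 (Sz (l79 hg.1))
            rw [← mul_assoc, mem_cen1.1 (Gu hg.1), mul_assoc, mul_assoc, mul_right_inj] at this
            exact mem_cen1.2 this
          exacts [Gu hg.1, hg.2]))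
      rw [card_cj, c64] at this
      omega))
    have w7 := conj_mem_of_mem_normalizer n2 (A7 mt)
    obtain ⟨c, hc, ec⟩ := sj (l79 w7)
    have ct : IsConj t (E x 9 c) := isConj_iff.2 ⟨n, ec⟩
    rcases k2 c ((mH (by decide) hc).1 (ec ▸ w7)) with (e | e) | e
    · rw [(sqi hc).2 (by rw [← ec, conj_mul, h.tt]; simp), (cmi hc (by decide)).2 (by
        have := h.toTr.A_comm mt (m3 (conj_mem_of_mem_normalizer' nA (mem_cl (y := v) (by simp))))
        rw [← ec, e4]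
        calc n * t * n⁻¹ * v = n * (t * (n⁻¹ * v * n)) * n⁻¹ := by group
          _ = _ := by rw [this]; group)] at e
      exact absurd e (by decide)
    · exact h.toBase.notD (H3 ▸ (mH (by decide) hc).2 e) ct
    obtain ⟨r, hr, g, g1, g2⟩ := cs (by decide) e
    simp only [List.mem_cons, List.not_mem_nil, or_false] at hr
    rcases hr with rfl | rfl
    swap
    · exact ta (ct.trans (isConj_iff.2 ⟨g, by rw [g2, e9]⟩).symm)
    rw [← ec, e8] at g2
    have c1 : g⁻¹ * n * t = t * (g⁻¹ * n) := by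
      calc g⁻¹ * n * t = g⁻¹ * (n * t * n⁻¹) * n := by group
        _ = _ := by rw [g2]; group
    have c2 : g⁻¹ * n ∈ nor (cl [a, u, v, t]) := mem_normalizer_of_cj_le (cj_le_iff.2 (cl_le.2
      fun w hw => mem_cj.2 (by
        rw [inv_inv]
        rcases List.mem_append.1 (show w ∈ [a, u, v] ++ [t] from hw) with hw | hw
        · exact m3 (conj_mem_of_mem_normalizer (mul_mem (inv_mem (SA g1)) nA) (mem_cl hw))
        · rwa [List.mem_singleton.1 hw, c1, mul_inv_cancel_right])))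
    have g7 := (cu g g1).1 (by
      have := (nA_fix h.toLc c1 c2).1
      calc g * u = g * (g⁻¹ * n * u * (g⁻¹ * n)⁻¹) := by rw [this]
        _ = n * u * n⁻¹ * g := by group
        _ = _ := by rw [mem_cen1.1 n1, mul_inv_cancel_right])
    exact n3 ((mul_mem_cancel_left (inv_mem g7)).1 (T7 (two h.toLc (isPGroup_ext (p2 7 (by decide)) n2 n4)
      (T7.trans le_sup_right) (mul_mem (mem_sup_right (inv_mem g7)) (mem_sup_left (mem_zpowers n))) c1 c2)))
  have uz : ¬ IsConj u (u * a) := fun e => by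
    obtain ⟨g, e⟩ := isConj_iff.1 e
    have := (sy.cj g).card_le (p2 9 le_rfl) (by rwa [cj_cen1, e])
    rw [card_cj, cd 9 le_rfl, cd 7 (by decide)] at this
    omega
  have zv : IsConj (u * a) v := isConj_iff.2 ⟨σ, by
    rw [← conj_mul, h.A.σu, h.A.σa, ← h.uv, ← mul_assoc, h.uu, one_mul]⟩
  have u7 : u ∈ H x 7 := A7 (mem_cl (by simp))
  have U : ∀ g, cj g (H x 7) ≤ H x 9 → ∃ c ∈ [1, 2, 5, 6], g * u * g⁻¹ = E x 9 c := fun g hg => by
    obtain ⟨c, hc, ec⟩ := sj (hg (conj_mem_cj u7))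
    have cc : IsConj u (E x 9 c) := isConj_iff.2 ⟨g, ec⟩
    have := ((k3 c hc).resolve_right fun e => by
      have := bg le_rfl hc e.1 (le_inf hg (by rw [← ec, ← cj_cen1]; exact cj_mono _ Gu))
      rw [card_cj, cd 7 (by decide)] at this
      omega).resolve_left (by rw [Bool.not_eq_false, sqi hc, ← ec, conj_mul, h.uu]; simp)
    refine ⟨c, ?_, ec⟩
    interval_cases c
    · exact absurd (isConj_one_left.1 (E_zero x 9 ▸ cc)) fun e =>
        h.pres.ne h.ind (w := [1]) (w' := []) rfl (by simpa using e)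
    any_goals decide
    exacts [(uz (e3 ▸ cc)).elim, (uz ((e4 ▸ cc).trans zv.symm)).elim,
      (uz (((e7 ▸ cc).trans (isConj_iff.2 ⟨σ, h.A.σv⟩).symm).trans zv.symm)).elim]
  have cl2 : ∀ c ∈ [1, 2, 5, 6], ∃ r ∈ H x 9, E x 9 c = r * u * r⁻¹ := fun c hc => by
    obtain ⟨r, hr, e⟩ := cs (by decide) (k5 c hc)
    rwa [List.mem_singleton.1 hr, e2] at e
  have hS : IsSyl 2 (H x 9) ⊤ := syl_of (x := u) (p2 9 le_rfl) (by
    rwa [sy.eq_of_le ((p2 9 le_rfl).to_le inf_le_left) (le_inf l79 Gu) inf_le_right])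
    fun n hn _ => by
      obtain ⟨c, hc, e⟩ := U n (cj_le_of_le l79 hn)
      exact e ▸ cl2 c hc
  obtain ⟨W, W1, W2⟩ := H85.DZ.mu M (φ := par b) (hn ▸ k4)
  rw [hn] at W1 W2
  have uX : u ∉ X := tr_out hX hS W1 h.uu (p2 7 (by decide)) u7 Gu fun g hg => by
    obtain ⟨c, hc, e⟩ := U g hg
    rw [e, W2 c ((by decide : ∀ c ∈ [1, 2, 5, 6], c < 2 ^ 9) c hc), k4' c hc]
    decide
  have aX : a ∉ X := by
    obtain ⟨r, -, e⟩ := cl2 1 (by simp)
    rwa [← as_conj hX (isConj_iff.2 ⟨r, e.symm.trans e1⟩)]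
  have mX := as_mul hX h.tt
  refine sr8X hX hS (E₈ := cl [a, u, v, t] ⊓ X) (inf_le_inf_right _ (A7.trans l79))
    (fun e he => h.toTr.A_sq he.1) ?_ fun g hg => ⟨?_, hg.1.2⟩
  · have : X.relIndex (cl [a, u, v, t]) = 2 := index_eq_two_iff'.2 ⟨⟨u, mem_cl (by simp)⟩, fun y => by
      rw [mem_subgroupOf, mem_subgroupOf, coe_mul, mX]; by_cases (y : G) ∈ X <;> simp [*]⟩
    have e := (X.subgroupOf (cl [a, u, v, t])).index_mul_card
    rw [h.cardA, ← inf_subgroupOf_left, Nat.card_congr (subgroupOfEquivOfLe inf_le_left).toEquiv,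
      inf_subgroupOf_left, show (X.subgroupOf _).index = 2 from this] at e
    omega
  · obtain ⟨c, hc, rfl⟩ := sj hg.1.1
    refine H4.le ((mH (by decide) hc).2 ((k6 c hc).resolve_left ?_))
    rw [(cmi hc (by decide)).2 (e4 ▸ mem_cen_iff.1 hg.2 v ⟨mem_cl (by simp),
      (as_conj hX zv).1 ((mX _ _).2 (iff_of_false uX aX))⟩), (cmi hc (by decide)).2
      (e9 ▸ mem_cen_iff.1 hg.2 _ ⟨mul_mem mt (mem_cl (by simp)),
        (mX _ _).2 (iff_of_false (as_out hX uX) aX)⟩)]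
    decide

end

variable {G : Type u} [Group G] [Finite G] {t v s u a σ ρ g y Y X d : G} {N : Subgroup G} {k : Bool}

theorem dcaseZ (hN : AS N t) (h : H85.DY.Nar t v s u a σ ρ) (ta : ¬ IsConj t (t * a))
    (P : Pres tbN (val [a, u, v, t, s, y])) (P7 : Pres (T7 k) (val [a, u, v, t, s, y, Y]))
    (I7 : Ind (val [a, u, v, t, s, y, Y]) 7) (XX : X * X = 1)
    (aX : Act (val [a, u, v, t, s, y]) X R6 (fX true k)) (dd : d * d = 1)
    (ad : Act (val [a, u, v, t, s, y]) d R6 (fD k))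
    (aσ : Act (val [a, u, v, t, s, y, Y]) σ SR (gσ k)) : SectionalPRankLE 2 4 N := by
  obtain ⟨k0, k1⟩ := key8 k
  rw [Bool.and_eq_true] at k0
  have s7 : ∀ i, (T7 k).sq i = [] := fun i => ite_self _
  have w7 : (T7 k).wf = true := by cases k <;> rfl
  obtain ⟨e, ee, ae, h1⟩ := ext1 h.toLc P7 s7 (g := X * d * X)
    (by rw [← conj_sq (g := X) dd, inv_eq_of_mul_eq_one_right XX])
    ((act_agree P (act_cp P (act_cp P aX ad (by cases k <;> rfl)) aX (by cases k <;> rfl)) k0.1).snoc Y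
      (by cases k <;> rfl)) k0.2
  obtain ⟨α, hα, e6⟩ := h1 6 (by simp)
  replace ae : Act _ e (List.range 7) (f8 k α) := act_mono (act_cons ae e6) rfl
  obtain ⟨j, rfl⟩ := k1 α hα (cons_of P7 I7 w7 ae ee)
  have P8 : Pres (T8 k j) (val [a, u, v, t, s, y, Y, e]) :=
    P7.snoc rfl w7 (ae.inv ee) ee (by cases k <;> cases j <;> rfl)
  have I8 : Ind (val [a, u, v, t, s, y, Y, e]) 8 := I7.snoc (l := [a, u, v, t, s, y, Y])
    (P7.notMem w7 I7 rfl s7 (c := [1]) (c' := [0]) (by simpa [app, f8, f1] using ae 1 (by decide))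
      ((by decide +kernel : ∀ k, ∀ w ∈ subs 7, (T7 k).eqv (w ++ [1] ++ w.reverse) [0] = false) k))
  obtain ⟨k2, k3⟩ := key8' k j
  rw [Bool.and_eq_true] at k2
  have s8 : ∀ i, (T8 k j).sq i = [] := fun i => by simp [T8, Tb.ext, s7]
  have w8 : (T8 k j).wf = true := by cases k <;> cases j <;> rfl
  have bσ : Act (val [a, u, v, t, s, y, Y, e]) σ SR (gσ k) := aσ.snoc e (by cases k <;> rfl)
  have be : Act (val [a, u, v, t, s, y, Y, e]) e SR (f8 k (al k j)) :=
    act_mono (ae.snoc e (by cases k <;> cases j <;> rfl)) rfl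
  obtain ⟨E, EE, aE, h2⟩ := ext1 h.toLc P8 s8 (conj_sq (g := σ) ee) (act_agree P8 (act_cp P8
    (act_cp P8 bσ be (by cases k <;> cases j <;> rfl)) (act_inv' P8 bσ (f' := gσi k)
      (by cases k <;> cases j <;> rfl) (by cases k <;> cases j <;> rfl))
    (by cases k <;> cases j <;> rfl)) k2.1) k2.2
  obtain ⟨β, hβ, e7⟩ := h2 7 (by simp)
  obtain ⟨γ, hγ, e4⟩ := h2 4 (by simp)
  replace aE : Act _ E (List.range 8) (f9 k j β γ) := act_mono (act_cons (act_cons aE e4) e7) rfl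
  have r := run_spec (key9 k j β hβ γ hγ (cons_of P8 I8 w8 aE EE))
  have P9 : Pres ((T8 k j).ext (f9 k j β γ)) (val [a, u, v, t, s, y, Y, e, E]) :=
    P8.snoc rfl w8 (aE.inv EE) EE ((by decide +kernel : ∀ k j, ∀ β ∈ subs 4, ∀ γ ∈ subs 4,
      ((List.range 8).all (fun r => (app (f9 k j β γ) [r]).all (· < 8)) && true) = true) k j β hβ γ hγ)
  exact finZ (md P9 (I8.snoc (l := [a, u, v, t, s, y, Y, e]) (P8.notMem w8 I8 rfl s8 (c := [1])
    (c' := [2, 1]) (by simpa [app, f9, f2] using aE 1 (by decide)) k3)) r.1) rfl h ta hN r.2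

theorem jobNZ : H85.L33.JobNZ.{u} := by
  intro G _ _ N t v s u a σ ρ y k Z l hN h hA hB
  have aY := hA.act
  have aX : Act _ _ _ (fX Z l) := hB.act'
  have nA := hA.nxt
  have nB := hB.nxt
  rw [W_swN] at nB
  have YY := conj_sq (g := σ) (q := y) (h.pres.sq 5 (by decide))
  have XX := conj_sq (g := ρ) (q := y) (h.pres.sq 5 (by decide))
  obtain ⟨Y, hY⟩ : ∃ Y, Y = σ * y * σ⁻¹ := ⟨_, rfl⟩
  obtain ⟨X, hX⟩ : ∃ X, X = ρ * y * ρ⁻¹ := ⟨_, rfl⟩
  rw [← hY] at aY YY nA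
  rw [← hX] at aX XX nB
  have tr : ∀ i < 6, val [a, u, v, t, s, y, Y, X] i = val [a, u, v, t, s, y] i := fun i hi => by
    interval_cases i <;> rfl
  have P : Pres tbN (val [a, u, v, t, s, y, Y, X]) := pres_congr tr h.pres rfl
  have I := ind_congr tr h.ind
  have aY0 := aY
  have aX0 := aX
  replace aY := act_congr tr aY (by cases k <;> rfl)
  replace aX := act_congr tr aX (by cases Z <;> cases l <;> rfl)
  rw [← W_congr tr (by cases k <;> rfl)] at nA
  rw [← W_congr tr (by cases Z <;> cases l <;> rfl)] at nB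
  have aYX : Act _ _ R6 (yx k Z l) := act_cp P aY aX (by cases Z <;> cases l <;> rfl)
  cases Z
  · refine absurd (isConj_iff.2 ⟨_, act_cp P aYX aY (by cases k <;> rfl) 3 (by decide)⟩)
      (h.toBase.swap.notD ?_)
    refine W_mem_of fun r hr => mem_cl ?_
    have := (by decide +kernel : ∀ k l, ∀ r ∈ app (cp tbN (List.range 6) (yx k false l) (gY true k)) [3],
      r = 0 ∨ r = 1 ∨ r = 4) k l r hr
    rcases this with rfl | rfl | rfl <;> simp
  have a3 : Act _ _ R6 (yx3 k l) := act_cp P aYX (act_cp P aYX aYX (by cases k <;> cases l <;> rfl))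
    (by cases k <;> cases l <;> rfl)
  by_cases kl : k = l
  swap
  · have n3 := (act_mono a3 (S' := List.range 4) rfl).nor (by cases k <;> cases l <;> rfl)
    rw [H_val] at n3
    have e := a3 3 (by decide)
    rcases (by decide +kernel : ∀ k l, k ≠ l → app (yx3 k l) [3] = [3, 1] ∨
      app (yx3 k l) [3] = [3, 0]) k l kl with e' | e' <;> rw [e'] at e
    · exact ((h.narA _ n3).1 (by simpa using e)).elim
    · exact ((h.narA _ n3).2 (by simpa using e)).elim
  subst kl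
  have P7 : Pres (T7 k) (val [a, u, v, t, s, y, Y, X]) := pres_top P (aY.inv YY) YY
  have c : Cy t v s u a y := by
    have e := act_inn P (fun _ => rfl) (w := [5]) rfl R6
    have e' := act_agree P e (f' := fy) rfl
    exact ⟨by simpa [app, fy] using e' 0 (by decide), by simpa [app, fy] using e' 1 (by decide),
      by simpa [app, fy] using e' 2 (by decide), by simpa [app, fy] using e' 4 (by decide),
      by simpa [app, fy] using e' 3 (by decide)⟩
  have I7 : Ind (val [a, u, v, t, s, y, Y, X]) 7 := ind_top I (by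
    rw [H_val]
    exact H57.DZ.not_norB c h.toTr (by cases k <;> simpa [app, gY] using aY 3 (by decide)) le_rfl)
  have s7 : ∀ i, (T7 k).sq i = [] := fun i => ite_self _
  have w7 : (T7 k).wf = true := by cases k <;> rfl
  have aσ : Act (val [a, u, v, t, s, y, Y, X]) σ SR (gσ k) :=
    act_mono (act_cons (act_cons (hact h.A _) (r := 5) (w := [6]) (by simpa using hY.symm))
      (r := 6) (w := 6 :: dY true k) nA) rfl
  rcases h.nd with hS | ⟨d, dP, D⟩
  swap
  · obtain ⟨e, ee, ae⟩ := H85.DY.NZ.nf_d h D dP aY0 aX0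
    have tr7 : ∀ i < 7, val [a, u, v, t, s, y, Y] i = val [a, u, v, t, s, y, Y, X] i := fun i hi => by
      interval_cases i <;> rfl
    exact Or.inl (dcaseZ hN h.toNar (H85.DY.NZ.not_ta h.toNar D) h.pres (pres_congr tr7 P7 w7) (ind_congr tr7 I7)
      XX aX0 ee ae (act_congr tr7 aσ (by cases k <;> rfl)))
  exact absurd hS h.nsyl

end H49.L33
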