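import Cfsg.Agent.H85.L3Spec
import Cfsg.Agent.H55.Transport

/-! L33, job Wrap: the row S3140 from the reduced situation. -/

set_option autoImplicit false

namespace H49.L33

open Subgroup Cfsg H98 H1.Gold H73.D8W H85.L33

universe u v

theorem std_red' {G : Type u} [Group G] [Finite G] {A : Subgroup G} (hO : oddCore G = ⊥)
    (hA : IsStandardSubgroup A) (nn : ¬ A.Normal) :
    (normalClosure (A : Set G) = layer G ∧ Nonempty (layer G ≃* A × A) ∧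
      ∃ t : G, orderOf t = 2 ∧ centralizer (A : Set G) = zpowers t) ∨ H99.Wr.AS G := by
  obtain ⟨t, h, ht⟩ := H14.exists_involution_mem (even_iff_two_dvd.1 hA.2.1.1)
  rcases std_red hO hA nn with ⟨k1, k2, -⟩ | k
  swap
  · exact Or.inr k
  rcases Cfsg.Agent.S1347.result A hA hO t ht h with h1 | ⟨-, -, -, -, -, -, -, x⟩ | h1
  exacts [absurd h1 nn, Or.inl ⟨k1, k2, t, ht, x⟩,
    Or.inr (by rw [H99.Wr.AS, fstar_eq hO hA nn]; exact h1.2)]

theorem jobWrap : JobWrap.{u, v} := by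
  intro hC G _ _ hO L hL F _ _ hF ⟨eL⟩
  have r : F ≃+* ZMod 3 := FiniteField.ringEquivOfCardEq (by rw [hF, ZMod.card])
  by_cases nn : L.Normal
  · exact Or.inl nn
  refine Or.inr ?_
  rcases std_red' hO hL nn with ⟨k1, k2, k3⟩ | hG
  · rw [fstar_eq hO hL nn]
    exact ⟨k1, Or.inr (Or.inr (Or.inr (Or.inr ⟨k2, k3⟩)))⟩
  refine ⟨H88.AS.closure_eq hG hL, ?_⟩
  obtain ⟨t, -, -, h⟩ := exists_rd hG hL
  have le := H88.AS.std_le hG hL
  generalize generalizedFittingSubgroup G = X at *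
  have eA := subgroupOfEquivOfLe (le.trans (le_sup_left (b := zpowers t)))
  have eX := (subgroupOfEquivOfLe (le_sup_left (a := X) (b := zpowers t))).symm
  rcases hC _ _ _ _ h ⟨eA.trans (eL.trans (H55.pslCongr r))⟩ with ⟨K, _, _, c, ⟨e⟩⟩ | ⟨⟨e⟩⟩ |
    ⟨⟨e⟩⟩ | ⟨⟨e⟩⟩
  exacts [Or.inl ⟨K, _, _, c, ⟨eX.trans e⟩⟩,
    Or.inr (Or.inl ⟨(eX.trans e).trans (H55.pslCongr r.symm)⟩),
    Or.inr (Or.inr (Or.inl ⟨(eX.trans e).trans (H55.pslCongr r.symm)⟩)),
    Or.inr (Or.inr (Or.inr (Or.inl ⟨(eX.trans e).trans (H55.pspCongr r.symm 3)⟩)))]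

end H49.L33
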