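import Cfsg.Agent.H49.NWKit

/-! DZ, branches NE and WA: the group `P₂ = U ⟨t⟩` and the wreath structure. -/

set_option autoImplicit false
set_option linter.unusedSectionVars false

namespace H49.NW

open Subgroup Cfsg H14 H98 H1.Gold H31.S2 H85.FZ H49.D8 H85.DZ

universe u

variable {G : Type u} [Group G]

/-- Letters `a 0, u 1, y 2, v 3, Y 4, s 5, X 6, t 7`. -/
def tbQ (m : List ℕ) : Tb := .of 8 [(5, 3, [3, 1, 0]), (5, 4, [4, 2]), (6, 3, [3, 2]),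
  (6, 4, 4 :: 2 :: m), (7, 2, [2, 1, 0]), (7, 4, [4, 3]), (7, 6, [6, 5])]
def sQ : List (ℕ × List ℕ) := [(0, [3, 1]), (2, [4]), (3, [3, 1, 0]), (4, [4, 2])]
def rQ : List (ℕ × List ℕ) := [(1, [5, 0]), (2, [6]), (5, [5, 1, 0]), (6, [6, 2])]

structure NQ (t v s u a σ ρ y Y X : G) (m : List ℕ) : Prop extends H85.DZ.Nar t v s u a σ ρ where
  hm : m ∈ subs 2
  pres : Pres (tbQ m) (val [a, u, y, v, Y, s, X, t])
  ind : Ind (val [a, u, y, v, Y, s, X, t]) 8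
  aσ : Act (val [a, u, y, v, Y, s, X, t]) σ [0, 1, 2, 3, 4, 7] sQ
  aρ : Act (val [a, u, y, v, Y, s, X, t]) ρ [0, 1, 2, 5, 6, 7] rQ

/-- Letters `a 0, u 1, p 2, q 3, v 4, Y 5, s 6, X 7, t 8`. -/
def tbV (l : Bool) (m : List ℕ) : Tb := .of 9 [(6, 4, [4, 1, 0]), (6, 5, [5, 3, 2]),
  (7, 4, [4, 3, 2] ++ ow l [0]), (7, 5, 5 :: (ow (!l) [3] ++ 2 :: m)), (8, 2, [2, 1]), (8, 3, [3, 0]),
  (8, 5, [5, 4, 1]), (8, 7, [7, 6, 0])]
def sV : List (ℕ × List ℕ) := [(0, [4, 1]), (3, [5]), (4, [4, 1, 0]), (5, [5, 3, 2])]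
def rV (l : Bool) : List (ℕ × List ℕ) :=
  [(1, [6, 0]), (2, [7]), (6, [6, 1, 0]), (7, [7, 3, 2] ++ ow l [0])]

structure WQ (t v s u a σ ρ p q Y X : G) (l : Bool) (m : List ℕ) : Prop
    extends H85.DZ.Base t v s u a σ ρ where
  hm : m ∈ subs 2
  pres : Pres (tbV l m) (val [a, u, p, q, v, Y, s, X, t])
  ind : Ind (val [a, u, p, q, v, Y, s, X, t]) 9
  aσ : Act (val [a, u, p, q, v, Y, s, X, t]) σ [0, 1, 2, 3, 4, 5, 8] sV
  aρ : Act (val [a, u, p, q, v, Y, s, X, t]) ρ [0, 1, 2, 3, 6, 7, 8] (rV l)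

/-- `D₈ ≀ 2`; letters `z₁ 0, z₂ 1, v₁ 2, v₂ 3, s₁ 4, s₂ 5, t 6`. -/
def tbR : Tb := .of 7 [(4, 2, [2, 0]), (5, 3, [3, 1]), (6, 0, [1]), (6, 1, [0]), (6, 2, [3]),
  (6, 3, [2]), (6, 4, [5]), (6, 5, [4])]

/-- `U = Z ∘ (D₁ × D₂)`, `P₂ = U ⟨t⟩`; `x` are the letters of `tbR`. -/
structure Wr (t v s u a σ ρ : G) (x : ℕ → G) (Z : Subgroup G) : Prop
    extends H85.DZ.Base t v s u a σ ρ where
  pres : Pres tbR x
  ind : Ind x 7
  et : x 6 = t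
  ev : x 2 * x 3 = v
  es : x 4 * x 5 = s
  ez : x 0 * x 1 = u * a
  Z2 : ∀ e ∈ Z, e * e = 1
  Zc : Z ≤ cen (H x 6)
  ΦZ : H x 2 ≤ Z
  aZ : a ∈ Z
  ZD : Z ⊓ H x 6 ≤ H x 2
  aD : a ∉ H x 6
  tZ : t ∈ nor Z
  Zt : Z ⊓ cen1 t ≤ cl [a, u]
  EAt : (Z ⊔ cl [x 2, x 3]) ⊓ cen1 t = cl [a, u, v]
  syA : IsSyl 2 (Z ⊔ H x 6 ⊔ zpowers t) (nor (Z ⊔ cl [x 2, x 3]))
  σA : σ ∈ nor (Z ⊔ cl [x 2, x 3])
  ρB : ρ ∈ nor (Z ⊔ cl [x 4, x 5])
  noD : ∀ g ∈ Z ⊔ H x 6, ¬ IsConj t g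
  cls : ∀ g, t * g ∈ Z ⊔ H x 6 → g * g = 1 → ∃ w ∈ Z ⊔ H x 6,
    g = w * t * w⁻¹ ∨ (g = w * (t * a) * w⁻¹ ∧ a * (t * g) ∈ H x 6)
  fz : ∀ i < 4, IsConj (x (i % 2)) (x (i + 2))
  fus : ∀ i < 4, ∀ e ∈ Z, ∃ e' ∈ Z, IsConj (x (i + 2) * e) e' ∧
    (e' = x 0 ∨ e' = x 1 → e = 1 ∨ e = x (i % 2))

/-- The narrow wreath case. -/
structure WrN (t v s u a σ ρ : G) (x : ℕ → G) (Z : Subgroup G) : Prop extends Wr t v s u a σ ρ x Z where
  narA : ∀ g ∈ nor (cl [a, u, v, t]), g * t * g⁻¹ ≠ t * u ∧ g * t * g⁻¹ ≠ t * a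
  narB : ∀ g ∈ nor (cl [u, a, s, t]), g * t * g⁻¹ ≠ t * u ∧ g * t * g⁻¹ ≠ t * a
  hZ : ∀ e ∈ Z, e ∈ H x 2 ∨ a * e ∈ H x 2

/-- The wide wreath case, `b = a₁`. -/
structure WrW (t v s u a σ ρ b : G) (x : ℕ → G) (Z : Subgroup G) : Prop
    extends Wr t v s u a σ ρ x Z where
  bZ : b ∈ Z
  tb : t * b * t⁻¹ = b * a
  σb : σ * (b * x 0) * σ⁻¹ = b * x 0
  hZ : ∀ e ∈ Z, e ∈ H x 2 ∨ a * e ∈ H x 2 ∨ b * e ∈ H x 2 ∨ b * a * e ∈ H x 2
  ρZ : ∀ e ∈ Z, ρ * e * ρ⁻¹ ∈ Z → e = 1 ∨ e = a ∨ e = b ∨ e = b * a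
  cU : Nat.card ↥(Z ⊔ H x 6) = 256

/-! ### Jobs -/

def JobN1 : Prop :=
  ∀ (G : Type u) [Group G] [Finite G] (t v s u a σ ρ y : G) (k k' : Bool),
    H85.DZ.N1 t v s u a σ ρ y → SdN t v s u a σ y false k → SdN t s v a u ρ y false k' →
    ∃ ρ y Y X m, NQ t v s u a σ ρ y Y X m

def JobN2 : Prop :=
  ∀ (G : Type u) [Group G] [Finite G] (t v s u a σ ρ y Y X : G) (m : List ℕ),
    NQ t v s u a σ ρ y Y X m → m = []

def JobN3 : Prop :=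
  ∀ (G : Type u) [Group G] [Finite G] (t v s u a σ ρ y Y X : G),
    NQ t v s u a σ ρ y Y X [] → ∃ x Z, WrN t v s u a σ ρ x Z

def JobN4 : Prop :=
  ∀ (G : Type u) [Group G] [Finite G] (X : Subgroup G) (t v s u a σ ρ : G) (x : ℕ → G)
    (Z : Subgroup G), AS X t → WrN t v s u a σ ρ x Z → SectionalPRankLE 2 4 X

def JobW1 : Prop :=
  ∀ (G : Type u) [Group G] [Finite G] (t v s u a σ ρ p q : G) (k l : Bool),
    H85.DZ.WD t v s u a σ ρ p q false false false false 0 0 k l →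
    ∃ ρ p Y X l m, WQ t v s u a σ ρ p q Y X l m

def JobW2 : Prop :=
  ∀ (G : Type u) [Group G] [Finite G] (t v s u a σ ρ p q Y X : G) (l : Bool) (m : List ℕ),
    WQ t v s u a σ ρ p q Y X l m → (l = false ∧ m = []) ∨ (l = true ∧ m = [1, 0])

def JobW3 : Prop :=
  ∀ (G : Type u) [Group G] [Finite G] (t v s u a σ ρ p q Y X : G),
    WQ t v s u a σ ρ p q Y X false [] → ∃ x Z, WrW t v s u a σ ρ q x Z

/-- A simple group with a Sylow `2`-subgroup of class `2` and order `256`. -/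
def JobS : Prop :=
  ∀ (G : Type u) [Group G] [Finite G] [IsSimpleGroup G] (S : Subgroup G), IsSyl 2 S ⊤ →
    Nat.card S = 256 → ¬ S ≤ cen S → ⁅S, S⁆ ≤ cen S → Sp44 G

def JobW4 : Prop :=
  ∀ (G : Type u) [Group G] [Finite G] (X : Subgroup G) (t v s u a σ ρ b : G) (x : ℕ → G)
    (Z : Subgroup G), AS X t → WrW t v s u a σ ρ b x Z → t ∉ X ∧ Sp44 X

def JobW5 : Prop :=
  ∀ (G : Type u) [Group G] [Finite G] (X₀ : Subgroup G) (t v s u a σ ρ p q Y X : G), AS X₀ t →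
    WQ t v s u a σ ρ p q Y X true [1, 0] → t ∉ X₀ ∧ Sp44 X₀

theorem ne_of (j1 : JobN1.{u}) (j2 : JobN2.{u}) (j3 : JobN3.{u}) (j4 : JobN4.{u}) :
    H85.DZ.JobNE.{u} := by
  intro G _ _ X₀ t v s u a σ ρ y k k' hX h h1 h2
  obtain ⟨ρ, y, Y, X, m, h⟩ := j1 G _ _ _ _ _ _ _ _ _ _ h h1 h2
  obtain rfl := j2 G _ _ _ _ _ _ _ _ _ _ _ h
  obtain ⟨x, Z, h⟩ := j3 G _ _ _ _ _ _ _ _ _ _ h
  exact Or.inl (j4 G _ _ _ _ _ _ _ _ _ _ hX h)

theorem wa_of (j1 : JobW1.{u}) (j2 : JobW2.{u}) (j3 : JobW3.{u}) (j4 : JobW4.{u}) (j5 : JobW5.{u}) :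
    H85.DZ.JobWA.{u} := by
  intro G _ _ X₀ t v s u a σ ρ p q k l hX h
  obtain ⟨ρ, p, Y, X, l, m, h⟩ := j1 G _ _ _ _ _ _ _ _ _ _ _ h
  refine Or.inr (Or.inl (And.imp_right Or.inl ?_))
  rcases j2 G _ _ _ _ _ _ _ _ _ _ _ _ _ h with ⟨rfl, rfl⟩ | ⟨rfl, rfl⟩
  · obtain ⟨x, Z, h⟩ := j3 G _ _ _ _ _ _ _ _ _ _ _ h
    exact j4 G _ _ _ _ _ _ _ _ _ _ _ hX h
  · exact j5 G _ _ _ _ _ _ _ _ _ _ _ _ hX h

/-! ### Table lemmas -/

variable [Finite G] {t v s u a σ ρ p q y Y X g : G} {T : Tb} {z : ℕ → G} {n : ℕ} {m : List ℕ} {l : Bool}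

theorem noD_tb (h : H85.DZ.Loc t v s u a σ ρ) (P : Pres T z) (I : Ind z T.n) (wf : T.wf = true)
    (hn : n ≤ T.n) (Es : List (List (ℕ × List ℕ))) (c1 : ∀ ws ∈ Es, elOK T ws 5 = true)
    (c2 : ∀ w ∈ subs n, T.eqv (w ++ w) [] = true →
      ∃ ws ∈ Es, ∀ i < 5, T.same (app ws [i] ++ w) (w ++ app ws [i]) = true)
    (hg : g ∈ H z n) : ¬ IsConj t g := fun c => by
  obtain ⟨w, hw, rfl⟩ := P.mem wf hn hg
  obtain ⟨ws, h1, h2⟩ := c2 w hw (P.eqv I (by rw [W_append]; exact h.toTr.sq_of_isConj c))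
  obtain ⟨k1, k2, -⟩ := elem P I ws ((List.range 5).map fun i => W z (app ws [i])) (by simp)
    (fun i hi => by
      simp only [List.length_map, List.length_range] at hi
      interval_cases i <;> rfl) (c1 ws h1)
  refine e32 h c k1 (k2 ▸ by simp) (cen_cl.2 fun y hy => ?_)
  obtain ⟨i, hi, rfl⟩ := List.mem_map.1 hy
  simpa using P.W_eq (h2 i (List.mem_range.1 hi))

theorem cls_tb (P : Pres T z) (I : Ind z T.n) (wf : T.wf = true) (sq : ∀ s, T.sq s = [])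
    (hn : n < T.n) (rs bs : List (List ℕ)) (c1 : ∀ r ∈ rs, r.all (· < n) = true)
    (c2 : ∀ w ∈ subs n, T.eqv (n :: w ++ n :: w) [] = true →
      ∃ r ∈ rs, ∃ b ∈ bs, T.same (n :: w) (r ++ n :: b ++ r.reverse) = true)
    (hg : z n * g ∈ H z n) (gg : g * g = 1) :
    ∃ w ∈ H z n, ∃ b ∈ bs, g = w * (z n * W z b) * w⁻¹ := by
  obtain ⟨w, hw, e⟩ := P.mem wf hn.le hg
  have tt : z n * z n = 1 := by rw [P.sq n hn, sq, W_nil]
  have e' : g = W z (n :: w) := by rw [W_cons, ← e, ← mul_assoc, tt, one_mul]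
  obtain ⟨r, hr, b, hb, k⟩ := c2 w hw (P.eqv I (by rw [W_append, ← e', gg, W_nil]))
  exact ⟨_, W_mem (c1 r hr), b, hb, by
    rw [e', P.W_eq k, ← W_cons, P.conj sq (List.all_eq_true.2 fun i hi => decide_eq_true
      ((of_decide_eq_true (List.all_eq_true.1 (c1 r hr) i hi)).trans hn))]⟩

theorem nor_tb (P : Pres T z) (sq : ∀ s, T.sq s = []) (ws : List (ℕ × List ℕ)) (L : List G)
    (e : ∀ i < L.length, val L i = W z (app ws [i])) (c : ∀ r < T.n, ∀ i < L.length,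
      ∃ w ∈ subs L.length, T.same ([r] ++ app ws [i] ++ [r]) (app ws w) = true) :
    H z T.n ≤ nor (cl L) := H_le fun r hr => nor_cl fun y hy => by
  obtain ⟨i, hi, rfl⟩ := List.mem_iff_getElem.1 hy
  obtain ⟨w, hw, k⟩ := c r hr i hi
  have := P.conj sq (w := [r]) (by simpa using hr) (app ws [i])
  rw [W_cons, W_nil, mul_one, ← e i hi, List.reverse_singleton, P.W_eq k, ← W_app e (subs_lt hw)] at this
  rw [show L[i] = val L i by simp [val, hi], this]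
  simpa using W_mem_cl L L.length (subs_lt hw)

theorem fix_tb (P : Pres T z) (I : Ind z T.n) (ws : List (ℕ × List ℕ)) (L : List G) (hL : L.length ≤ 6)
    (e : ∀ i < L.length, val L i = W z (app ws [i])) (c0 : elOK T ws L.length = true) (J : List ℕ)
    (c : ∀ w ∈ subs L.length, T.eqv (app ws w ++ [n]) (n :: app ws w) = true → w.all (· ∈ J) = true)
    {K : Subgroup G} (h1 : ∀ i ∈ J, val L i ∈ K) (h2 : K ≤ cl L ⊓ cen1 (z n)) :
    cl L ⊓ cen1 (z n) = K := le_antisymm (fun g hg => by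
  obtain ⟨w, hw, rfl⟩ := (elem P I ws L hL e c0).2.2 g hg.1
  have := c w hw (P.eqv I (by simpa using mem_cen1.1 hg.2))
  rw [← W_app e (subs_lt hw)]
  exact W_mem_of fun r hr => h1 r (of_decide_eq_true (List.all_eq_true.1 this r hr))) h2

theorem A0_cen (h : Tr t v s u a) : cl [a, u, v] ≤ cen1 t :=
  cl_le.2 (by simp [mem_cen1, h.ta, h.ut, h.vt])

/-! ### The narrow case -/

def wAQ : List (ℕ × List ℕ) := []
def wBQ : List (ℕ × List ℕ) := [(3, [5]), (4, [6])]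
def EsQ (m : List ℕ) : List (List (ℕ × List ℕ)) :=
  [wAQ, wBQ] ++ if m = [] then [[(3, [4]), (4, [6, 5])], [(3, [4, 3]), (4, [6])]] else []

theorem keyQ : ∀ m ∈ subs 2, (tbQ m).wf = true ∧ (∀ ws ∈ EsQ m, elOK (tbQ m) ws 5 = true) ∧
    (∀ w ∈ subs 7, (tbQ m).eqv (w ++ w) [] = true →
      ∃ ws ∈ EsQ m, ∀ i < 5, (tbQ m).same (app ws [i] ++ w) (w ++ app ws [i]) = true) ∧
    (∀ w ∈ subs 7, (tbQ m).eqv (7 :: w ++ 7 :: w) [] = true →
      ∃ r ∈ (subs 3).map (List.map (2 * · + 2)), ∃ b ∈ [[], [0]],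
        (tbQ m).same (7 :: w) (r ++ 7 :: b ++ r.reverse) = true) ∧
    ∀ ws ∈ [wAQ, wBQ], (∀ r < 8, ∀ i < 5,
      ∃ w ∈ subs 5, (tbQ m).same ([r] ++ app ws [i] ++ [r]) (app ws w) = true) ∧
      ∀ w ∈ subs 5, (tbQ m).eqv (app ws w ++ [7]) (7 :: app ws w) = true →
        w.all (· ∈ [0, 1, 3]) = true := by decide +kernel

namespace NQ

variable (h : NQ t v s u a σ ρ y Y X m)
include h

theorem wf : (tbQ m).wf = true := (keyQ m h.hm).1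

theorem noD (hg : g ∈ H (val [a, u, y, v, Y, s, X, t]) 7) : ¬ IsConj t g :=
  noD_tb h.toLoc h.pres h.ind h.wf (show 7 ≤ 8 by decide) _ (keyQ m h.hm).2.1 (keyQ m h.hm).2.2.1 hg

theorem cls (hg : t * g ∈ H (val [a, u, y, v, Y, s, X, t]) 7) (gg : g * g = 1) :
    ∃ w ∈ H (val [a, u, y, v, Y, s, X, t]) 7, g = w * t * w⁻¹ ∨ g = w * (t * a) * w⁻¹ := by
  obtain ⟨w, hw, b, hb, e⟩ := cls_tb h.pres h.ind h.wf (fun _ => rfl) (show 7 < 8 by decide) _ _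
    (by decide) (keyQ m h.hm).2.2.2.1 hg gg
  simp only [List.mem_cons, List.not_mem_nil, or_false] at hb
  exact ⟨w, hw, hb.imp (fun k => by simpa [k] using e) fun k => by simpa [k] using e⟩

theorem TP : cl [a, u, v, t, s] ≤ H (val [a, u, y, v, Y, s, X, t]) 8 := by
  rw [H_val]; exact cl_mono (by simp)

theorem cls' (hg : g ∈ H (val [a, u, y, v, Y, s, X, t]) 8) (c : IsConj t g) :
    ∃ w ∈ H (val [a, u, y, v, Y, s, X, t]) 8, g = w * (t * 1) * w⁻¹ ∨ g = w * (t * a) * w⁻¹ := by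
  obtain ⟨w, hw, e⟩ := h.cls (by
    simpa [inv_eq_of_mul_eq_one_right h.tt] using (h.pres.mem_succ h.wf (show 7 < 8 by decide)
      hg).resolve_left fun k => h.noD k c) (h.toTr.sq_of_isConj c)
  exact ⟨w, H_mono (by decide) hw, by rwa [mul_one]⟩

theorem elA : (∀ e ∈ cl [a, u, y, v, Y], e * e = 1) ∧ Nat.card (cl [a, u, y, v, Y]) = 2 ^ 5 ∧
    ∀ e ∈ cl [a, u, y, v, Y], ∃ w ∈ subs 5, e = W (val [a, u, y, v, Y, s, X, t]) (app wAQ w) :=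
  elem h.pres h.ind wAQ [a, u, y, v, Y] (by simp)
    (fun i hi => by change i < 5 at hi; interval_cases i <;> simp [wAQ, app])
    ((keyQ m h.hm).2.1 _ (by simp [EsQ]))

theorem elB : (∀ e ∈ cl [a, u, y, s, X], e * e = 1) ∧ Nat.card (cl [a, u, y, s, X]) = 2 ^ 5 ∧
    ∀ e ∈ cl [a, u, y, s, X], ∃ w ∈ subs 5, e = W (val [a, u, y, v, Y, s, X, t]) (app wBQ w) :=
  elem h.pres h.ind wBQ [a, u, y, s, X] (by simp)
    (fun i hi => by change i < 5 at hi; interval_cases i <;> simp [wBQ, app])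
    ((keyQ m h.hm).2.1 _ (by simp [EsQ]))

theorem EAt : cl [a, u, y, v, Y] ⊓ cen1 t = cl [a, u, v] :=
  fix_tb (n := 7) h.pres h.ind wAQ [a, u, y, v, Y] (by simp)
    (fun i hi => by change i < 5 at hi; interval_cases i <;> simp [wAQ, app])
    ((keyQ m h.hm).2.1 _ (by simp [EsQ])) _ ((keyQ m h.hm).2.2.2.2 _ (by simp)).2
    (by simp [mem_cl]) (le_inf (cl_mono (by simp)) (A0_cen h.toTr))

theorem EBt : cl [a, u, y, s, X] ⊓ cen1 t = cl [u, a, s] :=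
  fix_tb (n := 7) h.pres h.ind wBQ [a, u, y, s, X] (by simp)
    (fun i hi => by change i < 5 at hi; interval_cases i <;> simp [wBQ, app])
    ((keyQ m h.hm).2.1 _ (by simp [EsQ])) _ ((keyQ m h.hm).2.2.2.2 _ (by simp)).2
    (by simp [mem_cl]) (le_inf (cl_mono (by simp)) (A0_cen h.toTr.swap))

theorem naA : IsSyl 2 (H (val [a, u, y, v, Y, s, X, t]) 8) (nor (cl [a, u, y, v, Y])) :=
  na h.toLc (h.pres.isPGroup h.wf le_rfl) h.TP (nor_tb h.pres (fun _ => rfl) wAQ [a, u, y, v, Y]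
    (fun i hi => by change i < 5 at hi; interval_cases i <;> simp [wAQ, app])
    ((keyQ m h.hm).2.2.2.2 _ (by simp)).1) h.EAt (ab_of_sq h.elA.1) fun g hg c => by
      obtain ⟨w, hw, e | e⟩ := h.cls' hg c
      exacts [⟨w, hw, 1, one_mem _, e, Or.inl rfl⟩,
        ⟨w, hw, a, mem_cl (by simp), e, Or.inr fun g hg => (h.narA g hg).2⟩]

theorem naB : IsSyl 2 (H (val [a, u, y, v, Y, s, X, t]) 8) (nor (cl [a, u, y, s, X])) :=
  na (lc_swap h.toLc) (h.pres.isPGroup h.wf le_rfl) (cl_swap a u v t s ▸ h.TP)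
    (nor_tb h.pres (fun _ => rfl) wBQ [a, u, y, s, X]
    (fun i hi => by change i < 5 at hi; interval_cases i <;> simp [wBQ, app])
    ((keyQ m h.hm).2.2.2.2 _ (by simp)).1) h.EBt (ab_of_sq h.elB.1) fun g hg c => by
      obtain ⟨w, hw, e | e⟩ := h.cls' hg c
      exacts [⟨w, hw, 1, one_mem _, e, Or.inl rfl⟩,
        ⟨w, hw, a, mem_cl (by simp), e, Or.inr fun g hg => (h.narB g hg).2⟩]

end NQ

/-! ### The wide case -/

def wBV : List (ℕ × List ℕ) := [(4, [6]), (5, [7])]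
def EsV (l : Bool) (m : List ℕ) : List (List (ℕ × List ℕ)) :=
  [[(1, [2]), (2, [3]), (3, [4]), (4, [5])], [(1, [2]), (2, [3]), (3, [6]), (4, [7])]] ++
    if l = false ∧ m = [] then [[(1, [2]), (2, [3]), (3, [5]), (4, [7, 6])],
      [(1, [2]), (2, [3]), (3, [5, 4]), (4, [7])]] else []

theorem keyV : ∀ l, ∀ m ∈ subs 2, (tbV l m).wf = true ∧ (∀ ws ∈ EsV l m, elOK (tbV l m) ws 5 = true) ∧
    (∀ w ∈ subs 8, (tbV l m).eqv (w ++ w) [] = true →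
      ∃ ws ∈ EsV l m, ∀ i < 5, (tbV l m).same (app ws [i] ++ w) (w ++ app ws [i]) = true) ∧
    (∀ w ∈ subs 8, (tbV l m).eqv (8 :: w ++ 8 :: w) [] = true →
      ∃ r ∈ (subs 4).map (app [(0, [2]), (1, [3]), (2, [5]), (3, [7])]), ∃ b ∈ [[]],
        (tbV l m).same (8 :: w) (r ++ 8 :: b ++ r.reverse) = true) := by decide +kernel

theorem keyV' : ∀ l, ∀ m ∈ subs 2, ∀ ws ∈ [wAQ, wBV], elOK (tbV l m) ws 6 = true ∧ (∀ r < 9, ∀ i < 6,
      ∃ w ∈ subs 6, (tbV l m).same ([r] ++ app ws [i] ++ [r]) (app ws w) = true) ∧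
      ∀ w ∈ subs 6, (tbV l m).eqv (app ws w ++ [8]) (8 :: app ws w) = true →
        w.all (· ∈ [0, 1, 4]) = true := by decide +kernel

namespace WQ

variable (h : WQ t v s u a σ ρ p q Y X l m)
include h

theorem wf : (tbV l m).wf = true := (keyV l m h.hm).1

theorem noD (hg : g ∈ H (val [a, u, p, q, v, Y, s, X, t]) 8) : ¬ IsConj t g :=
  noD_tb h.toLoc h.pres h.ind h.wf (show 8 ≤ 9 by decide) _ (keyV l m h.hm).2.1
    (keyV l m h.hm).2.2.1 hg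

theorem cls (hg : t * g ∈ H (val [a, u, p, q, v, Y, s, X, t]) 8) (gg : g * g = 1) :
    ∃ w ∈ H (val [a, u, p, q, v, Y, s, X, t]) 8, g = w * t * w⁻¹ := by
  obtain ⟨w, hw, b, hb, e⟩ := cls_tb h.pres h.ind h.wf (fun _ => rfl) (show 8 < 9 by decide) _ _
    (by decide) (keyV l m h.hm).2.2.2 hg gg
  exact ⟨w, hw, by simpa [List.mem_singleton.1 hb] using e⟩

theorem TP : cl [a, u, v, t, s] ≤ H (val [a, u, p, q, v, Y, s, X, t]) 9 := by
  rw [H_val]; exact cl_mono (by simp)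

theorem cls' (hg : g ∈ H (val [a, u, p, q, v, Y, s, X, t]) 9) (c : IsConj t g) :
    ∃ w ∈ H (val [a, u, p, q, v, Y, s, X, t]) 8, g = w * t * w⁻¹ := h.cls (by
    simpa [inv_eq_of_mul_eq_one_right h.tt] using (h.pres.mem_succ h.wf (show 8 < 9 by decide)
      hg).resolve_left fun k => h.noD k c) (h.toTr.sq_of_isConj c)

theorem elA : (∀ e ∈ cl [a, u, p, q, v, Y], e * e = 1) ∧ Nat.card (cl [a, u, p, q, v, Y]) = 2 ^ 6 ∧
    ∀ e ∈ cl [a, u, p, q, v, Y], ∃ w ∈ subs 6, e = W (val [a, u, p, q, v, Y, s, X, t]) (app wAQ w) :=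
  elem h.pres h.ind wAQ [a, u, p, q, v, Y] (by simp)
    (fun i hi => by change i < 6 at hi; interval_cases i <;> simp [wAQ, app])
    (keyV' l m h.hm _ (by simp)).1

theorem elB : (∀ e ∈ cl [a, u, p, q, s, X], e * e = 1) ∧ Nat.card (cl [a, u, p, q, s, X]) = 2 ^ 6 ∧
    ∀ e ∈ cl [a, u, p, q, s, X], ∃ w ∈ subs 6, e = W (val [a, u, p, q, v, Y, s, X, t]) (app wBV w) :=
  elem h.pres h.ind wBV [a, u, p, q, s, X] (by simp)
    (fun i hi => by change i < 6 at hi; interval_cases i <;> simp [wBV, app])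
    (keyV' l m h.hm _ (by simp)).1

theorem EAt : cl [a, u, p, q, v, Y] ⊓ cen1 t = cl [a, u, v] :=
  fix_tb (n := 8) h.pres h.ind wAQ [a, u, p, q, v, Y] (by simp)
    (fun i hi => by change i < 6 at hi; interval_cases i <;> simp [wAQ, app])
    (keyV' l m h.hm _ (by simp)).1 _ (keyV' l m h.hm _ (by simp)).2.2
    (by simp [mem_cl]) (le_inf (cl_mono (by simp)) (A0_cen h.toTr))

theorem EBt : cl [a, u, p, q, s, X] ⊓ cen1 t = cl [u, a, s] :=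
  fix_tb (n := 8) h.pres h.ind wBV [a, u, p, q, s, X] (by simp)
    (fun i hi => by change i < 6 at hi; interval_cases i <;> simp [wBV, app])
    (keyV' l m h.hm _ (by simp)).1 _ (keyV' l m h.hm _ (by simp)).2.2
    (by simp [mem_cl]) (le_inf (cl_mono (by simp)) (A0_cen h.toTr.swap))

theorem naA : IsSyl 2 (H (val [a, u, p, q, v, Y, s, X, t]) 9) (nor (cl [a, u, p, q, v, Y])) :=
  na h.toLc (h.pres.isPGroup h.wf le_rfl) h.TP (nor_tb h.pres (fun _ => rfl) wAQ [a, u, p, q, v, Y]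
    (fun i hi => by change i < 6 at hi; interval_cases i <;> simp [wAQ, app])
    (keyV' l m h.hm _ (by simp)).2.1) h.EAt (ab_of_sq h.elA.1) fun g hg c => by
      obtain ⟨w, hw, e⟩ := h.cls' hg c
      exact ⟨w, H_mono (by decide) hw, 1, one_mem _, by rwa [mul_one], Or.inl rfl⟩

theorem naB : IsSyl 2 (H (val [a, u, p, q, v, Y, s, X, t]) 9) (nor (cl [a, u, p, q, s, X])) :=
  na (lc_swap h.toLc) (h.pres.isPGroup h.wf le_rfl) (cl_swap a u v t s ▸ h.TP)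
    (nor_tb h.pres (fun _ => rfl) wBV [a, u, p, q, s, X]
    (fun i hi => by change i < 6 at hi; interval_cases i <;> simp [wBV, app])
    (keyV' l m h.hm _ (by simp)).2.1) h.EBt (ab_of_sq h.elB.1) fun g hg c => by
      obtain ⟨w, hw, e⟩ := h.cls' hg c
      exact ⟨w, H_mono (by decide) hw, 1, one_mem _, by rwa [mul_one], Or.inl rfl⟩

end WQ

end H49.NW
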