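import Cfsg.Agent.H49.NWN4
import Cfsg.Agent.H30.NW1
import Cfsg.Agent.H30.NW2
import Cfsg.Agent.H58.NW3

/-! DZ, branch NE. -/

namespace H49.NW

universe u

theorem jobNE : H85.DZ.JobNE.{u} := ne_of H30.NW.jobN1 H30.NW.jobN2 H58.NW.jobN3 jobN4

end H49.NW
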