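import Cfsg.Agent.H49.D8R4a
import Cfsg.Agent.H90.D8R4A

/-! D8, JobR4B: the Sylow subgroup. -/

set_option autoImplicit false
set_option linter.unusedSectionVars false

namespace H49.D8

open Subgroup Cfsg H98 H14 H1.Gold H85.FZ
open H88.AS (KI same)

universe u

variable {G : Type u} [Group G] [Finite G] {v s z v' s' z' d e g x n : G} {A A' T : Subgroup G}

theorem DH.sw_com (D : DH v s z) (hg : g ∈ nor (cl [v, s])) (k : g * v * g⁻¹ ∉ cl [v, z])
    (hd : d ∈ cl [v, s]) (dd : d * d = 1) (c : d * (g * d * g⁻¹) = g * d * g⁻¹ * d) :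
    d = 1 ∨ d = z := by
  have aux : ∀ {v s : G}, DH v s z → g ∈ nor (cl [v, s]) → g * v * g⁻¹ ∉ cl [v, z] →
      d ∈ cl [v, z] → d = 1 ∨ d = z := fun {v s} D hg k m => by
    have m' := D.sw_V hg k m
    have cv : v * (g * d * g⁻¹) = g * d * g⁻¹ * v → d = 1 ∨ d = z := fun q => by
      rcases D.VV (D.cenv (D.V'_le m') q) m' with e | e
      · exact Or.inl (by simpa using e)
      · rw [← (D.aut hg).1] at e
        exact Or.inr (by simpa using e)
    rcases D.memV.1 m with e | e | e | e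
    · exact Or.inl e
    · exact Or.inr e
    · exact cv (by rw [← e]; exact c)
    · refine cv (mul_right_cancel (b := z) ?_)
      rw [mul_assoc, D.cz (D.V'_le m'), ← mul_assoc, mul_assoc _ v, ← e]
      exact c
  rcases D.inv hd dd with m | m
  exacts [aux D hg k m, aux D.swap (cl_sw v s ▸ hg) (fun q => k ((D.nv_swap hg).1 q)) m]

theorem card_cl2 {a b : G} (aa : a * a = 1) (bb : b * b = 1) (c : a * b = b * a) :
    Nat.card (cl [a, b]) ≤ 4 := by
  have P : Pres (.of 2 []) (val [a, b]) := by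
    refine ⟨fun i hi j hj => ?_, fun i hi => ?_⟩ <;> change i < 2 at hi
    · interval_cases i <;> interval_cases j <;> wsimp
      exact c
    · interval_cases i <;> wsimp
      exacts [aa, bb]
  have := Nat.le_of_dvd (by norm_num) (P.card_dvd rfl (k := 2) le_rfl)
  rwa [H_val] at this

/-- `D₈ wr 2`: letters `z 0, v 1, s 2, z' 3, v' 4, s' 5, n 6`. -/
def tbS : Tb := .of 7 [(2, 1, [1, 0]), (5, 4, [4, 3]), (6, 0, [3]), (6, 1, [4]), (6, 2, [5]),
  (6, 3, [0]), (6, 4, [1]), (6, 5, [2])]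

namespace PP

variable (P : PP A A' T v s z v' s' z')
include P

theorem delta (hg : g ∈ T) (k : g * v * g⁻¹ ∉ cl [v, z]) : SectionalPRankLE 2 4 G := by
  have D := P.f.toDH
  have D' := P.f'.toDH
  obtain ⟨S, hS, hT⟩ := exists_isSyl_le P.f.syl.isPGroup (le_top : T ≤ ⊤)
  have k' : g * v' * g⁻¹ ∉ cl [v', z'] := fun q => k (P.nv_of_T1 (by
    rw [sup_comm]; exact P.swap.T1 hg q))
  refine ne8 hS (hT P.f'.zC.1) D'.zz fun E hE nE sq _ => ?_
  rw [P.ST hS.isPGroup hT] at hE nE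
  refine (card_le_of_le fun x hx => ?_).trans (card_cl2 D.zz D'.zz (P.q D.z_mem D'.z_mem))
  have cm : ∀ a ∈ E, ∀ b ∈ E, a * b = b * a := fun a ha b hb => by
    rw [← inv_eq_of_mul_eq_one_right (sq _ (mul_mem ha hb)), mul_inv_rev,
      inv_eq_of_mul_eq_one_right (sq a ha), inv_eq_of_mul_eq_one_right (sq b hb)]
  have nv : x * v * x⁻¹ ∈ cl [v, z] := by
    by_contra q
    have := sq _ (mul_mem (conj_mem_of_mem_normalizer (nE (P.f.D_le (m1 v s))) hx) (inv_mem hx))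
    rw [show v * x * v⁻¹ * x⁻¹ = v * (x * v⁻¹ * x⁻¹) by group, inv_eq_of_mul_eq_one_right D.vv] at this
    exact D.z1 ((D.of_mem (Or.inl rfl) (D.of_sw (P.f.nD le_rfl (hE hx)) q).1).1.vsvs.symm.trans this)
  obtain ⟨d, hd, e, he, rfl⟩ := P.mem_sup (P.T1 (hE hx) nv)
  have n1 := P.f.nD le_rfl hg
  have n2 := P.f'.nD le_rfl hg
  have md := conj_mem_of_mem_normalizer n1 hd
  have me := conj_mem_of_mem_normalizer n2 he
  have mul : ∀ {a b a' b' : G}, a' ∈ cl [v, s] → b ∈ cl [v', s'] →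
      a * b * (a' * b') = a * a' * (b * b') := fun {a b a' b'} ha hb => by
    rw [mul_assoc a, ← mul_assoc b, ← P.q ha hb]; group
  have s2 := P.proj (mul_mem hd hd) (mul_mem he he) (one_mem _) (one_mem _) (by
    rw [← mul hd he, sq _ hx, mul_one])
  have c2 := cm _ hx _ (conj_mem_of_mem_normalizer (nE hg) hx)
  rw [show g * (d * e) * g⁻¹ = g * d * g⁻¹ * (g * e * g⁻¹) by group, mul md he, mul hd me] at c2
  have c3 := P.proj (mul_mem hd md) (mul_mem he me) (mul_mem md hd) (mul_mem me he) c2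
  refine mul_mem ?_ ?_
  · rcases D.sw_com n1 k hd s2.1 c3.1 with rfl | rfl
    exacts [one_mem _, m1 _ _]
  · rcases D'.sw_com n2 k' he s2.2 c3.2 with rfl | rfl
    exacts [one_mem _, m2 _ _]

variable (nn : n * n = 1) (hv : n * v * n⁻¹ = v') (hs : n * s * n⁻¹ = s') (hz : n * z * n⁻¹ = z')
include nn hv hs hz

theorem pres : Pres tbS (val [z, v, s, z', v', s', n]) := by
  have D := P.f.toDH
  have D' := P.f'.toDH
  have a : ∀ {x y : G}, n * x * n⁻¹ = y → y * n = n * x := fun h => by rw [← h]; group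
  have b : ∀ {x y : G}, n * x * n⁻¹ = y → x * n = n * y := fun h => by
    rw [← h, ← mul_assoc, ← mul_assoc, nn, one_mul, inv_eq_of_mul_eq_one_right nn]
  refine ⟨fun i hi j hj => ?_, fun i hi => ?_⟩ <;> change i < 7 at hi
  · interval_cases i <;> interval_cases j <;> simp only [tbS] <;> wsimp
    exacts [D.vz.symm, D.sz.symm, D.vs, P.q D.z_mem D'.z_mem, P.q (m1 _ _) D'.z_mem,
      P.q (m2 _ _) D'.z_mem, P.q D.z_mem (m1 _ _), P.q (m1 _ _) (m1 _ _), P.q (m2 _ _) (m1 _ _),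
      D'.vz.symm, P.q D.z_mem (m2 _ _), P.q (m1 _ _) (m2 _ _), P.q (m2 _ _) (m2 _ _), D'.sz.symm,
      D'.vs, b hz, b hv, b hs, a hz, a hv, a hs]
  · interval_cases i <;> simp only [tbS] <;> wsimp
    exacts [D.zz, D.vv, D.ss, D'.zz, D'.vv, D'.ss, nn]

theorem zne : z * n ≠ n * z := fun e => P.f.zK P.w.odd (by
  rw [← e, mul_inv_cancel_right] at hz; exact hz ▸ P.zK')

theorem ind : Ind (val [z, v, s, z', v', s', n]) 7 := by
  have D := P.f.toDH
  have D' := P.f'.toDH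
  have q1 := fun {d} (hd : d ∈ cl [v, s]) => P.q hd (m1 _ _)
  have q2 := fun {d} (hd : d ∈ cl [v, s]) => P.q hd (m2 _ _)
  intro k hk
  interval_cases k <;> rw [H_val] <;> intro m
  · exact D.z1 (mem_bot.1 ((cl_le (K := ⊥)).2 (by simp) m))
  · exact D.nc (mc1.1 ((cl_le (K := cen1 s)).2 (by simp [mc1, D.sz]) m))
  · exact D.nc (mc1.1 ((cl_le (K := cen1 v)).2 (by simp [mc1, D.vz]) m)).symm
  · exact D'.z1 (P.f.DK P.w.odd (D.cl3 ▸ m) P.zK')
  · exact D'.nc (mc1.1 ((cl_le (K := cen1 s')).2 (by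
      simp [mc1, D'.sz, q2 D.z_mem, q2 (m1 _ _), q2 (m2 _ _)]) m))
  · exact D'.nc (mc1.1 ((cl_le (K := cen1 v')).2 (by
      simp [mc1, D'.vz, q1 D.z_mem, q1 (m1 _ _), q1 (m2 _ _)]) m)).symm
  · exact P.zne nn hv hs hz (mc1.1 ((cl_le (K := cen1 z)).2 (by
      simp [mc1, D.vz, D.sz, q1 D.z_mem, q2 D.z_mem, P.q D.z_mem D'.z_mem]) m)).symm

theorem wreath (k : ∀ x ∈ T, x * v * x⁻¹ ∈ cl [v, z]) : SectionalPRankLE 2 4 G := by
  have D := P.f.toDH
  have D' := P.f'.toDH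
  have R := P.pres nn hv hs hz
  have I := P.ind nn hv hs hz
  set l := [z, v, s, z', v', s', n] with hl
  have two : IsPGroup 2 (cl l) := by
    have := R.isPGroup rfl (k := 7) le_rfl
    rwa [H_val] at this
  have word : ∀ {x : G}, x ∈ cl l → ∃ w ∈ subs 7, x = H85.FZ.W (val l) w := fun hx =>
    R.mem_cl rfl 7 le_rfl hx
  have TS : T ≤ cl l := fun x hx => (sup_le (cl_mono (by simp [hl])) (cl_mono (by simp [hl])) :
    _ ≤ cl l) (P.T1 hx (k x hx))
  have nl : n ∈ cl l := mem_cl (by simp [hl])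
  have orb : ∀ h ∈ cl l, h * z' * h⁻¹ = z' ∨ h * z' * h⁻¹ = z := fun h hh => by
    obtain ⟨w, hw, rfl⟩ := word hh
    have k : ∀ w ∈ subs 7, w.all (· < tbS.n) = true ∧ (tbS.same (w ++ [3] ++ w.reverse) [3] = true ∨
      tbS.same (w ++ [3] ++ w.reverse) [0] = true) := by decide +kernel
    have e := R.conj (fun _ => rfl) (k w hw).1 [3]
    refine (k w hw).2.imp (fun q => ?_) fun q => ?_ <;> simpa [hl] using e.trans (R.W_eq q)
  have syl : IsSyl 2 (cl l) ⊤ := by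
    obtain ⟨S, hS, le⟩ := exists_isSyl_le two (le_top : cl l ≤ ⊤)
    rcases le.eq_or_lt with e | lt
    · exact e ▸ hS
    obtain ⟨m, hm, nm⟩ := SetLike.exists_of_lt (lt_inf_normalizer hS.isPGroup lt)
    have ST := P.ST hS.isPGroup (TS.trans le)
    obtain ⟨w, hw, ew⟩ := word (conj_mem_of_mem_normalizer hm.2 (mem_cl (by simp [hl]) : z' ∈ cl l))
    have cls : ∀ a < 7, H85.FZ.W (val l) ([a] ++ w ++ [a]) = H85.FZ.W (val l) w ∨
        H85.FZ.W (val l) ([a] ++ w ++ [a]) = m * z * m⁻¹ := fun a ha => by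
      have e := R.conj (fun _ => rfl) (w := [a]) (by
        rw [show tbS.n = 7 from rfl]; simpa using ha) w
      rw [List.reverse_singleton] at e
      rw [← e, ← ew, show H85.FZ.W (val l) [a] * (m * z' * m⁻¹) * (H85.FZ.W (val l) [a])⁻¹ =
        m * (m⁻¹ * H85.FZ.W (val l) [a] * m * z' * (m⁻¹ * H85.FZ.W (val l) [a] * m)⁻¹) * m⁻¹ by group]
      exact (orb _ (conj_mem_of_mem_normalizer' hm.2 (W_mem_cl l 7 (w := [a]) (by simpa using ha)))).imp
        (fun q => by rw [q]) fun q => by rw [q]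
    have key : ∀ w ∈ subs 7, tbS.eqv (w ++ w) [] = true → (∀ a < 7, ∀ b < 7,
        tbS.eqv ([a] ++ w ++ [a]) w = true ∨ tbS.eqv ([b] ++ w ++ [b]) w = true ∨
          tbS.eqv ([a] ++ w ++ [a]) ([b] ++ w ++ [b]) = true) →
        w = [] ∨ w = [0] ∨ w = [3] ∨ w = [3, 0] := by decide +kernel
    have oy : orderOf (m * z' * m⁻¹) = 2 := by rw [orderOf_conj', D'.oz]
    rcases key w hw (R.eqv I (by rw [W_append, ← ew, mul_self_of_two oy, W_nil])) (fun a ha b hb => by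
      rcases cls a ha with p | p
      · exact Or.inl (R.eqv I p)
      · exact Or.inr ((cls b hb).imp (R.eqv I) fun q => R.eqv I (p.trans q.symm))) with
      rfl | rfl | rfl | rfl
    · exact absurd ew (ne_one_of_two oy)
    · have : n * m ∈ S ⊓ cen1 z' := ⟨S.mul_mem (le nl) hm.1, mc1.2 (mul_inv_eq_iff_eq_mul.1 (by
        rw [show n * m * z' * (n * m)⁻¹ = n * (m * z' * m⁻¹) * n⁻¹ by group, ew]
        simpa [hl] using hz))⟩
      exact absurd ((mul_mem_cancel_left nl).1 (TS (ST ▸ this))) nm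
    · have : m ∈ S ⊓ cen1 z' := ⟨hm.1, mc1.2 (mul_inv_eq_iff_eq_mul.1 (by simpa [hl] using ew))⟩
      exact absurd (TS (ST ▸ this)) nm
    · refine absurd ?_ P.nki
      rw [P.q D.z_mem D'.z_mem, show z' * z = m * z' * m⁻¹ by simpa [hl] using ew.symm]
      exact KI.conj ⟨D'.oz, 1, by rw [cj_one]; exact P.zK'⟩ m
  have R' : Pres (.of 3 []) (val [z' * z, v' * v, n]) :=
    R.derive' _ [(0, [3, 0]), (1, [4, 1]), (2, [6])]
      (fun i hi => by change i < 3 at hi; interval_cases i <;> simp only [hl] <;> wsimp) rfl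
      (by decide +kernel)
  have c1 : z' * z * s = s * (z' * z) := by
    simpa [hl, mul_assoc] using R.W_eq (w := [3, 0, 2]) (w' := [2, 3, 0]) (by decide +kernel)
  have c2 : z' * z * z = z * (z' * z) := by
    simpa [hl, mul_assoc] using R.W_eq (w := [3, 0, 0]) (w' := [0, 3, 0]) (by decide +kernel)
  have c3 : v' * v * z = z * (v' * v) := by
    simpa [hl, mul_assoc] using R.W_eq (w := [4, 1, 0]) (w' := [0, 4, 1]) (by decide +kernel)
  have I' : Ind (val [z' * z, v' * v, n]) 3 := by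
    intro k hk
    interval_cases k <;> rw [H_val] <;> intro m
    · exact P.swap.zz1 (mem_bot.1 ((cl_le (K := ⊥)).2 (by simp) m))
    · exact R.ne I (w := [4, 1, 2]) (w' := [2, 4, 1]) (by decide +kernel) (by
        simpa [hl, mul_assoc] using mc1.1 ((cl_le (K := cen1 s)).2 (by simp [mc1, c1]) m))
    · exact P.zne nn hv hs hz (mc1.1 ((cl_le (K := cen1 z)).2 (by simp [mc1, c2, c3]) m)).symm
  have le : cl [z' * z, v' * v, n] ≤ cl l := cl_le.2 (by
    simp only [List.mem_cons, List.not_mem_nil, or_false, forall_eq_or_imp, forall_eq]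
    exact ⟨mul_mem (mem_cl (by simp [hl])) (mem_cl (by simp [hl])),
      mul_mem (mem_cl (by simp [hl])) (mem_cl (by simp [hl])), nl⟩)
  refine sce8 syl le (fun e he => ?_) ?_ fun x hx => ?_
  · obtain ⟨w, hw, rfl⟩ := R'.mem_cl rfl 3 le_rfl he
    rw [← W_append]
    exact R'.W_eq (w' := []) ((by decide +kernel :
      ∀ w ∈ subs 3, (Tb.of 3 []).same (w ++ w) [] = true) w hw)
  · have := R'.card rfl (k := 3) le_rfl I'
    rwa [H_val] at this
  · obtain ⟨w, hw, rfl⟩ := word hx.1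
    have a1 := mcen.1 hx.2 _ (mem_cl (by simp) : n ∈ cl [z' * z, v' * v, n])
    have a2 := mcen.1 hx.2 _ (mem_cl (by simp) : v' * v ∈ cl [z' * z, v' * v, n])
    obtain ⟨w', hw', e⟩ := (by decide +kernel : ∀ w ∈ subs 7, tbS.eqv ([6] ++ w) (w ++ [6]) = true →
      tbS.eqv ([4, 1] ++ w) (w ++ [4, 1]) = true → ∃ w' ∈ subs 3,
        tbS.same w (app [(0, [3, 0]), (1, [4, 1]), (2, [6])] w') = true) w hw
      (R.eqv I (by simpa [hl] using a1)) (R.eqv I (by simpa [hl, mul_assoc] using a2))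
    rw [R.W_eq e]
    simp only [subs, List.map_cons, List.map_nil, List.cons_append, List.nil_append, List.mem_cons,
      List.not_mem_nil, or_false] at hw'
    have b0 : z' * z ∈ cl [z' * z, v' * v, n] := mem_cl (by simp)
    have b1 : v' * v ∈ cl [z' * z, v' * v, n] := mem_cl (by simp)
    have b2 : n ∈ cl [z' * z, v' * v, n] := mem_cl (by simp)
    rcases hw' with rfl | rfl | rfl | rfl | rfl | rfl | rfl | rfl <;> simp only [hl] <;> wsimp
    exacts [one_mem _, b0, b1, by simpa [mul_assoc] using mul_mem b1 b0, b2, mul_mem b2 b0,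
      mul_mem b2 b1, by simpa [mul_assoc] using mul_mem b2 (mul_mem b1 b0)]

end PP

theorem Wd.pp (w : Wd A) (f : Fr (nor A) A (cen A) T v s z) (hg : g ∈ nor T)
    (hz : z ∈ H98.cj g (cen A)) : cl [g * v * g⁻¹, g * s * g⁻¹] ≤ cen (cl [v, s]) ∧
      g * z * g⁻¹ ∈ cen A ∧ g * g ∈ nor A := by
  have f' := f.cj' g
  rw [cj_eq_self hg] at f'
  have cm : cl [g * v * g⁻¹, g * s * g⁻¹] ≤ cen (cl [v, s]) := fun e he => mcen.2 fun d hd => by
    by_contra q
    have m1 : d * e * d⁻¹ * e⁻¹ ∈ cl [v, s] := by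
      rw [show d * e * d⁻¹ * e⁻¹ = d * (e * d⁻¹ * e⁻¹) by group]
      exact mul_mem hd (conj_mem_of_mem_normalizer (f.nD le_rfl (f'.D_le he)) (inv_mem hd))
    have n := f.D_le.trans (f'.nD le_rfl)
    have := f.toDH.z_mem_of n m1 (mul_mem (conj_mem_of_mem_normalizer (n hd) he) (inv_mem he))
      fun k => q (by rwa [mul_inv_eq_one, mul_inv_eq_iff_eq_mul] at k)
    exact f.z1 (f'.DK (w.cj g).odd this (by rwa [cen, ← cj_centralizer]))
  have zK : g * z * g⁻¹ ∈ cen A := f'.toDH.comm_eq ▸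
    f.comK ⟨f'.D_le (m1 _ _), cm (m1 _ _)⟩ ⟨f'.D_le (m2 _ _), cm (m2 _ _)⟩
  exact ⟨cm, zK, w.nK ▸ te_mem_normalizer w.te f'.toDH.oz zK (cj_cj g g _ ▸ conj_mem_cj hz)⟩

theorem Wd.pp' (w : Wd A) (f : Fr (nor A) A (cen A) T v s z) (hg : g ∈ nor T)
    (hz : z ∈ H98.cj g (cen A)) (gg : g * g ∈ T) :
    PP A (H98.cj g A) T v s z (g * v * g⁻¹) (g * s * g⁻¹) (g * z * g⁻¹) := by
  have f' := f.cj' g
  rw [cj_eq_self hg] at f'
  obtain ⟨cm, zK, -⟩ := w.pp f hg hz
  refine ⟨w, f, f', ⟨g, rfl⟩, by rwa [cen, ← cj_centralizer], zK, cm, fun ⟨o, a, ha⟩ => ?_⟩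
  have fz := f.toDH.fixz (f.nD le_rfl gg)
  have c := mcen.1 (cm f'.toDH.z_mem) z f.toDH.z_mem
  have two : IsPGroup 2 ↥(T ⊔ zpowers g) := isPGroup_of_forall_pow_mem f.syl.isPGroup fun x hx => by
    obtain ⟨t, ht, y, hy, rfl⟩ := (mem_sup_right_norm (zpowers_le.2 hg)).1 hx
    obtain ⟨i, rfl⟩ := mem_zpowers_iff.1 hy
    refine ⟨1, ?_⟩
    rw [pow_one, pow_two, show t * g ^ i * (t * g ^ i) = t * (g ^ i * t * (g ^ i)⁻¹) * (g ^ i * g ^ i) by
      group, ← (Commute.refl g).mul_zpow]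
    exact mul_mem (mul_mem ht (conj_mem_of_mem_normalizer (zpow_mem hg i) ht)) (zpow_mem gg i)
  have le : T ⊔ zpowers g ≤ H98.cj a (nor A) := by
    rw [w.nK, nor, cj_normalizer]
    refine le_trans (sup_le (fun x hx => mc1.2 ?_) (zpowers_le.2 (mc1.2 ?_)))
      (te_centralizer_le (te_cj w.te a) o ha)
    · rw [← mul_assoc, f.toDH.fixz (f.nD le_rfl hx), mul_assoc, f'.toDH.fixz (f'.nD le_rfl hx),
        ← mul_assoc]
    · calc _ = g * z * g⁻¹ * (g * g * z * (g * g)⁻¹) * g := by group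
        _ = _ := by rw [fz, mul_inv_cancel_right, ← c]
  have h1 := (f.syl.cj a).card_le two le
  rw [card_cj] at h1
  have gT : g ∈ T := eq_of_le_of_card_ge (le_sup_left : T ≤ T ⊔ zpowers g) h1 ▸
    mem_sup_right (mem_zpowers g)
  exact f.zK w.odd (cj_eq_self (norK (f.syl.le gT)) ▸ hz)

theorem jobR4B : JobR4B.{u} := by
  intro G _ _ A w ⟨x, hx, kx⟩
  obtain ⟨T, hT⟩ := exists_isSyl 2 (nor A)
  obtain ⟨v, s, z, f⟩ := w.fr T hT
  have D := f.toDH
  obtain ⟨σ, h1, h2⟩ := f.triA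
  obtain ⟨ρ, h3, h4⟩ := f.triB
  obtain ⟨a, -, ea⟩ := f.to_z (f.sylA le_normalizer le_rfl) h1 h2 h3 h4 hx kx.1
  obtain ⟨-, g₁, hz₁⟩ := ea ▸ KI.conj kx a
  have le : T ≤ H98.cj g₁ (nor A) := by
    rw [w.nK, nor, cj_normalizer]
    exact le_trans (fun x hx => mc1.2 (D.fixz (f.nD le_rfl hx)))
      (te_centralizer_le (te_cj w.te g₁) D.oz hz₁)
  obtain ⟨c, hc, ec⟩ := (hT.cj g₁).exists_cj_eq ((hT.cj g₁).of_card_ge hT.isPGroup le
    (card_cj g₁ T).le)
  rw [cj_cj, cj_eq_self_iff] at ec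
  rw [w.nK, nor, cj_normalizer] at hc
  have hz₂ : z ∈ H98.cj (c * g₁) (cen A) := by rwa [← cj_cj, cj_eq_self hc]
  obtain ⟨-, -, sq⟩ := w.pp f ec hz₂
  obtain ⟨m, j, ⟨i, rfl⟩, hj⟩ := H69.exists_odd_pow_two_element (c * g₁)
  have hz : z ∈ H98.cj ((c * g₁) ^ (2 * i + 1)) (cen A) := by
    rwa [pow_succ', ← cj_cj, pow_mul, pow_two, cj_eq_self (norK (pow_mem sq i))]
  have hg := pow_mem ec (2 * i + 1)
  have sq' := pow_mem sq (2 * i + 1)
  rw [(Commute.refl _).mul_pow] at sq'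
  generalize (c * g₁) ^ (2 * i + 1) = g at hz hg sq' hj
  have gg : g * g ∈ T := zpowers_le.1 (hT.le_of_le_normalizer' (isPGroup_zpowers (k := j) (by
    rw [(Commute.refl g).mul_pow, hj, mul_one])) (zpowers_le.2 sq') (zpowers_le.2 (mul_mem hg hg)))
  have P := w.pp' f hg hz gg
  by_cases k : ∀ x ∈ T, x * v * x⁻¹ ∈ cl [v, z]
  swap
  · push Not at k
    obtain ⟨d, hd, k⟩ := k
    exact P.delta hd k
  obtain ⟨d, hd, e, he, q⟩ := P.mem_sup (P.T1 gg (k _ gg))
  have cjD : H98.cj g (cl [v, s]) = cl [g * v * g⁻¹, g * s * g⁻¹] := cj_cl g [v, s]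
  have m1 : g * d * g⁻¹ ∈ cl [g * v * g⁻¹, g * s * g⁻¹] := cjD ▸ conj_mem_cj hd
  have m2 : g * e * g⁻¹ ∈ cl [v, s] := by
    have := conj_mem_cj (g := g) he
    rwa [← cjD, cj_cj, cj_eq_self (f.nD le_rfl gg)] at this
  have e1 := (P.proj m2 m1 hd he (by
    rw [P.q m2 m1, ← q, show g * d * g⁻¹ * (g * e * g⁻¹) = g * (d * e) * g⁻¹ by group, ← q]
    group)).2
  have nn : g * d⁻¹ * (g * d⁻¹) = 1 := by
    calc _ = (g * d * g⁻¹)⁻¹ * (g * g) * d⁻¹ := by group
      _ = 1 := by rw [e1, q, P.q hd he]; group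
  have dT := inv_mem (f.D_le hd)
  exact (w.pp' f (mul_mem hg (le_normalizer dT)) (by
    rwa [← cj_cj, cj_eq_self (norK (hT.le dT))]) (nn.symm ▸ one_mem _)).wreath nn rfl rfl rfl k

theorem r4 : R4.{u} := r4_of H90.D8.jobR4A jobR4B

end H49.D8
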