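import Cfsg.Agent.H48.DNASpec
import Cfsg.Agent.H92.DP0BSpec
import Cfsg.Agent.H18.DPCPr

/-! # S3275, chapter alpha, slot T3b: `y` lies in the component and `z` centralises it -/

set_option autoImplicit false

namespace H49.NaT3b

open Subgroup Cfsg H98 H48.DP H57.DPC H48.DP2
open scoped commutatorElement

universe u

variable {G : Type u} [Group G]

theorem ord3 {a : G} (h : a ^ 3 = 1) (h1 : a ≠ 1) : orderOf a = 3 :=
  haveI : Fact (Nat.Prime 3) := ⟨Nat.prime_three⟩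
  orderOf_eq_prime h h1

theorem no_map {N W : Subgroup G} (π : N →* G) (g : N) (hg : (g : G) ∈ No W) :
    π g ∈ No ((W.subgroupOf N).map π) := by
  apply le_normalizer_map π
  refine mem_map_of_mem π ?_
  rw [mem_normalizer_iff]
  intro h
  simp only [mem_subgroupOf, coe_mul, coe_inv]
  exact mem_normalizer_iff.1 hg h

theorem jobT3b : JT3b.{u} := by
  intro G _ _ S W L y z r sd hL hW hy hz
  obtain ⟨-, cm⟩ := sd.str.cm L hL
  obtain ⟨π, hπ, hc, hk⟩ := (H18.DPCPr.jobPr G L cm.sm.cen cm.inn).1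
  have hWN : W ≤ No L := fun w hw => cm.two w (mem_top w) (sd.W2.to_le (zpowers_le.2 hw))
  have hr : r ∈ No L := cm.two r (mem_top r) sd.r2
  have y3 : y ^ 3 = 1 := by rw [← sd.y3]; exact pow_orderOf_eq_one y
  have z3 : z ^ 3 = 1 := by rw [← sd.z3]; exact pow_orderOf_eq_one z
  have a3 : π ⟨y, hy⟩ ^ 3 = 1 := by
    rw [← map_pow, show (⟨y, hy⟩ : No L) ^ 3 = 1 from Subtype.ext y3, map_one]
  have b3 : π ⟨z, hz⟩ ^ 3 = 1 := by
    rw [← map_pow, show (⟨z, hz⟩ : No L) ^ 3 = 1 from Subtype.ext z3, map_one]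
  have cyz : Commute y z := (mem_centralizer_singleton_iff.1 (sd.cy sd.zS)).symm
  have cab : Commute (π ⟨y, hy⟩) (π ⟨z, hz⟩) :=
    (show Commute (⟨y, hy⟩ : No L) ⟨z, hz⟩ from Subtype.ext cyz.eq).map π
  have cca : Commute (π ⟨r, hr⟩) (π ⟨y, hy⟩) :=
    (show Commute (⟨r, hr⟩ : No L) ⟨y, hy⟩ from Subtype.ext sd.ry.eq).map π
  have ccb : π ⟨r, hr⟩ * π ⟨z, hz⟩ * (π ⟨r, hr⟩)⁻¹ = (π ⟨z, hz⟩)⁻¹ := by
    rw [← map_inv, ← map_inv, ← map_mul, ← map_mul]
    exact congrArg π (Subtype.ext sd.rz)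
  -- `y` does not centralise `L`
  have a1 : π ⟨y, hy⟩ ≠ 1 := by
    intro e
    apply hW
    rw [← sd.com, commutator_le]
    intro w hw v hv
    have hv' : v ∈ Ce L := (zpowers_le.2 ((hk ⟨y, hy⟩).1 e)) hv
    have hvN : v ∈ No L := centralizer_le_normalizer _ hv'
    have e1 : π ⟨v, hvN⟩ = 1 := (hk ⟨v, hvN⟩).2 hv'
    have e2 : π ⁅(⟨w, hWN hw⟩ : No L), (⟨v, hvN⟩ : No L)⁆ = 1 := by
      rw [map_commutatorElement, e1, commutatorElement_one_right]
    exact (hk _).1 e2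
  have oa := ord3 a3 a1
  -- the projection of `z` is trivial
  have b1 : π ⟨z, hz⟩ = 1 := by
    by_contra b1
    have hb : π ⟨z, hz⟩ ∈ zpowers (π ⟨y, hy⟩) := by
      by_contra hb
      obtain ⟨e1, e2⟩ := H92.DPB.e9 (ord3 b3 b1) oa cab.symm hb
      rcases cm.sm.f4 _ ((W.subgroupOf (No L)).map π)
        (sup_le (zpowers_le.2 (hπ _)) (zpowers_le.2 (hπ _)))
        (by rintro _ ⟨w, -, rfl⟩; exact hπ w) e1 ((isPGroup_subgroupOf sd.W2 _).map π)
        (sup_le (zpowers_le.2 (no_map π ⟨z, hz⟩ sd.zW)) (zpowers_le.2 (no_map π ⟨y, hy⟩ sd.yW)))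
        with h | h
      · apply hW
        intro w hw
        have : π ⟨w, hWN hw⟩ ∈ (W.subgroupOf (No L)).map π := mem_map_of_mem π hw
        rw [h, mem_bot] at this
        exact (hk _).1 this
      · omega
    obtain ⟨n, hn⟩ := mem_zpowers_iff.1 hb
    have c1 : Commute (π ⟨r, hr⟩) (π ⟨z, hz⟩) := by
      rw [← hn]
      exact cca.zpow_right n
    rw [c1.eq, mul_inv_cancel_right] at ccb
    apply b1
    calc π ⟨z, hz⟩ = π ⟨z, hz⟩ ^ 3 * (π ⟨z, hz⟩ * π ⟨z, hz⟩)⁻¹ := by group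
      _ = 1 := by
        rw [b3]
        nth_rewrite 2 [ccb]
        simp
  refine ⟨?_, (hk _).1 b1⟩
  -- the projection of `y` is a power of `y`
  have key : ∀ g : No L, Commute (π ⟨y, hy⟩) (π g) → Commute (π ⟨y, hy⟩) (g : G) := by
    intro g hg
    have h1 : Commute (π ⟨y, hy⟩) ((π g)⁻¹ * g) := mem_centralizer_iff.1 (hc g) _ (hπ _)
    have h2 := hg.mul_right h1
    rwa [mul_inv_cancel_left] at h2
  have h1 := sd.fr _ a3 (key ⟨y, hy⟩ (Commute.refl _)) (key ⟨r, hr⟩ cca.symm)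
  have h2 : zpowers (π ⟨y, hy⟩) = zpowers y :=
    eq_of_le_of_card_ge (zpowers_le.2 h1) (by rw [Nat.card_zpowers, Nat.card_zpowers, oa, sd.y3])
  exact (zpowers_le.2 (hπ ⟨y, hy⟩)) (h2 ▸ mem_zpowers y)

end H49.NaT3b
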