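import Cfsg.Agent.H61.ECHex
import Cfsg.Agent.H64.Hx7
import Cfsg.Agent.H8.TransferEval
import Cfsg.Agent.H99.Product
import Cfsg.Agent.H57.SLCard

/-! The centralizer of the involution `ψ (-1)` in the group of a Moufang hexagon with torus. -/

set_option autoImplicit false
set_option linter.unusedSectionVars false

namespace H49.A7

open Subgroup H61 H12.LC H83 H64.Hx H61.EC
open scoped MatrixGroups

section St
variable {Y K L : Type*} [Group Y] [Field K] [Fintype K] [Field L] [Fintype L]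

/-- `C(j) = (SL₂ ∘ SL₂).2` inside `G₀`. -/
structure St (G₀ : Subgroup Y) (φ : SL(2, K) →* Y) (ψ : SL(2, L) →* Y) : Prop where
  i₁ : Function.Injective φ
  i₂ : Function.Injective ψ
  m₁ : ∀ a, φ a ∈ G₀
  m₂ : ∀ a, ψ a ∈ G₀
  comm : ∀ a b, φ a * ψ b = ψ b * φ a
  neg : φ (-1) = ψ (-1)
  idx : (φ.range ⊔ ψ.range).relIndex (G₀ ⊓ centralizer {ψ (-1)}) = 2
  n₁ : G₀ ⊓ centralizer {ψ (-1)} ≤ normalizer (φ.range : Set Y)
  n₂ : G₀ ⊓ centralizer {ψ (-1)} ≤ normalizer (ψ.range : Set Y)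
  fus : IsSquare (-1 : K) → IsSquare (-1 : L) → ∃ g ∈ G₀, g * ψ (-1) * g⁻¹ ≠ ψ (-1) ∧
    g * ψ (-1) * g⁻¹ ∈ φ.range ⊔ ψ.range

theorem mem_sup_range {φ : SL(2, K) →* Y} {ψ : SL(2, L) →* Y} (c : ∀ a b, φ a * ψ b = ψ b * φ a)
    {g : Y} (h : g ∈ φ.range ⊔ ψ.range) : ∃ a b, g = φ a * ψ b := by
  rw [← SetLike.mem_coe, coe_mul_of_left_le_normalizer_right _ _ (le_trans
    (by rintro _ ⟨a, rfl⟩ _ ⟨b, rfl⟩; exact (c a b).symm) (centralizer_le_normalizer _))] at h
  obtain ⟨_, ⟨a, rfl⟩, _, ⟨b, rfl⟩, rfl⟩ := h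
  exact ⟨a, b, rfl⟩

end St

variable {G : Type*} [Group G] [Finite G] {K L : Type*} [Field K] [Fintype K] [Field L] [Fintype L]
  (x : Hex G K L)

theorem ch_one {h : G} {t : K} {y : L} (c : Ch x h t y) (k : HxC x h 5) : y = 1 := by
  have := c.2.2 1
  rw [k _ (b_mem x 1), mul_inv_cancel_right, mul_one] at this
  exact (b_inj x this).symm

theorem ch_sq {h : G} {t : K} {y : L} (c : Ch x h t y) (k : h * h = 1) :
    (t = 1 ∨ t = -1) ∧ (y = 1 ∨ y = -1) := by
  have := (k ▸ c.mul c).det (t' := 1) (y' := 1) ⟨one_mem _, by simp, by simp⟩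
  exact ⟨mul_self_eq_one_iff.1 this.1, mul_self_eq_one_iff.1 this.2⟩

theorem ch_inv {h : G} (hT : h ∈ x.T) (k : HxC x h 5) (h2 : h * h = 1) (h1 : h ≠ 1) :
    Ch x h (-1) 1 := by
  obtain ⟨t, y, c⟩ := ex_ch x hT
  rw [ch_one x c k] at c
  rcases (ch_sq x c h2).1 with e | e <;> rw [e] at c
  · exact absurd (c.unique ⟨one_mem _, by simp, by simp⟩) h1
  · exact c

theorem hex_st : ∃ φ : SL(2, K) →* G, St x.G₀ φ x.ψ := by
  obtain ⟨m, hm, w, ha, hw⟩ := hex_exists_rot x 1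
  have mG : m ∈ x.G₀ := hexGRD_Gp x ▸ (hexGRD x).N_le_Gp hm
  let φ : SL(2, K) →* G := (MulAut.conj m).toMonoidHom.comp x.φ
  have r1 : φ.range = x.X 2 ⊔ x.X 8 := by
    rw [MonoidHom.range_comp, ← hex_range_φ, Subgroup.map_sup]
    have h0 := ha.map_X 0
    have h6 := ha.map_X 6
    rw [hw] at h0 h6
    exact congrArg₂ _ h0 h6
  have i1 : Function.Injective φ := (MulAut.conj m).injective.comp x.φ_inj
  have cm : ∀ a b, φ a * x.ψ b = x.ψ b * φ a := fun a b =>
    mem_centralizer_singleton_iff.1 ((sup_le (fun y hy => mem_centralizer_singleton_iff.2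
      (cen_psi x (.inl rfl) hy ⟨b, rfl⟩)) (fun y hy => mem_centralizer_singleton_iff.2
        (cen_psi x (.inr rfl) hy ⟨b, rfl⟩)) : _ ≤ centralizer {x.ψ b}) (r1 ▸ ⟨a, rfl⟩))
  have dT : ∀ u, φ (dU u) ∈ x.T := fun u => (hexGRD x).conj_H hm (hex_dgφ_le x (dU_mem_dg _ u))
  have c5 : ∀ a, HxC x (φ a) 5 := fun a y hy => by
    obtain ⟨s, rfl⟩ := (mem_X5 x).1 hy
    exact cm a _
  have jT := hex_dgψ_le x (neg_one_mem_dg x.ψ)
  have jj : x.ψ (-1) * x.ψ (-1) = 1 := by rw [← map_mul, sl_neg_one_mul_self, map_one]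
  have cj := ch_inv x jT ((hxC_iff x 5).2 (by simp)) jj (psi_ne_one x)
  have ng : φ (-1) = x.ψ (-1) := (ch_inv x ((hexGRD x).conj_H hm (hex_dgφ_le x (neg_one_mem_dg _)))
    (c5 _) (by change φ _ * φ _ = 1; rw [← map_mul, sl_neg_one_mul_self, map_one]) fun e =>
      sl_neg_one_ne_one (two_K x) (i1 (e.trans (map_one _).symm))).unique cj
  set M := φ.range ⊔ x.ψ.range with hM
  have XM : ∀ r : ZMod 12, r = 2 ∨ r = 5 ∨ r = 8 ∨ r = 11 → x.X r ≤ M := by
    rw [hM, r1, ← hex_range_ψ]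
    rintro r (rfl | rfl | rfl | rfl)
    exacts [le_sup_of_le_left le_sup_left, le_sup_of_le_right le_sup_left,
      le_sup_of_le_left le_sup_right, le_sup_of_le_right le_sup_right]
  have cM : ∀ g ∈ x.G₀ ⊓ centralizer {x.ψ (-1)}, g ∈ M ⊔ x.T := fun g hg => by
    refine grd_cent (hexGRD x) jT (fun r y hy h => ?_) (fun n hn h => ?_) (hexGRD_Gp x ▸ hg.1)
      (mem_centralizer_singleton_iff.1 hg.2).symm
    · by_cases h1 : y = 1
      · rw [h1]; exact one_mem _
      exact mem_sup_left (XM r ((hxC_iff x r).1 (hex_comm_of_fix x jT hy h1 h)) hy)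
    obtain ⟨v, hv⟩ := (hexGRD x).exists_act hn
    have a₁ := (ha.mul ((hexGRD x).act_n false)).mul ha.inv
    have a₂ := (hexGRD x).act_n true
    have N₁ := mul_mem (mul_mem hm ((hexGRD x).n_mem_N false)) (inv_mem hm)
    have N₂ := (hexGRD x).n_mem_N true
    have H₁ : m * (hexGRD x).n false * m⁻¹ ∈ M := mem_sup_left ⟨weyl K, rfl⟩
    have H₂ : (hexGRD x).n true ∈ M := mem_sup_right ⟨weyl L, rfl⟩
    have w₁ : ∀ r, (w * hexW.sW false * w⁻¹).1 r = 10 - r := fun r => by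
      have e : (w⁻¹).1 r = r - 2 := by
        conv_lhs => rw [show r = w.1 (r - 2) by rw [hw]; push_cast; ring]
        exact hexW.inv_apply_apply w _
      rw [hexW.mul_apply, hexW.mul_apply, e, hw]
      change 6 - (r - 2) + _ = _
      push_cast
      ring
    have w₂ : ∀ r, (hexW.sW true).1 r = 4 - r := fun _ => rfl
    have h2 := ((hxC_iff x 2).2 (by decide)).act hv
    rw [← h, mul_inv_cancel_right, hxC_iff] at h2
    have key : ∀ m' ∈ (hexGRD x).N, m' ∈ M → ∀ w', (hexGRD x).Act m' w' →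
        (∀ r, w'.1 r = v.1 r) → n ∈ M ⊔ x.T := fun m' hN' hH' w' ha' e => by
      have e' : w' = v := Subtype.ext (Equiv.ext e)
      simpa [hexGRD_H] using mul_mem_sup hH' ((hexGRD x).inv_mul_mem_H hN' hn (e' ▸ ha') hv)
    obtain ⟨k, hk | hk⟩ := hexW_W v <;> rw [hk] at h2
    · have : 2 * k = 0 ∨ 2 * k = 6 := by revert h2; clear hk; revert k; decide
      rcases this with e | e
      · exact key 1 (one_mem _) (one_mem _) 1 (hexGRD x).act_one fun r => by
          rw [hk, e, add_zero]; rfl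
      · refine key _ (mul_mem N₁ N₂) (mul_mem H₁ H₂) _ (a₁.mul a₂) fun r => ?_
        rw [hexW.mul_apply, w₁, w₂, hk, e]; ring
    · have : 2 * k = 4 ∨ 2 * k = 10 := by revert h2; clear hk; revert k; decide
      rcases this with e | e
      · exact key _ N₂ H₂ _ a₂ fun r => by rw [w₂, hk, e]
      · exact key _ N₁ H₁ _ a₁ fun r => by rw [w₁, hk, e]
  have nT : ∀ r s, x.T ≤ normalizer ((x.X r ⊔ x.X s : Subgroup G) : Set G) := fun r s =>
    le_nor fun h hh g hg => (sup_le (fun y hy => mem_sup_left (x.T_conj h hh r y hy))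
      (fun y hy => mem_sup_right (x.T_conj h hh s y hy)) :
        _ ≤ (x.X r ⊔ x.X s).comap (MulAut.conj h).toMonoidHom) hg
  have n1 : M ⊔ x.T ≤ normalizer (φ.range : Set G) := sup_le (sup_le le_normalizer (le_trans
    (by rintro _ ⟨a, rfl⟩ _ ⟨b, rfl⟩; exact cm b a) (centralizer_le_normalizer _))) (r1 ▸ nT 2 8)
  have n2 : M ⊔ x.T ≤ normalizer (x.ψ.range : Set G) := sup_le (sup_le (le_trans
    (by rintro _ ⟨a, rfl⟩ _ ⟨b, rfl⟩; exact (cm a b).symm) (centralizer_le_normalizer _))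
      le_normalizer) (hex_range_ψ x ▸ nT 5 11)
  have sq : ∀ {h : G} {t : Kˣ} {y : Lˣ}, Ch x h t y → (h ∈ M ↔ IsSquare (y : L)) := by
    intro h t y c
    constructor
    · intro k
      obtain ⟨p, q, rfl⟩ := mem_sup_range cm k
      have e := c.2.2 1
      rw [mul_one, mul_inv_eq_iff_eq_mul, b, b, ← mul_assoc, ← cm, mul_assoc, mul_assoc,
        mul_right_inj, ← map_mul, ← map_mul] at e
      have e := x.ψ_inj e
      have e1 := congrArg (fun g : SL(2, L) => g 1 1) e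
      have e2 := congrArg (fun g : SL(2, L) => g 0 1) e
      have d := sl_det q
      simp [sl_mul_apply] at e1 e2
      refine ⟨q 0 0, ?_⟩
      rw [e1] at d
      linear_combination (-q 0 0) * e2 - y * d
    · rintro ⟨v, hv⟩
      have v0 : v ≠ 0 := fun k => y.ne_zero (by rw [hv, k, zero_mul])
      choose f g hf using fun u => ex_ch x (dT u)
      have inj : Function.Injective f := fun u u' e => by
        have := (ch_one x (hf u) (c5 _) ▸ hf u).unique (e ▸ ch_one x (hf u') (c5 _) ▸ hf u')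
        exact Units.ext (by simpa [dU, hxD] using congrArg (fun g : SL(2, K) => g 0 0) (i1 this))
      obtain ⟨s, z, c'⟩ := ex_ch x (hex_dgψ_le x (dU_mem_dg x.ψ (Units.mk0 v v0)))
      have e := c'.2.2 1
      rw [b, b, ← map_inv, ← map_mul, ← map_mul, dU_conj] at e
      have e := hx_upper_inj (x.ψ_inj e)
      obtain ⟨u, hu⟩ := Finite.surjective_of_injective inj (t * s⁻¹)
      have := c.unique (h' := φ (dU u) * x.ψ (dU (Units.mk0 v v0))) (by
        convert (hf u).mul c' using 1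
        · rw [hu]; simp
        · rw [ch_one x (hf u) (c5 _), hv]; simpa using e)
      exact this ▸ mul_mem_sup ⟨_, rfl⟩ ⟨_, rfl⟩
  have TC : x.T ≤ x.G₀ ⊓ centralizer {x.ψ (-1)} := le_inf (hex_T_le x) fun h hh =>
    mem_centralizer_singleton_iff.2 (x.T_comm _ hh _ jT)
  refine ⟨φ, i1, x.ψ_inj, fun a => mul_mem (mul_mem mG (hex_φ_mem x a)) (inv_mem mG), hex_ψ_mem x,
    cm, ng, ?_, fun g hg => n1 (cM g hg), fun g hg => n2 (cM g hg), fun ⟨i, hi⟩ k => ?_⟩
  · classical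
    have h2 : ringChar L ≠ 2 := fun e => two_L x (by
      have := ringChar.Nat.cast_ringChar (R := L); rwa [e] at this)
    obtain ⟨y0, hy⟩ := FiniteField.exists_nonsquare h2
    have y1 : y0 ≠ 0 := fun e => hy (e ▸ IsSquare.zero)
    obtain ⟨h0, c0⟩ := ch_surj x (t := 1) one_ne_zero y1
    refine relIndex_eq_two_iff.2 ⟨h0, TC c0.1, fun g hg => ?_⟩
    have := cM g hg
    rw [← SetLike.mem_coe, coe_mul_of_right_le_normalizer_left _ _ (le_nor fun h hh g hg =>
      (sup_le (fun y hy => mem_sup_left ((mem_normalizer_iff.1 (n1 (mem_sup_right hh)) y).1 hy))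
        (fun y hy => mem_sup_right ((mem_normalizer_iff.1 (n2 (mem_sup_right hh)) y).1 hy)) :
          M ≤ M.comap (MulAut.conj h).toMonoidHom) hg)] at this
    obtain ⟨l, hl, h, hh, rfl⟩ := this
    obtain ⟨t, y, c⟩ := ex_ch x hh
    have e := sq (t := t) (y := y * Units.mk0 y0 y1) (by simpa using c.mul c0)
    simp only [mul_assoc, mul_mem_cancel_left hl]
    rw [e, sq c, Units.val_mul, ← quadraticChar_one_iff_isSquare (by simp [y1]),
      ← quadraticChar_one_iff_isSquare y.ne_zero, map_mul, Units.val_mk0,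
      quadraticChar_neg_one_iff_not_isSquare.2 hy]
    rcases quadraticChar_dichotomy y.ne_zero with k | k <;> rw [k] <;> decide
  · have aT := hex_dgφ_le x (neg_one_mem_dg x.φ)
    have e : m⁻¹ * x.ψ (-1) * m⁻¹⁻¹ = x.φ (-1) := by rw [← ng]; simp [φ, mul_assoc]
    refine ⟨m⁻¹, inv_mem mG, e ▸ fun k => ?_, e ▸ ?_⟩
    · exact absurd ((hxC_iff x 0).1 fun y hy => by
        obtain ⟨s, rfl⟩ := (mem_X0 x).1 hy
        rw [← k, a, ← map_mul, ← map_mul, neg_mul, mul_neg, one_mul, mul_one]) (by decide)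
    · obtain ⟨t, y, c⟩ := ex_ch x aT
      refine (sq c).2 ?_
      rcases (ch_sq x c (by rw [← map_mul, sl_neg_one_mul_self, map_one])).2 with e | e <;> rw [e]
      exacts [IsSquare.one, k]

end H49.A7
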