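import Cfsg.Agent.H49.A7Kit
import Cfsg.Agent.H49.A7Hex
import Cfsg.Agent.H67.G2Inv
import Cfsg.Agent.H84.SL2Q
import Cfsg.Agent.S2658
import Cfsg.Agent.S2660
import Cfsg.Agent.S2121
import Cfsg.Agent.S2129
import Cfsg.Agent.S1067
import Cfsg.Agent.S1071

/-! A7: the groups `G₂(q)` and `³D₄(q)`. -/

set_option autoImplicit false
set_option linter.unusedSectionVars false

namespace H49.A7

open Subgroup Cfsg H61
open scoped MatrixGroups

variable {Y : Type} [Group Y]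

theorem Hx.conj {m : ℕ} {z : Y} (h : Hx m z) (g : Y) : Hx m (g * z * g⁻¹) := by
  obtain ⟨F₁, F₂, _, _, _, _, L₁, L₂, h1, h2, h3, h4, ⟨e₁⟩, ⟨e₂⟩, h5, h6, h7, h8, h9⟩ := h
  let e := (MulAut.conj g).toMonoidHom
  have i : Function.Injective e := (MulAut.conj g).injective
  have c : centralizer {g * z * g⁻¹} = (centralizer {z}).map e := by
    ext y
    obtain ⟨y, rfl⟩ := (MulAut.conj g).surjective y
    refine Iff.trans ?_ (mem_map_iff_mem i).symm
    simp only [mem_centralizer_singleton_iff, MulAut.conj_apply, conj_mul, mul_left_inj, mul_right_inj]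
  refine ⟨F₁, F₂, _, _, _, _, L₁.map e, L₂.map e, h1, h2, h3, h4,
    ⟨(L₁.equivMapOfInjective e i).symm.trans e₁⟩, ⟨(L₂.equivMapOfInjective e i).symm.trans e₂⟩, ?_, ?_,
    ?_, c ▸ (map_mono h8).trans (le_normalizer_map e), c ▸ (map_mono h9).trans (le_normalizer_map e)⟩
  · rintro _ ⟨x, hx, rfl⟩ _ ⟨y, hy, rfl⟩
    rw [← map_mul, h5 x hx y hy, map_mul]
  · rw [← map_inf _ _ e i, h6, MonoidHom.map_zpowers]; rfl
  · rw [c, ← Subgroup.map_sup, relIndex_map_map_of_injective _ _ i, h7]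

variable {K L : Type} [Field K] [Fintype K] [Field L] [Fintype L]

theorem St.sub {G : Type} [Group G] {G₀ : Subgroup G} {φ : SL(2, K) →* G} {ψ : SL(2, L) →* G}
    (h : St G₀ φ ψ) : St ⊤ (φ.codRestrict G₀ h.m₁) (ψ.codRestrict G₀ h.m₂) := by
  have r : ∀ {F : Type} [Field F] (θ : SL(2, F) →* G) (k : ∀ a, θ a ∈ G₀),
      (θ.codRestrict G₀ k).range = θ.range.subgroupOf G₀ := fun θ k => by
    ext y
    exact ⟨fun ⟨a, e⟩ => ⟨a, congrArg Subtype.val e⟩, fun ⟨a, e⟩ => ⟨a, Subtype.ext e⟩⟩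
  have l1 : φ.range ≤ G₀ := by rintro _ ⟨a, rfl⟩; exact h.m₁ a
  have l2 : ψ.range ≤ G₀ := by rintro _ ⟨a, rfl⟩; exact h.m₂ a
  have c : ⊤ ⊓ centralizer {ψ.codRestrict G₀ h.m₂ (-1)} =
      (G₀ ⊓ centralizer {ψ (-1)}).subgroupOf G₀ := by
    ext y
    simp [mem_subgroupOf, mem_centralizer_singleton_iff, Subtype.ext_iff]
  refine ⟨fun a b e => h.i₁ (congrArg Subtype.val e), fun a b e => h.i₂ (congrArg Subtype.val e),
    fun _ => trivial, fun _ => trivial, fun a b => Subtype.ext (h.comm a b), Subtype.ext h.neg, ?_,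
    c ▸ r φ _ ▸ (comap_mono h.n₁).trans (le_normalizer_comap _),
    c ▸ r ψ _ ▸ (comap_mono h.n₂).trans (le_normalizer_comap _), fun a b => ?_⟩
  · rw [c, r, r, ← subgroupOf_sup l1 l2, relIndex_subgroupOf inf_le_left, h.idx]
  · obtain ⟨g, h1, h2, h3⟩ := h.fus a b
    refine ⟨⟨g, h1⟩, trivial, fun e => h2 (congrArg Subtype.val e), ?_⟩
    rw [r, r, ← subgroupOf_sup l1 l2]
    exact h3

theorem odd5 (F : Type) [Field F] [Fintype F] [CharP F 5] : Odd (Fintype.card F) := by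
  haveI : Fact (Nat.Prime 5) := ⟨by norm_num⟩
  obtain ⟨n, -, e⟩ := FiniteField.card F 5
  exact e ▸ Odd.pow (by decide)

theorem sq5 (F : Type) [Field F] [CharP F 5] : IsSquare (-1 : F) :=
  ⟨2, by have := CharP.cast_eq_zero F 5; push_cast at this; linear_combination -this⟩

theorem St.hx [Finite Y] [CharP K 5] [CharP L 5] {φ : SL(2, K) →* Y} {ψ : SL(2, L) →* Y}
    (h : St ⊤ φ ψ) {m n : ℕ} (h1 : m ≤ Fintype.card K) (h2 : m ≤ Fintype.card L) (hn : Odd n)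
    (hc : Nat.card Y = n * (Nat.card SL(2, K) * Nat.card SL(2, L)))
    (h3 : ∀ N : Subgroup Y, N.index ≠ 2) {z : Y} (hz : orderOf z = 2) : Hx m z := by
  have oK := odd5 K
  have oL := odd5 L
  set j := ψ (-1) with hj
  have j1 : j ≠ 1 := fun e => sl_neg_one_ne_one (H12.LC.two_ne_zero' oL) (h.i₂ (e.trans (map_one _).symm))
  have jj : j * j = 1 := by rw [← map_mul, sl_neg_one_mul_self, map_one]
  have oj : orderOf j = 2 := orderOf_eq_prime (by rwa [sq]) j1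
  have hi : φ.range ⊓ ψ.range = zpowers j := by
    refine le_antisymm ?_ (zpowers_le.2 ⟨⟨_, h.neg⟩, ⟨_, rfl⟩⟩)
    rintro _ ⟨⟨a, rfl⟩, b, hb⟩
    rcases sl_mem_center_iff.1 (mem_center_iff.2 fun g => h.i₁
      (show φ (g * a) = φ (a * g) by rw [map_mul, map_mul, ← hb, h.comm])) with rfl | rfl
    · rw [map_one]; exact one_mem _
    · rw [h.neg]; exact mem_zpowers j
  have hle : φ.range ⊔ ψ.range ≤ centralizer {j} := sup_le
    (by rintro _ ⟨a, rfl⟩; rw [mem_centralizer_singleton_iff, h.comm])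
    (by rintro _ ⟨a, rfl⟩; rw [mem_centralizer_singleton_iff, hj, ← h.neg, h.comm])
  have idx := h.idx
  have n1 := h.n₁
  have n2 := h.n₂
  rw [top_inf_eq] at idx n1 n2
  have e₁ := (MonoidHom.ofInjective h.i₁).symm
  have e₂ := (MonoidHom.ofInjective h.i₂).symm
  have hx : Hx m j := ⟨K, L, _, _, _, _, _, _, inferInstance, inferInstance, h1, h2, ⟨e₁⟩, ⟨e₂⟩,
    by rintro _ ⟨a, rfl⟩ _ ⟨b, rfl⟩; exact h.comm a b, hi, idx, n1, n2⟩
  have od : Odd (centralizer {j}).index := by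
    have a1 := H99.card_sup_mul_card_inf_of_le_normalizer (H := φ.range) (K := ψ.range)
      (le_trans (by rintro _ ⟨a, rfl⟩ _ ⟨b, rfl⟩; exact (h.comm a b).symm) (centralizer_le_normalizer _))
    rw [hi, Nat.card_zpowers, oj, Nat.card_congr e₁.toEquiv, Nat.card_congr e₂.toEquiv] at a1
    have a2 := ((φ.range ⊔ ψ.range).subgroupOf (centralizer {j})).card_mul_index
    rw [Nat.card_congr (subgroupOfEquivOfLe hle).toEquiv, ← relIndex, idx, a1] at a2
    have a3 := (centralizer {j}).index_mul_card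
    rw [hc, a2] at a3
    rwa [Nat.eq_of_mul_eq_mul_right Nat.card_pos a3]
  obtain ⟨g, hg⟩ : ∃ g, g * z * g⁻¹ ∈ φ.range ⊔ ψ.range := by
    by_contra! k
    obtain ⟨N, -, e, -⟩ := H8.thompson_transfer _ _ od idx z (hz ▸ pow_orderOf_eq_one z) k
    exact h3 N e
  have f₁ := H84.sl_subgroup_facts oK e₁ oj ⟨_, h.neg⟩
  have f₂ := H84.sl_subgroup_facts oL e₂ oj ⟨_, rfl⟩
  have key : ∀ t ∈ φ.range ⊔ ψ.range, orderOf t = 2 → t ≠ j →
      ∃ a b, t = φ a * ψ b ∧ φ a * φ a = j ∧ ψ b * ψ b = j := fun t ht o tj => by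
    obtain ⟨a, b, rfl⟩ := mem_sup_range h.comm ht
    have e : φ a * φ a * (ψ b * ψ b) = 1 := by
      rw [← pow_orderOf_eq_one (φ a * ψ b), o, Commute.mul_pow (h.comm a b), sq, sq]
    have m2 : φ a * φ a ∈ zpowers j := hi ▸ ⟨⟨a * a, map_mul _ _ _⟩,
      ⟨(b * b)⁻¹, by rw [map_inv, map_mul, eq_inv_of_mul_eq_one_left e]⟩⟩
    have : φ a * φ a = 1 ∨ φ a * φ a = j := by
      obtain ⟨i, hi⟩ := mem_zpowers_iff.1 m2
      rw [← hi]
      rcases Int.even_or_odd' i with ⟨k, rfl | rfl⟩ <;> simp [zpow_add, zpow_mul, zpow_ofNat, sq, jj]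
    rcases this with r | r
    · rw [r, one_mul] at e
      rcases f₁.1 _ ⟨a, rfl⟩ r with p | p <;> rcases f₂.1 _ ⟨b, rfl⟩ e with q | q <;>
        simp [p, q, jj] at o tj
    · rw [r, ← jj, mul_right_inj] at e
      exact ⟨a, b, rfl, r, e⟩
  have back : z = g⁻¹ * (g * z * g⁻¹) * g⁻¹⁻¹ := by group
  by_cases e : g * z * g⁻¹ = j
  · rw [back, e]; exact hx.conj _
  obtain ⟨g', -, k1, k2⟩ := h.fus (sq5 K) (sq5 L)
  obtain ⟨a, b, p, p1, p2⟩ := key _ hg (((MulAut.conj g).orderOf_eq z).trans hz) e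
  obtain ⟨a', b', q, q1, q2⟩ := key _ k2 (((MulAut.conj g').orderOf_eq j).trans oj) k1
  obtain ⟨_, ⟨u, rfl⟩, hu⟩ := f₁.2.2.1 _ ⟨a', rfl⟩ _ ⟨a, rfl⟩ q1 p1
  obtain ⟨_, ⟨v, rfl⟩, hv⟩ := f₂.2.2.1 _ ⟨b', rfl⟩ _ ⟨b, rfl⟩ q2 p2
  have : φ a * ψ b = φ u * ψ v * (φ a' * ψ b') * (φ u * ψ v)⁻¹ := by
    have c1 : ψ v * φ a' * (ψ v)⁻¹ = φ a' := by rw [← h.comm, mul_inv_cancel_right]
    have c2 : φ u * ψ b * (φ u)⁻¹ = ψ b := by rw [h.comm, mul_inv_cancel_right]
    rw [← hu, ← c2, ← hv]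
    conv_lhs => rw [← c1]
    group
  rw [back, p, this, ← q]
  exact ((hx.conj _).conj _).conj _

theorem even_out {σ : MulAut Y} (h : σ * σ = 1) (k : ∀ y, σ ≠ MulAut.conj y) :
    2 ∣ Nat.card (Out Y) := by
  have : orderOf (σ : Out Y) = 2 := orderOf_eq_prime (by rw [sq, ← QuotientGroup.mk_mul, h]; rfl)
    fun e => by
      obtain ⟨y, hy⟩ := (QuotientGroup.eq_one_iff _).1 e
      exact k y hy.symm
  exact this ▸ orderOf_dvd_natCard _

theorem big_of {f : ℕ} (h1 : 1 ≤ f) (h : 2 ∣ f) : 25 ≤ 5 ^ f :=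
  Nat.pow_le_pow_right (n := 5) (by norm_num) (show 2 ≤ f by omega)

theorem jobG2 : JobG2 := fun hx F _ _ o σ A h => by
  obtain ⟨p, _, n, hp, c⟩ := FiniteField.card' F
  haveI := Fact.mk hp
  obtain rfl : p = 5 := by
    have := Cfsg.Agent.S2658.result p 7 A _ h.ty
    split_ifs at this with k
    exacts [k, by omega]
  have st : ∀ m ≤ Fintype.card F, ∀ z : Lie.chevG2.group F, orderOf z = 2 → Hx m z := fun m k z hz => by
    obtain ⟨L₁, L₂, ⟨h1, h2, h3, h4, -, h5⟩, h6, h7⟩ := H67.g2_invol_struct o z hz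
    exact ⟨F, F, _, _, _, _, L₁, L₂, inferInstance, inferInstance, k, k, h1, h2, h3, h4, h5,
      H61.EC.le_nor h6, H61.EC.le_nor h7⟩
  have l : 5 ≤ 5 ^ (n : ℕ) := Nat.le_self_pow n.ne_zero 5
  have := even_out h.sq ((hx _ σ A h).1 (st 5 (c ▸ l)))
  rw [Cfsg.Agent.S2121.result 5 n c (by omega), if_neg (by norm_num)] at this
  exact (hx _ σ A h).2 (st 25 (c ▸ big_of n.pos this))

theorem jobD4 : JobD4 := fun hx K _ _ r o hr c σ A h => by
  obtain ⟨p, f, hp, hf, rfl⟩ := (isPrimePow_nat_iff r).1 hr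
  haveI := Fact.mk hp
  haveI : CharP K p := charP_of_card_eq_prime_pow (c.trans (pow_mul p f 3).symm)
  obtain rfl : p = 5 := by
    have := Cfsg.Agent.S2660.result p f hf c 7 A _ h.ty
    split_ifs at this with k
    exacts [k, by omega]
  have st : ∀ m ≤ 5 ^ f, ∀ z : Lie.twistedD4 K (5 ^ f), orderOf z = 2 → Hx m z := fun m k => by
    obtain ⟨r, -, E, _, _, -, hE⟩ := H2.BNM.exists_field hr one_ne_zero
    rw [pow_one] at hE
    haveI : CharP E 5 := charP_of_card_eq_prime_pow hE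
    have cY := Cfsg.Agent.S1067.result hr c
    obtain ⟨s1, s2⟩ := Cfsg.Agent.S1071.result hr c
    clear h
    generalize 5 ^ f = q at *
    subst hE
    obtain ⟨x, hx⟩ := H72.exists_hexD4 c o
    generalize Lie.twistedD4 K (Fintype.card E) = Z at *
    subst hx
    obtain ⟨φ, s⟩ := hex_st x
    refine fun z hz => s.sub.hx k (k.trans (c ▸ Nat.le_self_pow three_ne_zero _))
      (n := Fintype.card E ^ 8 * (Fintype.card E ^ 8 + Fintype.card E ^ 4 + 1))
      (o.pow.mul ((o.pow.add_odd o.pow).add_one)) (by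
        rw [cY, H57.card_sl_two, H57.card_sl_two, c, ← pow_mul]; ring) (fun N e => ?_) hz
    haveI := N.normal_of_index_eq_two e
    rcases (inferInstance : N.Normal).eq_bot_or_eq_top with rfl | rfl
    · rw [index_bot] at e
      haveI := isCyclic_of_prime_card (p := 2) e
      exact s2 inferInstance
    · simp at e
  have l : 5 ≤ 5 ^ f := Nat.le_self_pow hf.ne' 5
  have := even_out h.sq ((hx _ σ A h).1 (st 5 l))
  rw [Cfsg.Agent.S2129.result 5 f (by rw [c, ← pow_mul, mul_comm]) hf] at this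
  exact (hx _ σ A h).2 (st 25 (big_of hf (by omega)))

end H49.A7
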