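import Cfsg.Agent.H98.Basic
import Cfsg.Prelude.Def_Local
import Cfsg.Prelude.Def_Classical
import Cfsg.Prelude.Def_LieChev
import Cfsg.Prelude.Def_LieTwisted
import Cfsg.Prelude.Def_Spor_Mathieu
import Cfsg.Prelude.Def_Spor_Conway
import Cfsg.Prelude.Def_Spor_J2
import Cfsg.Prelude.Def_Spor_Ly

/-! Interface of A7 (`blueprints/A7.md`, row S3142): no involutory automorphism of a group of the
Gorenstein-Harada list other than `A₉`, `A₁₁` has a normal `A₇` or `3.A₇` in its centralizer. -/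

set_option autoImplicit false

namespace H49.A7

open Subgroup Cfsg Matrix

universe u

/-- `A` is normal in the group of fixed points of `σ`. -/
structure Cf {Y : Type*} [Group Y] (σ : MulAut Y) (A : Subgroup Y) : Prop where
  sq : σ * σ = 1
  ne : σ ≠ 1
  qs : IsQuasisimple A
  odd : Odd (Nat.card (center A))
  ty : Nonempty (A ⧸ center A ≃* alternatingGroup (Fin 7))
  fix : ∀ a ∈ A, σ a = a
  nor : ∀ y, σ y = y → y ∈ normalizer (A : Set Y)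
  par : (∀ y, σ ≠ MulAut.conj y) → Odd (Nat.card (centralizer (A : Set Y)))

def No (Y : Type*) [Group Y] : Prop := ∀ (σ : MulAut Y) (A : Subgroup Y), ¬ Cf σ A

/-- The eigenvalue lemmas. -/
def JobLA : Prop :=
  ∀ (F : Type) [Field F] (n : ℕ) (x a : GL (Fin n) F), x ≠ 1 → a * x * a⁻¹ = x ^ 2 →
    (x ^ 5 = 1 → (5 : F) ≠ 0 → 4 ≤ n) ∧ (x ^ 7 = 1 → (7 : F) ≠ 0 → 3 ≤ n ∧
      (x.val.charpoly = (x⁻¹).val.charpoly → 6 ≤ n))

/-- Facts about every configuration. -/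
structure Kit {Y : Type*} [Group Y] (σ : MulAut Y) (A : Subgroup Y) : Prop where
  card : Nat.card A = 2520 ∧ center A = ⊥ ∨ Nat.card A = 7560 ∧ Nat.card (center A) = 3
  x7 : ∃ x ∈ A, ∃ a ∈ A, orderOf x = 7 ∧ a * x * a⁻¹ = x ^ 2
  x5 : ∃ x ∈ A, ∃ a ∈ A, orderOf x = 5 ∧ a * x * a⁻¹ = x ^ 2
  x6 : ∃ x ∈ A, ∃ y ∈ A, orderOf x = 2 ∧ orderOf y = 3 ∧ x * y = y * x ∧
    y ∉ centralizer (A : Set Y)
  le : ∀ M : Subgroup Y, IsQuasisimple M → (∀ m ∈ M, σ m = m) →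
    ∀ x ∈ A, x ∈ M → x ∉ centralizer (M : Set Y) → M ≤ A
  eq_or : ∀ M : Subgroup Y, IsQuasisimple M → (∀ m ∈ M, σ m = m) → A ≤ normalizer (M : Set Y) →
    M = A ∨ A ≤ centralizer (M : Set Y)

def JobKit : Prop :=
  (∀ (Y : Type u) [Group Y] [Finite Y] (σ : MulAut Y) (A : Subgroup Y), Cf σ A → Kit σ A) ∧
    ∀ (Y : Type u) (Z : Type) [Group Y] [Group Z] (e : Y ≃* Z) (σ : MulAut Y) (A : Subgroup Y),
      Cf σ A → Cf (MulAut.congr e σ) (A.map e.toMonoidHom)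

def JobL : Prop :=
  ∀ (F : Type) [Field F] [Fintype F], Odd (Fintype.card F) → ∀ n : ℕ, 2 ≤ n → n ≤ 5 →
    (n = 2 → 4 ≤ Fintype.card F) → No (ProjectiveSpecialLinearGroup (Fin n) F)

def JobU : Prop :=
  ∀ (F : Type) [Field F] [Fintype F] (q : ℕ), Fintype.card F = q ^ 2 → Odd q → ∀ n : ℕ, 3 ≤ n →
    n ≤ 5 → No (PSU n F q)

def JobS : Prop := ∀ (F : Type) [Field F] [Fintype F], Odd (Fintype.card F) → No (PSp 2 F)

/-- `C(z) = (SL₂(q₁) ∘ SL₂(q₂)).2` in characteristic `5`. -/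
def Hx {Y : Type*} [Group Y] (m : ℕ) (z : Y) : Prop :=
  ∃ (F₁ F₂ : Type) (_ : Field F₁) (_ : Fintype F₁) (_ : Field F₂) (_ : Fintype F₂) (L₁ L₂ : Subgroup Y),
    CharP F₁ 5 ∧ CharP F₂ 5 ∧ m ≤ Fintype.card F₁ ∧ m ≤ Fintype.card F₂ ∧
    Nonempty (L₁ ≃* SpecialLinearGroup (Fin 2) F₁) ∧ Nonempty (L₂ ≃* SpecialLinearGroup (Fin 2) F₂) ∧
    (∀ x ∈ L₁, ∀ y ∈ L₂, x * y = y * x) ∧ L₁ ⊓ L₂ = zpowers z ∧
    (L₁ ⊔ L₂).relIndex (centralizer {z}) = 2 ∧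
    centralizer {z} ≤ normalizer (L₁ : Set Y) ∧ centralizer {z} ≤ normalizer (L₂ : Set Y)

def JobHx : Prop :=
  ∀ (Y : Type) [Group Y] [Finite Y] (σ : MulAut Y) (A : Subgroup Y), Cf σ A →
    ((∀ z : Y, orderOf z = 2 → Hx 5 z) → ∀ y, σ ≠ MulAut.conj y) ∧
      ((∀ z : Y, orderOf z = 2 → Hx 25 z) → False)

def JobG2 : Prop := JobHx →
  ∀ (F : Type) [Field F] [Fintype F], Odd (Fintype.card F) → No ↥(Lie.chevG2.group F)

def JobD4 : Prop := JobHx →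
  ∀ (K : Type) [Field K] [Fintype K] (r : ℕ), Odd r → IsPrimePow r → Fintype.card K = r ^ 3 →
    No ↥(Lie.twistedD4 K r)

def JobAlt : Prop :=
  ∀ n : ℕ, 8 ≤ n → n ≤ 11 → ∀ (σ : MulAut (alternatingGroup (Fin n)))
    (A : Subgroup (alternatingGroup (Fin n))), Cf σ A →
      center A = ⊥ ∧ (n = 11 ∨ n = 9 ∧ ∀ y, σ ≠ MulAut.conj y)

def JobM : Prop := No ↥Spor.M22 ∧ No ↥Spor.M23 ∧ No Spor.J2

def JobMc : Prop := No ↥Spor.McL ∧ No Spor.Ly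

end H49.A7
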