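import Cfsg.Agent.H49.D8Kit2
import Cfsg.Agent.H69.Std1
import Cfsg.Agent.H99.BenderB
import Cfsg.Agent.H82.Hub

/-! D8, JobR4B: the pair `A`, `A'` with `z ∈ C(A')`, `z' ∈ C(A)`. -/

set_option autoImplicit false
set_option linter.unusedSectionVars false

namespace H49.D8

open Subgroup Cfsg H98 H14 H1.Gold H85.FZ
open H88.AS (KI same)

universe u

variable {G : Type u} [Group G] [Finite G] {v s z v' s' z' d e g x y c σ ρ a b ζ a' b' ζ' : G}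
  {A A' K T : Subgroup G}

theorem Fr.cj' (f : Fr (nor A) A (cen A) T v s z) (g : G) :
    Fr (nor (H98.cj g A)) (H98.cj g A) (cen (H98.cj g A)) (H98.cj g T) (g * v * g⁻¹) (g * s * g⁻¹)
      (g * z * g⁻¹) := by
  have := f.cj g
  rwa [nor, cen, cj_normalizer, cj_centralizer] at this

theorem Wd.te (w : Wd A) : IsTightlyEmbedded (cen A) := w.std.2.1

theorem Wd.nK (w : Wd A) : nor A = nor (cen A) := w.std.2.2.2

theorem Wd.cj (w : Wd A) (g : G) : Wd (H98.cj g A) where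
  simple := w.simple
  std := H69.Std.std_cj w.std g
  odd := by rw [cen, ← cj_centralizer, ← cj_inf, card_cj]; exact w.odd
  four := by rw [cen, ← cj_centralizer, card_cj]; exact w.four
  fr T hT := by
    have := hT.cj g⁻¹
    rw [nor, cj_normalizer, cj_inv_cj] at this
    obtain ⟨v, s, z, f⟩ := w.fr _ this
    exact ⟨_, _, _, cj_cj_inv g T ▸ f.cj' g⟩

theorem KI.conj (h : KI K x) (g : G) : KI K (g * x * g⁻¹) :=
  ⟨by rw [orderOf_conj', h.1], let ⟨a, ha⟩ := h.2; ⟨g * a, cj_cj g a K ▸ conj_mem_cj ha⟩⟩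

theorem DH.oz (D : DH v s z) : orderOf z = 2 := orderOf_two_of_mul_self D.zz D.z1

theorem DH.comm_eq (D : DH v s z) : v * s * v⁻¹ * s⁻¹ = z := by
  rw [inv_eq_of_mul_eq_one_right D.vv, inv_eq_of_mul_eq_one_right D.ss, mul_assoc, D.vsvs]

/-- All involutions of `A` are conjugate to `z`. -/
theorem Fr.to_z (f : Fr (nor A) A (cen A) T v s z) {B : Subgroup G} (hB : IsSyl 2 (cl [v, s]) B)
    (h1 : σ ∈ B) (h2 : Tri σ z v) (h3 : ρ ∈ B) (h4 : Tri ρ z s) (hx : x ∈ B) (ox : orderOf x = 2) :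
    ∃ a ∈ B, a * x * a⁻¹ = z := by
  obtain ⟨a, ha, k⟩ := hB.exists_cj_le (isPGroup_zpowers (k := 1) (x := x) (by
    rw [pow_one, pow_two, mul_self_of_two ox])) (zpowers_le.2 hx)
  have m := k (conj_mem_cj (mem_zpowers x))
  have o : orderOf (a * x * a⁻¹) = 2 := by rw [orderOf_conj', ox]
  rcases f.toDH.inv m (mul_self_of_two o) with q | q
  · obtain ⟨y, hy, e⟩ := h2.to_z f.toDH q (ne_one_of_two o)
    exact ⟨y * a, mul_mem (zpowers_le.2 h1 hy) ha, by rw [← e]; group⟩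
  · obtain ⟨y, hy, e⟩ := h4.to_z f.toDH.swap q (ne_one_of_two o)
    exact ⟨y * a, mul_mem (zpowers_le.2 h3 hy) ha, by rw [← e]; group⟩

theorem not_solv (D : DH v s z) {B : Subgroup G} (hD : cl [v, s] ≤ B) (h1 : σ ∈ B) (h2 : Tri σ z v)
    (h3 : ρ ∈ B) (h4 : Tri ρ z s) : ¬ Group.IsSolvable B := by
  rintro ⟨n, hn⟩
  have key : ∀ n, (⟨z, hD D.z_mem⟩ : B) ∈ derivedSeries B n := by
    intro n
    induction n with
    | zero => exact mem_top _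
    | succ n ih =>
      have hv := (derivedSeries_normal B n).conj_mem _ ih ⟨σ, h1⟩
      have hs := (derivedSeries_normal B n).conj_mem _ ih ⟨ρ, h3⟩
      have := commutator_mem_commutator hv hs
      rw [← derivedSeries_succ] at this
      convert this using 1
      apply Subtype.ext
      simp only [commutatorElement_def, coe_mul, coe_inv, h2.1, h4.1, D.comm_eq]
  have := key n
  rw [hn, mem_bot] at this
  exact D.z1 (congrArg Subtype.val this)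

/-- `D` lies in no other conjugate of `K`. -/
theorem Wd.L5 (w : Wd A) (f : Fr (nor A) A (cen A) T v s z) (hg : g ∉ nor (cen A)) :
    ¬ cl [v, s] ≤ H98.cj g (cen A) := by
  intro hD
  have D := f.toDH
  have te := te_cj w.te g
  set K' := H98.cj g (cen A) with hK'
  have nz : ∀ a, a * z * a⁻¹ ∈ K' → a ∈ nor K' := fun a ha =>
    te_mem_normalizer te (by rw [orderOf_conj', D.oz]) ha (conj_mem_cj (hD D.z_mem))
  obtain ⟨σ, h1, h2⟩ := f.triA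
  obtain ⟨ρ, h3, h4⟩ := f.triB
  have σB : σ ∈ A ⊓ nor K' := ⟨h1, nz σ (h2.1.symm ▸ hD (m1 _ _))⟩
  have ρB : ρ ∈ A ⊓ nor K' := ⟨h3, nz ρ (h4.1.symm ▸ hD (m2 _ _))⟩
  have DB : cl [v, s] ≤ A ⊓ nor K' := le_inf f.D_leA (hD.trans le_normalizer)
  have sB := (f.sylA le_normalizer le_rfl).of_le DB inf_le_left
  have inK : ∀ x ∈ A ⊓ nor K', orderOf x = 2 → x ∈ K' := fun x hx ox => by
    obtain ⟨a, ha, e⟩ := f.to_z sB σB h2 ρB h4 hx ox
    have := conj_mem_of_mem_normalizer' ha.2 (hD D.z_mem)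
    rwa [← e, show a⁻¹ * (a * x * a⁻¹) * a = x by group] at this
  have se : IsStronglyEmbedded ((A ⊓ nor K').subgroupOf A) := by
    refine ⟨fun e => ?_, even_iff_two_dvd.2 (two_dvd_card_of_mem (t := ⟨z, f.zA⟩) (DB D.z_mem)
      (by rw [← orderOf_coe, D.oz])), fun a ha => (H88.odd_card_iff_no_involution _).2 fun x hx ox =>
        ha ⟨a.2, ?_⟩⟩
    · rcases quasi_sub_normalized w.std.1 ((subgroupOf_eq_top.1 e).trans inf_le_right) with k | k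
      · rw [hK', cj_centralizer] at k
        exact w.std.2.2.1 g (fun e => hg (w.nK ▸ cj_eq_self_iff.1 e))
          (commutator_eq_bot_iff_le_centralizer.2 k)
      · exact f.zK w.odd (commutator_eq_bot_iff_le_centralizer.1 k ⟨hD D.z_mem, f.zA⟩)
    · have ox' : orderOf (x : G) = 2 := by rw [orderOf_coe, ox]
      obtain ⟨y, hy, ey⟩ := hx.2
      have : (x : G) = a * y * (a : G)⁻¹ := by rw [← ey]; rfl
      refine te_mem_normalizer te ox' (inK x hx.1 ox') (this ▸ conj_mem_cj (inK y hy ?_))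
      rwa [this, orderOf_conj'] at ox'
  have hs : Group.IsSolvable _ := H99.se_isSolvable H82.hub se ⟨⟨v, f.D_leA (m1 _ _)⟩, ⟨z, f.zA⟩,
    fun e => D.swap.s_not ((show v = 1 from congrArg Subtype.val e) ▸ one_mem _),
    fun e => D.z1 (congrArg Subtype.val e),
    fun e => D.swap.s_not ((show z = v from (congrArg Subtype.val e).symm) ▸ m2 _ _), Subtype.ext D.vv, Subtype.ext D.zz,
    Subtype.ext D.vz⟩
  exact not_solv D DB σB h2 ρB h4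
    (Group.isSolvable_of_surjective (f := (subgroupOfEquivOfLe
      (inf_le_left : A ⊓ nor K' ≤ A)).toMonoidHom) (MulEquiv.surjective _))

theorem Wd.RC (w : Wd A) (f : Fr (nor A) A (cen A) T v s z) (hz : z ∈ H98.cj g (cen A))
    (h1 : c ∈ H98.cj g (cen A)) (h2 : c ∈ T ⊓ cen (cl [v, s])) : c = 1 ∨ c = z := by
  have hg : g ∉ nor (cen A) := fun k => f.zK w.odd (cj_eq_self k ▸ hz)
  rw [← mem_zpowers_two f.toDH.oz]
  by_contra n
  have := H9.Sec.two_mul_card_le (zpowers_le.2 ⟨hz, f.zC⟩ :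
    zpowers z ≤ H98.cj g (cen A) ⊓ (T ⊓ cen (cl [v, s]))) fun k => n (k ⟨h1, h2⟩)
  rw [Nat.card_zpowers, f.toDH.oz] at this
  exact w.L5 f hg (f.four w.te hg le_rfl this)

theorem Fr.split (f : Fr (nor A) A (cen A) T v s z) (D : DH a b ζ) (hD : cl [a, b] ≤ T) :
    (a * v * a⁻¹ ∈ cl [v, z] ∧ b * v * b⁻¹ ∈ cl [v, z]) ∨ ∃ p ∈ cl [a, b], ∃ x ∈ cl [a, b],
      p * v * p⁻¹ ∉ cl [v, z] ∧ x * v * x⁻¹ ∈ cl [v, z] ∧ x * p * x⁻¹ * p⁻¹ = ζ := by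
  by_cases i : a * v * a⁻¹ ∈ cl [v, z] <;> by_cases j : b * v * b⁻¹ ∈ cl [v, z]
  · exact Or.inl ⟨i, j⟩
  · exact Or.inr ⟨b, m2 _ _, a, m1 _ _, j, i, D.comm_eq⟩
  · exact Or.inr ⟨a, m1 _ _, b, m2 _ _, i, j, D.swap.comm_eq⟩
  · refine Or.inr ⟨b, m2 _ _, a * b, mul_mem (m1 _ _) (m2 _ _), j, (f.toDH.nv_mul
      (f.nD le_rfl (hD (m1 _ _))) (f.nD le_rfl (hD (m2 _ _)))).2 (iff_of_false i j), ?_⟩
    rw [← D.comm_eq]; group

/-- `T K / K` contains no `D₈ × D₈`. -/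
theorem Fr.DD (f : Fr (nor A) A (cen A) T v s z) (D : DH a b ζ) (D' : DH a' b' ζ')
    (hD : cl [a, b] ≤ T) (hD' : cl [a', b'] ≤ T) (cm : cl [a', b'] ≤ cen (cl [a, b])) :
    ζ ∈ cen A ∨ ζ' ∈ cen A ∨ ζ * ζ' ∈ cen A := by
  have fin : In (cen A) z ζ → In (cen A) z ζ' → ζ ∈ cen A ∨ ζ' ∈ cen A ∨ ζ * ζ' ∈ cen A := by
    rintro (i | i) (j | j)
    exacts [Or.inl i, Or.inl i, Or.inr (Or.inl j), Or.inr (Or.inr (by
      have := mul_mem i j
      rwa [mul_assoc ζ, ← mul_assoc z, ← f.toDH.fixz (f.nD le_rfl (hD' D'.z_mem)), mul_assoc ζ', f.zz,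
        mul_one] at this))]
  have q : ∀ x ∈ cl [a, b], ∀ y ∈ cl [a', b'], x * y = y * x := fun x hx y hy => mcen.1 (cm hy) x hx
  rcases f.split D hD with ⟨i, j⟩ | ⟨p, hp, x, hx, i, j, e⟩ <;>
    rcases f.split D' hD' with ⟨i', j'⟩ | ⟨p', hp', x', hx', i', j', e'⟩
  · exact fin (D.comm_eq ▸ f.com0 (hD (m1 _ _)) i (hD (m2 _ _)) j)
      (D'.comm_eq ▸ f.com0 (hD' (m1 _ _)) i' (hD' (m2 _ _)) j')
  · exact Or.inl (D.comm_eq ▸ f.comδ (hD' hp') i' (hD (m1 _ _)) i (hD (m2 _ _)) j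
      (q _ (m1 _ _) _ hp').symm (q _ (m2 _ _) _ hp').symm)
  · exact Or.inr (Or.inl (D'.comm_eq ▸ f.comδ (hD hp) i (hD' (m1 _ _)) i' (hD' (m2 _ _)) j'
      (q _ hp _ (m1 _ _)) (q _ hp _ (m2 _ _))))
  · have n := (f.toDH.nv_mul (f.nD le_rfl (hD hp)) (f.nD le_rfl (hD' hp'))).2 (iff_of_false i i')
    have k1 := f.com0 (hD hx) j (mul_mem (hD hp) (hD' hp')) n
    have k2 := f.com0 (hD' hx') j' (mul_mem (hD hp) (hD' hp')) n
    rw [show x * (p * p') * x⁻¹ * (p * p')⁻¹ = x * p * (p' * x⁻¹) * p'⁻¹ * p⁻¹ by group,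
      ← q _ (inv_mem hx) _ hp', show x * p * (x⁻¹ * p') * p'⁻¹ * p⁻¹ = x * p * x⁻¹ * p⁻¹ by group,
      e] at k1
    rw [q _ hp _ hp', show x' * (p' * p) * x'⁻¹ * (p' * p)⁻¹ = x' * p' * (p * x'⁻¹) * p⁻¹ * p'⁻¹ by
      group, q _ hp _ (inv_mem hx'),
      show x' * p' * (x'⁻¹ * p) * p⁻¹ * p'⁻¹ = x' * p' * x'⁻¹ * p'⁻¹ by group, e'] at k2
    exact fin k1 k2

/-- The pair. -/
structure PP (A A' T : Subgroup G) (v s z v' s' z' : G) : Prop where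
  w : Wd A
  f : Fr (nor A) A (cen A) T v s z
  f' : Fr (nor A') A' (cen A') T v' s' z'
  cj : ∃ g, A' = H98.cj g A
  zK : z ∈ cen A'
  zK' : z' ∈ cen A
  cm : cl [v', s'] ≤ cen (cl [v, s])
  nki : ¬ KI (cen A) (z * z')

namespace PP

variable (P : PP A A' T v s z v' s' z')
include P

theorem q (hd : d ∈ cl [v, s]) (he : e ∈ cl [v', s']) : d * e = e * d := mcen.1 (P.cm he) d hd

theorem cjK : ∃ g, cen A' = H98.cj g (cen A) :=
  let ⟨g, e⟩ := P.cj; ⟨g, by rw [e, cj_centralizer]⟩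

theorem swap : PP A' A T v' s' z' v s z := by
  obtain ⟨g, e⟩ := P.cj
  refine ⟨e ▸ P.w.cj g, P.f', P.f, ⟨g⁻¹, by rw [e, cj_inv_cj]⟩, P.zK', P.zK,
    fun d hd => mcen.2 fun e he => (P.q hd he).symm, fun k => P.nki ?_⟩
  rw [P.q P.f.toDH.z_mem P.f'.toDH.z_mem]
  obtain ⟨o, a, ha⟩ := k
  exact ⟨o, a * g, by rwa [e, cen, ← cj_centralizer, cj_cj] at ha⟩

theorem C' (he : e ∈ cl [v', s']) : e ∈ T ⊓ cen (cl [v, s]) := ⟨P.f'.D_le he, P.cm he⟩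

theorem RC (h1 : c ∈ cen A') (h2 : c ∈ T ⊓ cen (cl [v, s])) : c = 1 ∨ c = z := by
  obtain ⟨g, e⟩ := P.cjK
  exact P.w.RC P.f (e ▸ P.zK) (e ▸ h1) h2

theorem KK (h1 : c ∈ cen A) (h2 : c ∈ cen A') (h3 : c ∈ T) : c = 1 := by
  obtain ⟨g, e⟩ := P.cjK
  exact te_one P.w.te (fun k => P.f.zK P.w.odd (cj_eq_self k ▸ e ▸ P.zK)) P.f.syl.isPGroup h1
    (e ▸ h2) h3

theorem dis (h1 : d ∈ cl [v, s]) (h2 : d ∈ cl [v', s']) : d = 1 :=
  (P.f.toDH.cenD h1 (P.cm h2)).resolve_right fun e =>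
    P.f.z1 (P.f'.DK P.swap.w.odd (e ▸ h2) P.zK)

theorem proj {d₁ e₁ : G} (hd : d ∈ cl [v, s]) (he : e ∈ cl [v', s']) (hd₁ : d₁ ∈ cl [v, s])
    (he₁ : e₁ ∈ cl [v', s']) (k : d * e = d₁ * e₁) : d = d₁ ∧ e = e₁ := by
  have : d₁⁻¹ * d = 1 := P.dis (mul_mem (inv_mem hd₁) hd) (by
    rw [show d₁⁻¹ * d = e₁ * e⁻¹ by rw [eq_mul_inv_of_mul_eq k]; group]
    exact mul_mem he₁ (inv_mem he))
  rw [inv_mul_eq_one] at this
  exact ⟨this.symm, mul_left_cancel (k.trans (by rw [this]))⟩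

theorem swap' : PP A A' T v s z s' v' z' :=
  ⟨P.w, P.f, P.f'.swap le_rfl, P.cj, P.zK, P.zK', cl_sw v' s' ▸ P.cm, P.nki⟩

theorem zz1 : z * z' ≠ 1 := fun e => P.f.zK P.w.odd (eq_inv_of_mul_eq_one_left e ▸ inv_mem P.zK')

theorem inK (i : In (cen A) z v') : v' ∈ cen A := by
  refine i.resolve_right fun k => P.nki ?_
  obtain ⟨σ, h1, h2⟩ := P.f'.triA
  have e : σ⁻¹ * (v' * z) * σ⁻¹⁻¹ = z * z' := by
    rw [← h2.1, P.q P.f.toDH.z_mem P.f'.toDH.z_mem, inv_inv, mul_assoc _ (_ * z), mul_assoc _ z,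
      ← mcen.1 P.zK σ h1]
    group
  refine e ▸ KI.conj ⟨?_, 1, by rwa [cj_one]⟩ σ⁻¹
  rw [← orderOf_conj' σ⁻¹, e]
  refine orderOf_two_of_mul_self ?_ P.zz1
  rw [mul_assoc, ← mul_assoc z', ← P.q P.f.toDH.z_mem P.f'.toDH.z_mem, mul_assoc, P.f'.zz, mul_one,
    P.f.zz]

theorem out : ¬ In (cen A) z v' ∨ ¬ In (cen A) z s' := by
  by_contra n
  push Not at n
  obtain ⟨g, e⟩ := P.swap.cjK
  exact P.swap.w.L5 P.f' (g := g) (fun k => P.f'.zK P.swap.w.odd (cj_eq_self k ▸ e ▸ P.zK'))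
    (e ▸ cl2_le (P.inK n.1) (P.swap'.inK n.2))

theorem out' : ∃ e ∈ cl [v', s'], ¬ In (cen A) z e :=
  P.out.elim (fun k => ⟨_, m1 _ _, k⟩) fun k => ⟨_, m2 _ _, k⟩

theorem nvK (hx : x ∈ T) (k : x ∈ cen A') : x * v * x⁻¹ ∈ cl [v, z] := by
  by_contra n
  obtain ⟨e, he, i⟩ := P.out'
  have := P.f.mv x hx n e (P.C' he) i
  rw [← mcen.1 k e (P.f'.D_leA he), mul_inv_cancel_right, mul_inv_cancel, one_mul] at this
  exact P.f.zK P.w.odd this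

theorem W_in (h1 : c ∈ T ⊓ cen (cl [v', s'])) (i : In (cen A) z c) : c ∈ cl [z, z'] := by
  rcases i with i | i
  · rcases P.swap.RC i h1 with rfl | rfl
    exacts [one_mem _, m2 _ _]
  · refine (mul_mem_cancel_right (m1 z z')).1 ?_
    rcases P.swap.RC i (mul_mem h1 (P.swap.C' P.f.toDH.z_mem)) with e | e <;> rw [e]
    exacts [one_mem _, m2 _ _]

theorem in_mul (hx : x ∈ cl [z, z']) (h1 : c ∈ T ⊓ cen (cl [v, s])) (i : In (cen A) z (c * x)) :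
    In (cen A) z c := by
  have : cl [z, z'] ≤ cen A ⊔ A := cl2_le (mem_sup_right P.f.zA) (mem_sup_left P.zK')
  refine P.f.in_of_inner h1 ((mul_mem_cancel_right (this hx)).1 ?_)
  simpa using P.f.inner i (one_mem _)

theorem W_aux (h1 : c ∈ T ⊓ cen (cl [v, s])) (h2 : c ∈ T ⊓ cen (cl [v', s']))
    (o : ¬ In (cen A) z v') (i : ¬ In (cen A) z c) (i' : ¬ In (cen A') z' c) : False := by
  have D := P.f.toDH
  have D' := P.f'.toDH
  have Z1 : cl [z, z'] ≤ T ⊓ cen (cl [v, s]) := cl2_le P.f.zC (P.C' D'.z_mem)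
  have Z2 : cl [z, z'] ≤ T ⊓ cen (cl [v', s']) := cl2_le (P.swap.C' D.z_mem) P.f'.zC
  have sq : ∀ x ∈ cl [z, z'], c * x * (c * x) = 1 := fun x hx => P.KK
    (P.f.sqK (mul_mem h1 (Z1 hx))) (P.f'.sqK (mul_mem h2 (Z2 hx)))
    (mul_mem (mul_mem h1 (Z1 hx)).1 (mul_mem h1 (Z1 hx)).1)
  obtain ⟨x, hx, k⟩ : ∃ x ∈ cl [z, z'], c * x * v' ∈ cen A := by
    rcases ((P.f.idx c h1 v' (P.C' (m1 _ _))).resolve_left i).resolve_left o with k | k
    · exact ⟨1, one_mem _, by rwa [mul_one]⟩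
    · exact ⟨z, m1 _ _, by rwa [mul_assoc, P.q D.z_mem (m1 _ _), ← mul_assoc]⟩
  obtain ⟨a, -, y, hy, e⟩ := P.f'.N1V (mul_mem h2 (Z2 hx)) (m1 v' z')
  obtain ⟨x', hx', rfl⟩ : ∃ x' ∈ cl [z, z'], y = c * x' := by
    rcases hy with rfl | rfl
    exacts [⟨x, hx, rfl⟩, ⟨x * z', mul_mem hx (m2 _ _), mul_assoc _ _ _⟩]
  have yK : c * x' ∈ H98.cj a (cen A) := e ▸ conj_mem_cj k
  have oy := orderOf_two_of_mul_self (sq x' hx') fun q =>
    i (P.in_mul hx' h1 (Or.inl (q ▸ one_mem _)))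
  have w' := P.w.cj a
  have nN : cen1 (c * x') ≤ nor (H98.cj a A) := by
    rw [w'.nK, cen, ← cj_centralizer]; exact te_centralizer_le (te_cj P.w.te a) oy yK
  obtain ⟨T', hT', hle⟩ := exists_isSyl_le (P.f.syl.isPGroup.to_le (sup_le P.f.D_le P.f'.D_le))
    (le_trans (sup_le (fun d hd => mc1.2 (mcen.1 (mul_mem h1 (Z1 hx')).2 d hd))
      fun d hd => mc1.2 (mcen.1 (mul_mem h2 (Z2 hx')).2 d hd)) nN)
  obtain ⟨v₁, s₁, z₁, f₁⟩ := w'.fr T' hT'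
  have := f₁.DD D D' (le_sup_left.trans hle) (le_sup_right.trans hle) P.cm
  rw [cen, ← cj_centralizer] at this
  obtain ⟨g, eg⟩ := P.cjK
  rcases this with q | q | q
  · rw [same P.w.te D.oz q (eg ▸ P.zK), ← eg] at yK
    exact i' (P.swap.in_mul (cl_sw z z' ▸ hx') h2 (Or.inl yK))
  · rw [same P.w.te D'.oz q (g' := 1) (by rw [cj_one]; exact P.zK'), cj_one] at yK
    exact i (P.in_mul hx' h1 (Or.inl yK))
  · refine P.nki ⟨orderOf_two_of_mul_self ?_ P.zz1, a, q⟩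
    rw [mul_assoc, ← mul_assoc z', ← P.q D.z_mem D'.z_mem, mul_assoc, D'.zz, mul_one, D.zz]

theorem W (h1 : c ∈ T ⊓ cen (cl [v, s])) (h2 : c ∈ T ⊓ cen (cl [v', s'])) : c ∈ cl [z, z'] := by
  by_contra n
  have i := fun i => n (P.W_in h2 i)
  have i' := fun i => n (cl_sw z' z ▸ P.swap.W_in h1 i)
  exact P.out.elim (fun o => P.W_aux h1 h2 o i i') fun o =>
    P.swap'.W_aux h1 (cl_sw v' s' ▸ h2) o i i'

theorem T1 (hx : x ∈ T) (k : x * v * x⁻¹ ∈ cl [v, z]) : x ∈ cl [v, s] ⊔ cl [v', s'] := by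
  have KD : ∀ r ∈ T, r ∈ cen A → r ∈ cl [v, s] ⊔ cl [v', s'] := fun r hr rK => by
    obtain ⟨c, hc, d, hd, e⟩ := P.f'.dec le_rfl hr (P.swap.nvK hr rK)
    have : c ∈ T ⊓ cen (cl [v, s]) := by
      rw [eq_mul_inv_of_mul_eq e.symm]; exact mul_mem (P.f.KC hr rK) (inv_mem (P.C' hd))
    rw [e]
    exact mul_mem ((cl2_le (mem_sup_left P.f.toDH.z_mem) (mem_sup_right P.f'.toDH.z_mem) :
      cl [z, z'] ≤ _) (P.W this hc)) (mem_sup_right hd)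
  have inD : ∀ c ∈ T, In (cen A) z c → c ∈ cl [v, s] ⊔ cl [v', s'] := fun c hc i =>
    i.elim (KD c hc) fun i => (mul_mem_cancel_right (mem_sup_left P.f.toDH.z_mem)).1
      (KD _ (mul_mem hc P.f.zC.1) i)
  obtain ⟨c, hc, d, hd, rfl⟩ := P.f.dec le_rfl hx k
  obtain ⟨e, he, o⟩ := P.out'
  refine mul_mem ?_ (mem_sup_left hd)
  rcases P.f.idx c hc e (P.C' he) with i | i | i
  exacts [inD c hc.1 i, absurd i o, (mul_mem_cancel_right (mem_sup_right he)).1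
    (inD _ (T.mul_mem hc.1 (P.f'.D_le he)) i)]

theorem mem_sup (hx : x ∈ cl [v, s] ⊔ cl [v', s']) : ∃ d ∈ cl [v, s], ∃ e ∈ cl [v', s'], x = d * e :=
  (mem_sup_right_norm (le_normalizer_of_le_centralizer P.cm)).1 hx

theorem nv_of_T1 (hx : x ∈ cl [v, s] ⊔ cl [v', s']) : x * v * x⁻¹ ∈ cl [v, z] :=
  conj_mem_of_mem_normalizer ((sup_le P.f.toDH.le_norV (le_normalizer_of_le_centralizer
    (P.cm.trans (centralizer_anti P.f.toDH.V_le))) : _ ≤ nor (cl [v, z])) hx) (m1 _ _)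

theorem ST {S : Subgroup G} (hS : IsPGroup 2 S) (hT : T ≤ S) : S ⊓ cen1 z' = T :=
  P.f.syl.eq_of_le (hS.to_le inf_le_left) (le_inf hT fun _ hx =>
    mc1.2 (P.f'.toDH.fixz (P.f'.nD le_rfl hx)))
    (inf_le_right.trans (P.w.nK ▸ te_centralizer_le P.w.te P.f'.toDH.oz P.zK'))

end PP

end H49.D8
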