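/- Tower EA, job N9: the numerical lemma for inertial index nine. -/
import Cfsg.Agent.H68.EaSpec

set_option autoImplicit false

namespace H49.EaN9

open Finset

universe u

theorem nn1 (m : ℤ) : 0 ≤ m * (m - 1) := by
  rcases le_or_gt m 0 with h | h <;> nlinarith

theorem nn2 (m : ℤ) : 0 ≤ m * (m + 1) := by
  rcases le_or_gt 0 m with h | h <;> nlinarith

theorem sq4 {a : ℤ} (h : a ^ 2 = 4) : a = 2 ∨ a = -2 := by
  have : (a - 2) * (a + 2) = 0 := by linear_combination h
  rcases mul_eq_zero.1 this with h | h <;> omega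

theorem sq1 {a : ℤ} (h : a ^ 2 = 1) : a = 1 ∨ a = -1 := by
  have : (a - 1) * (a + 1) = 0 := by linear_combination h
  rcases mul_eq_zero.1 this with h | h <;> omega

variable {ι : Type u} {s : Finset ι} {A : ι → ι → ℤ} {d : ι → ℤ}

/-- In every row the entries at the even places have even sum. -/
theorem par (sy : ∀ i ∈ s, ∀ j ∈ s, A i j = A j i)
    (sq : ∀ i ∈ s, ∀ j ∈ s, ∑ k ∈ s, A i k * A k j = 4 * A i j)
    (ev : ∀ i ∈ s, ∑ k ∈ s, A i k * d k = 4 * d i) {j : ι} (hj : j ∈ s) :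
    Even (∑ k ∈ s with Even (d k), A j k) := by
  have h1 : 2 ∣ ∑ k ∈ s, (A j k * A k j - A j k * d k - if Even (d k) then A j k else 0) := by
    refine dvd_sum fun k hk => ?_
    rw [sy k hk j hj]
    split_ifs with h
    · obtain ⟨m, hm⟩ := h
      obtain ⟨n, hn⟩ := Int.even_mul_pred_self (A j k)
      exact ⟨n - A j k * m, by rw [hm]; linear_combination hn⟩
    · obtain ⟨m, hm⟩ := Int.not_even_iff_odd.1 h
      obtain ⟨n, hn⟩ := Int.even_mul_pred_self (A j k)
      exact ⟨n - A j k * m, by rw [hm]; linear_combination hn⟩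
  rw [sum_sub_distrib, sum_sub_distrib, sq j hj j hj, ev j hj, ← sum_filter] at h1
  rw [even_iff_two_dvd]
  omega

/-- The row of an even place. -/
theorem row (sy : ∀ i ∈ s, ∀ j ∈ s, A i j = A j i)
    (sq : ∀ i ∈ s, ∀ j ∈ s, ∑ k ∈ s, A i k * A k j = 4 * A i j)
    (ev : ∀ i ∈ s, ∑ k ∈ s, A i k * d k = 4 * d i) {p : ι} (hp : p ∈ s) (dp : d p ^ 2 = 4)
    (Ap : A p p = 2) (hd : ∀ j ∈ s, d j ^ 2 = 1 ∨ d j ^ 2 = 4 ∧ Even (A p j)) :
    ∀ j ∈ s, A p j = 0 ∨ 2 * A p j = d p * d j := by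
  have h1 : ∑ j ∈ s, A p j * (2 * A p j - d p * d j) = 0 := by
    have : ∀ j ∈ s, A p j * (2 * A p j - d p * d j) = 2 * (A p j * A j p) - d p * (A p j * d j) :=
      fun j hj => by rw [sy j hj p hp]; ring
    rw [sum_congr rfl this, sum_sub_distrib, ← mul_sum, ← mul_sum, sq p hp p hp, ev p hp, Ap]
    linear_combination (-4) * dp
  have h2 : ∀ j ∈ s, 0 ≤ A p j * (2 * A p j - d p * d j) := fun j hj => by
    rcases hd j hj with h | ⟨h, m, hm⟩
    · rcases sq4 dp with a | a <;> rcases sq1 h with b | b <;> rw [a, b] <;>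
        nlinarith [nn1 (A p j), nn2 (A p j)]
    · rcases sq4 dp with a | a <;> rcases sq4 h with b | b <;> rw [a, b, hm] <;>
        nlinarith [nn1 m, nn2 m]
  intro j hj
  rcases mul_eq_zero.1 ((sum_eq_zero_iff_of_nonneg h2).1 h1 j hj) with h | h
  · exact Or.inl h
  · exact Or.inr (by linear_combination h)

theorem split2 [DecidableEq ι] {p q : ι} (hp : p ∈ s) (hq : q ∈ s) (pq : q ≠ p) (f : ι → ℤ) :
    ∑ k ∈ s, f k = f p + f q + ∑ k ∈ (s.erase p).erase q, f k := by
  rw [add_assoc, add_sum_erase _ _ (mem_erase.2 ⟨pq, hq⟩), add_sum_erase _ _ hp]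

/-- Two even places: the row of `p` is supported on `p` and `q`. -/
theorem two [DecidableEq ι] (sy : ∀ i ∈ s, ∀ j ∈ s, A i j = A j i)
    (sq : ∀ i ∈ s, ∀ j ∈ s, ∑ k ∈ s, A i k * A k j = 4 * A i j)
    (ev : ∀ i ∈ s, ∑ k ∈ s, A i k * d k = 4 * d i) {p q : ι} (hp : p ∈ s) (hq : q ∈ s) (pq : q ≠ p)
    (hE : s.filter (fun k => Even (d k)) = {p, q}) (dp : d p ^ 2 = 4) (dq : d q ^ 2 = 4)
    (Ap : A p p = 2) (Aq : A q q = 2) (hd : ∀ j ∈ (s.erase p).erase q, d j ^ 2 = 1) :
    A p q ≠ 0 ∧ ∀ k ∈ (s.erase p).erase q, A p k = 0 := by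
  have P : ∀ j ∈ s, Even (A j p + A j q) := fun j hj => by
    have := par sy sq ev hj
    rwa [hE, sum_pair pq.symm] at this
  have e1 : Even (A p q) := by
    have := P p hp
    rw [Ap] at this
    exact (Int.even_add.1 this).1 even_two
  have cs : ∀ j ∈ s, j = p ∨ j = q ∨ j ∈ (s.erase p).erase q := fun j hj => by
    by_cases h1 : j = p
    · exact Or.inl h1
    by_cases h2 : j = q
    · exact Or.inr (Or.inl h2)
    exact Or.inr (Or.inr (mem_erase.2 ⟨h2, mem_erase.2 ⟨h1, hj⟩⟩))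
  have rp := row sy sq ev hp dp Ap fun j hj => by
    rcases cs j hj with rfl | rfl | h
    · exact Or.inr ⟨dp, Ap ▸ even_two⟩
    · exact Or.inr ⟨dq, e1⟩
    · exact Or.inl (hd j h)
  have rq := row sy sq ev hq dq Aq fun j hj => by
    rcases cs j hj with rfl | rfl | h
    · exact Or.inr ⟨dp, sy j hp q hq ▸ e1⟩
    · exact Or.inr ⟨dq, Aq ▸ even_two⟩
    · exact Or.inl (hd j h)
  have ms : ∀ k ∈ (s.erase p).erase q, k ∈ s := fun k hk => mem_of_mem_erase (mem_of_mem_erase hk)
  have h1 : ∀ k ∈ (s.erase p).erase q, d p * (A p k * A k q) = d q * A p k ^ 2 := fun k hk => by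
    have a := rp k (ms k hk)
    have b := rq k (ms k hk)
    have c := Int.even_iff.1 (P k (ms k hk))
    rw [sy k (ms k hk) p hp, sy k (ms k hk) q hq] at c
    rw [sy k (ms k hk) q hq]
    have : d p * A q k = d q * A p k := by
      rcases sq4 dp with x | x <;> rcases sq4 dq with y | y <;> rcases sq1 (hd k hk) with z | z <;>
        simp only [x, y, z] at a b ⊢ <;> omega
    linear_combination A p k * this
  have h2 := sq p hp q hq
  rw [split2 hp hq pq, Ap, Aq] at h2
  have h3 : d q * ∑ k ∈ (s.erase p).erase q, A p k ^ 2 = 0 := by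
    rw [mul_sum, ← sum_congr rfl h1, ← mul_sum]
    linear_combination d p * h2
  have h4 : ∑ k ∈ (s.erase p).erase q, A p k ^ 2 = 0 :=
    (mul_eq_zero.1 h3).resolve_left fun h => by rw [h] at dq; omega
  have h5 : ∀ k ∈ (s.erase p).erase q, A p k = 0 := fun k hk =>
    pow_eq_zero_iff two_ne_zero |>.1 ((sum_eq_zero_iff_of_nonneg fun _ _ => sq_nonneg _).1 h4 k hk)
  refine ⟨fun h => ?_, h5⟩
  have h6 := sq p hp p hp
  rw [split2 hp hq pq, Ap, h, sum_eq_zero fun k hk => by rw [h5 k hk, zero_mul]] at h6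
  omega

theorem jobN9 : H68.EA.JobN9.{u} := by
  classical
  intro ι s R d sy sq mx ev _ _ d0 sd hc he p hp
  by_contra hodd
  have ep : Even (d p) := Int.not_odd_iff_even.1 hodd
  have dp := (he p hp ep).1
  have nn : ∀ i ∈ s, 0 ≤ d i ^ 2 - 1 := fun i hi => by
    have := sq_pos_of_ne_zero (d0 i hi)
    omega
  have tot : ∑ i ∈ s, (d i ^ 2 - 1) ≤ 8 := by
    rw [sum_sub_distrib, sd]
    simp only [sum_const, nsmul_eq_mul, mul_one]
    omega
  have od : ∀ j ∈ s, ¬ Even (d j) → d j ^ 2 = 1 := fun j hj h => by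
    have jp : j ≠ p := by rintro rfl; exact h ep
    have h1 := split2 hp hj jp fun i => d i ^ 2 - 1
    have h2 := sum_nonneg fun i (hi : i ∈ (s.erase p).erase j) =>
      nn i (mem_of_mem_erase (mem_of_mem_erase hi))
    have h3 : d j ^ 2 ≤ 6 := by omega
    obtain ⟨m, hm⟩ := Int.not_even_iff_odd.1 h
    have h4 : -3 < d j := by nlinarith
    have h5 : d j < 3 := by nlinarith
    have : d j = 1 ∨ d j = -1 := by omega
    rcases this with h | h <;> rw [h] <;> norm_num
  by_cases hq : ∃ q ∈ s, q ≠ p ∧ Even (d q)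
  · obtain ⟨q, hq, pq, eq⟩ := hq
    have dq := (he q hq eq).1
    have h1 : ∀ j ∈ (s.erase p).erase q, ¬ Even (d j) := fun j hj h => by
      have h1 := split2 hp hq pq fun i => d i ^ 2 - 1
      have h2 := single_le_sum (fun i (hi : i ∈ (s.erase p).erase q) =>
        nn i (mem_of_mem_erase (mem_of_mem_erase hi))) hj
      have h3 := (he j (mem_of_mem_erase (mem_of_mem_erase hj)) h).1
      omega
    have hE : s.filter (fun k => Even (d k)) = {p, q} := by
      ext k
      simp only [mem_filter, mem_insert, mem_singleton]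
      refine ⟨fun ⟨hk, ek⟩ => ?_, ?_⟩
      · by_contra hh
        push Not at hh
        exact h1 k (mem_erase.2 ⟨hh.2, mem_erase.2 ⟨hh.1, hk⟩⟩) ek
      · rintro (rfl | rfl)
        exacts [⟨hp, ep⟩, ⟨hq, eq⟩]
    have T := fun b => two (sy b) (sq b) (ev b) hp hq pq hE dp dq ((he p hp ep).2 b) ((he q hq eq).2 b)
      fun j hj => od j (mem_of_mem_erase (mem_of_mem_erase hj)) (h1 j hj)
    have h2 := mx p hp p hp
    rw [split2 hp hq pq, (he p hp ep).2, (he p hp ep).2, sy false q hq p hp,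
      sum_eq_zero fun k hk => by rw [(T true).2 k hk, zero_mul]] at h2
    exact mul_ne_zero (T true).1 (T false).1 (by linear_combination h2 + dp)
  · push Not at hq
    have hE : s.filter (fun k => Even (d k)) = {p} := by
      ext k
      simp only [mem_filter, mem_singleton]
      refine ⟨fun ⟨hk, ek⟩ => by_contra fun hh => hq k hk hh ek, ?_⟩
      rintro rfl
      exact ⟨hp, ep⟩
    have Ap := (he p hp ep).2 true
    have r := row (sy true) (sq true) (ev true) hp dp Ap fun j hj => by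
      by_cases h : j = p
      · subst h; exact Or.inr ⟨dp, Ap ▸ even_two⟩
      · exact Or.inl (od j hj (hq j hj h))
    have z : ∀ k ∈ s.erase p, R true p k = 0 := fun k hk => by
      obtain ⟨kp, hk⟩ := mem_erase.1 hk
      have a := r k hk
      have c := par (sy true) (sq true) (ev true) hk
      rw [hE, sum_singleton, sy true k hk p hp, Int.even_iff] at c
      rcases sq4 dp with x | x <;> rcases sq1 (od k hk (hq k hk kp)) with y | y <;>
        simp only [x, y] at a <;> omega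
    have h6 := sq true p hp p hp
    rw [← add_sum_erase _ _ hp, Ap, sum_eq_zero fun k hk => by rw [z k hk, zero_mul]] at h6
    omega

end H49.EaN9
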