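/- Tower FE, job Cm. -/
import Cfsg.Agent.H14.FESpec

set_option autoImplicit false

namespace H49.FeCm

open Cfsg Subgroup MulAction H14 H98 H1.Gold H31.S2 H14.GC H14.FE
open scoped commutatorElement

universe u

variable {G : Type u} [Group G]

theorem cen_le [Finite G] {Q : Subgroup G} (te : IsTightlyEmbedded Q) (g : G) {t : G}
    (ht : t ∈ cj g Q) (hi : Inv t) : cen1 t ≤ nor (cj g Q) := by
  intro c hc
  have e : t * c = c * t := mem_centralizer_iff.1 hc t rfl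
  have h1 : g⁻¹ * c * g ∈ nor Q := by
    by_contra hn
    have m : g⁻¹ * t * g ∈ Q ⊓ cj (g⁻¹ * c * g) Q := ⟨mem_cj.1 ht, mem_cj.2 (by
      have : (g⁻¹ * c * g)⁻¹ * (g⁻¹ * t * g) * (g⁻¹ * c * g) = g⁻¹ * t * g := by
        calc _ = g⁻¹ * c⁻¹ * (t * c) * g := by group
          _ = _ := by rw [e]; group
      rw [this]
      exact mem_cj.1 ht)⟩
    have h2 := orderOf_dvd_natCard _ m
    have h3 : orderOf (g⁻¹ * t * g) = 2 := inv_iff.1 (by simpa using hi.conj g⁻¹)
    rw [h3] at h2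
    exact Nat.not_even_iff_odd.2 (te.2 _ hn) (even_iff_two_dvd.2 h2)
  refine mem_normalizer_iff.2 fun x => ?_
  rw [mem_cj, mem_cj, mem_normalizer_iff.1 h1]
  have : g⁻¹ * c * g * (g⁻¹ * x * g) * (g⁻¹ * c * g)⁻¹ = g⁻¹ * (c * x * c⁻¹) * g := by group
  rw [this]

theorem zs_div {Q : Subgroup G} {x x' : G} (hx : x ∈ nor Q) (h : Zs Q x) (h' : Zs Q x') :
    Zs Q (x⁻¹ * x') := fun y hy => by
  have := (mem_normalizer_iff.1 ((nor _).inv_mem (normalizer_le_normalizer_opp (p := 2) Q hx)) _).1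
    ((opp 2 Q).mul_mem (h' y hy) ((opp 2 Q).inv_mem (h y hy)))
  convert this using 1
  simp only [commutatorElement_def]
  group

/-- Two involutions with a product of odd order are conjugate by a power of the product. -/
theorem exists_conj {t s : G} (ht : t * t = 1) (hs : s * s = 1) (ho : Odd (orderOf (t * s))) :
    ∃ c ∈ zpowers (t * s), c * s * c⁻¹ = t := by
  obtain ⟨k, hk⟩ := ho
  have h1 : s * (t * s) * s⁻¹ = (t * s)⁻¹ := by
    rw [mul_inv_rev, inv_eq_of_mul_eq_one_right ht, inv_eq_of_mul_eq_one_right hs, mul_assoc,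
      mul_assoc, hs, mul_one]
  have h2 : s * (t * s) ^ k * s⁻¹ = ((t * s) ^ k)⁻¹ := by rw [← conj_pow, h1, inv_pow]
  have h3 : (t * s) ^ k * (t * s) ^ k * (t * s) = 1 := by
    rw [← pow_add, ← pow_succ, ← two_mul, ← hk, pow_orderOf_eq_one]
  refine ⟨((t * s) ^ k)⁻¹, inv_mem (pow_mem (mem_zpowers _) _), ?_⟩
  calc ((t * s) ^ k)⁻¹ * s * ((t * s) ^ k)⁻¹⁻¹
      = ((t * s) ^ k)⁻¹ * (s * (t * s) ^ k * s⁻¹) * s := by group
    _ = ((t * s) ^ k * (t * s) ^ k)⁻¹ * s := by rw [h2]; group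
    _ = t * (s * s) := by rw [inv_eq_of_mul_eq_one_right h3, mul_assoc]
    _ = t := by rw [hs, mul_one]

theorem jobCm : JobCm.{u} := by
  intro G _ _ Q g R T ed ab h
  have : Fact (Nat.Prime 2) := ⟨Nat.prime_two⟩
  by_cases h1 : ∃ t ∈ T, Inv t ∧ Zs Q t
  · left
    obtain ⟨t, ht, hi, hz⟩ := h1
    have odd : Odd (Nat.card (opp 2 Q)) := Nat.coprime_two_right.1 (coprime_card_opp Q)
    have hO : opp 2 Q ≤ nor (cj g Q) := by
      obtain ⟨E, e4, -, hE⟩ := (ed.four.cj g).exists_e4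
      obtain ⟨k, -, hk⟩ := ed.sylT.exists_cj_le e4.1.isPGroup hE
      have e4' := e4.cj k
      exact OI.le_of_cen1 ⟨odd, hk.trans (ed.le.trans (normalizer_le_normalizer_opp Q))⟩
        ⟨⟨⟨fun a b => Subtype.ext (e4'.1.comm a.2 b.2)⟩⟩, fun a ha => by rw [sq]; exact e4'.1 a ha⟩ e4'.2
        fun a ha a1 => inf_le_right.trans (cen_le ed.te g (ed.sylT.le (hk ha)) ⟨a1, e4'.1 a ha⟩)
    intro y hy
    have m : t * (y * t * y⁻¹) ∈ opp 2 Q := by
      have := hz y hy
      rw [commutatorElement_def, hi.inv_eq] at this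
      simpa only [mul_assoc] using this
    obtain ⟨c, hc, e⟩ := exists_conj hi.2 (hi.conj y).2 (odd.of_dvd_nat (orderOf_dvd_natCard _ m))
    have m1 : c * y ∈ cen1 t := mem_centralizer_iff.2 fun x hx => by
      rw [Set.mem_singleton_iff.1 hx]
      calc t * (c * y) = c * (y * t * y⁻¹) * c⁻¹ * (c * y) := by rw [e]
        _ = c * y * t := by group
    have m2 := (nor _).mul_mem ((nor _).inv_mem (hO (zpowers_le.2 m hc)))
      (cen_le ed.te g (ed.sylT.le ht) hi m1)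
    rwa [inv_mul_cancel_left] at m2
  right
  push Not at h1
  obtain ⟨e⟩ := ed.iso
  have abT : ∀ a b : T, a * b = b * a := fun a b => e.symm.injective (by
    rw [map_mul, map_mul]; exact Subtype.ext (ab _ (e.symm a).2 _ (e.symm b).2))
  have h2 : ∀ t : {t : T // t * t = 1}, ∃ r : {r : R // r * r = 1},
      Zs Q ((r.1 : G) * t.1) ∧ (t.1 = 1 → r.1 = 1) := fun t => by
    by_cases t1 : t.1 = 1
    · exact ⟨⟨1, mul_one 1⟩, fun y _ => by simp [t1], fun _ => rfl⟩
    · obtain ⟨r, hr, r2, hz⟩ := h t.1 t.1.2 (congrArg Subtype.val t.2)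
      exact ⟨⟨⟨r, hr⟩, Subtype.ext r2⟩, hz, fun e => absurd e t1⟩
  choose f hf f1 using h2
  have inj : Function.Injective f := fun t t' ht => by
    have z := zs_div ((nor Q).mul_mem (le_normalizer (ed.sylR.le (f t).1.2)) (ed.le t.1.2)) (hf t)
      (ht ▸ hf t')
    rw [mul_inv_rev, mul_assoc, inv_mul_cancel_left] at z
    have sq : (t.1⁻¹ * t'.1) * (t.1⁻¹ * t'.1) = 1 := by
      rw [inv_eq_of_mul_eq_one_right t.2, mul_assoc, ← mul_assoc t'.1, abT t'.1 t.1, mul_assoc, t'.2,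
        mul_one, t.2]
    by_contra ne
    refine h1 _ (t.1⁻¹ * t'.1).2 ⟨fun e => ne (Subtype.ext (Subtype.ext ?_)), congrArg Subtype.val sq⟩ z
    exact inv_mul_eq_one.1 e
  have sur := (Finite.injective_iff_surjective_of_equiv (e.symm.toEquiv.subtypeEquiv
    (p := fun t : T => t * t = 1) (q := fun r : R => r * r = 1) fun t => by
      change _ ↔ e.symm t * e.symm t = 1
      rw [← map_mul, EmbeddingLike.map_eq_one_iff])).1 inj
  intro r hr hi
  obtain ⟨t, ht⟩ := sur ⟨⟨r, hr⟩, Subtype.ext hi.2⟩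
  refine ⟨t.1, t.1.2, ⟨fun e => hi.1 ?_, congrArg Subtype.val t.2⟩, ?_⟩
  · have := f1 t (Subtype.ext e)
    rw [ht] at this
    exact congrArg Subtype.val this
  · have := hf t
    rwa [ht] at this

end H49.FeCm
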