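import Cfsg.Agent.H49.HeCD
import Cfsg.Agent.H80.KFHe
import Cfsg.Agent.H88.OutHe
import Cfsg.Agent.H9.Cube
import Cfsg.Agent.H49.D8Kit

/-! The diagram automorphism `τ` of `He`; every outer involution of `Aut He` is conjugate to `τ`. -/

set_option autoImplicit false
set_option maxRecDepth 1000000

namespace H49.HeC

open Subgroup Cfsg Cfsg.Spor H71 H81 H88 H80.KF H43.KF H80.KFHe

noncomputable section

theorem h2 : AOK 2560 (H71.He.ρ).range L2 :=
  AOK.append (AOK.cons oa (AOK.cons ob (AOK.cons oc (AOK.cons od (AOK.cons oe (AOK.cons of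
    (AOK.cons og AOK.nil))))))) fun a ha => hLS a (List.mem_of_mem_drop (List.mem_of_mem_take ha))

/-- The letters as elements of `He`. -/
def v (l : ℕ) : He := Function.invFun H71.He.ρ (vL L2 l)

theorem ρv (l : ℕ) : H71.He.ρ (v l) = vL L2 l := by
  refine Function.invFun_eq (show vL L2 l ∈ (H71.He.ρ).range from ?_)
  rcases Nat.lt_or_ge l L2.length with h | h
  · exact (h2.nthD h).2.1
  · rw [vL, nthD_eq, List.getD_eq_default _ _ h]
    exact one_mem _

theorem ρw (w : List ℕ) : H71.He.ρ (evw v w) = evw (vL L2) w := by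
  rw [map_evw]; simp only [ρv]

/-- The base. -/
abbrev bs : List ℕ := [13, 1338, 698, 0]

theorem eqv {s t : List ℕ} (e : eqI L2 bs s t = true) : evw v s = evw v t :=
  H71.He.inj (by rw [ρw, ρw]; exact of_eqI base h2 e)

theorem nev {s t : List ℕ} {p : ℕ} (e : mvI 2560 L2 s t p = true) : evw v s ≠ evw v t :=
  fun h => of_mvI h2 e (by rw [← ρw, ← ρw, h])

theorem v_eq {l : ℕ} (h : l < 7) : v l = H71.He.val (l + 4) := by
  apply H71.He.inj
  rw [ρv, H71.He.hρ]
  interval_cases l <;> rfl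

def code' : He.Gen → ℕ
  | .a => 4 | .b => 5 | .c => 6 | .d => 7 | .e => 8 | .f => 10 | .g => 9

theorem relS : ∀ r ∈ [8, 9, 10, 9, 10] :: H71.pw [6, 7, 10, 9] 4 :: HeM.R, evw H71.He.val r = 1 :=
  List.forall_mem_cons.2 ⟨H71.He.rel (by decide +kernel), List.forall_mem_cons.2
    ⟨H71.He.rel (by decide +kernel), H71.He.sat.hR⟩⟩

def τ0 : He →* He :=
  PresentedGroup.toGroup (f := fun x => H71.He.val (code' x))
    (cox_lift H71.He.hv code' relS (by decide +kernel)
      (extra_lift H71.He.hv code' relS (by decide +kernel)))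

/-- Swap `f` and `g`. -/
def sw (l : ℕ) : ℕ := if l = 5 then 6 else if l = 6 then 5 else l

theorem τ0_of (x : He.Gen) : τ0 (PresentedGroup.of x) = H71.He.val (code' x) :=
  PresentedGroup.toGroup.of _

theorem τ0v {l : ℕ} (h : l < 7) : τ0 (v l) = v (sw l) := by
  rw [v_eq h, v_eq (l := sw l) (by interval_cases l <;> decide)]
  interval_cases l
  exacts [τ0_of .a, τ0_of .b, τ0_of .c, τ0_of .d, τ0_of .e, τ0_of .f, τ0_of .g]

theorem τ0τ0 (x : He) : τ0 (τ0 x) = x := by
  have : τ0.comp τ0 = MonoidHom.id _ := PresentedGroup.ext fun x => by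
    rw [MonoidHom.comp_apply, τ0_of]
    cases x
    exacts [τ0_of .a, τ0_of .b, τ0_of .c, τ0_of .d, τ0_of .e, τ0_of .g, τ0_of .f]
  exact DFunLike.congr_fun this x

/-- The diagram automorphism. -/
def τ : MulAut He := ⟨⟨τ0, τ0, τ0τ0, τ0τ0⟩, τ0.map_mul⟩

theorem ττ : τ * τ = 1 := MulEquiv.ext τ0τ0

theorem τw {w : List ℕ} (h : inR 7 w = true) : τ (evw v w) = evw v (w.map sw) := by
  induction w with
  | nil => exact map_one _
  | cons l w ih =>
    obtain ⟨h1, h2⟩ := band_iff.1 (show band (Nat.blt l 7) (inR 7 w) = true from h)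
    rw [List.map_cons, evw_cons, evw_cons, map_mul, ih h2, ← τ0v (Nat.blt_eq ▸ h1)]
    rfl

/-- `conj h * τ` normalizes the Sylow subgroup. -/
def hh : He := evw v HW

def xx : MulAut He := MulAut.conj hh * τ

def U (l : ℕ) : List ℕ := nthD UL [] (l - 25)

theorem xU : ∀ l ∈ H80.KFHe.ST, xx (v l) = evw v (U l) := by
  have e : allM (fun l => band (inR 7 (nthD WL [] (l - 25))) (band (eqI L2 bs [l] (nthD WL [] (l - 25)))
    (eqI L2 bs (HW ++ (nthD WL [] (l - 25)).map sw) (U l ++ HW)))) ST = true := by decide +kernel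
  intro l hl
  have e := of_allM e l hl
  simp only [band_iff] at e
  have e1 := eqv e.2.1
  have e2 := eqv e.2.2
  rw [evw_cons, evw_nil, mul_one] at e1
  rw [evw_append, evw_append, ← τw e.1, ← e1] at e2
  show hh * τ (v l) * hh⁻¹ = _
  rw [mul_inv_eq_iff_eq_mul]
  exact e2

theorem xw {t : List ℕ} (h : ∀ l ∈ t, l ∈ H80.KFHe.ST) : xx (evw v t) = evw v (t.flatMap U) := by
  induction t with
  | nil => exact map_one _
  | cons l t ih =>
    rw [List.flatMap_cons, evw_cons, evw_append, map_mul, xU l (h l (by simp)),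
      ih fun l hl => h l (by simp [hl])]

theorem τc (k : He) : τ * MulAut.conj k = MulAut.conj (τ k) * τ := by
  ext y; simp

theorem xx2 : xx * xx = 1 := by
  have e : hh * τ hh = 1 := by
    have := eqv (s := HW ++ HW.map sw) (t := []) (by decide +kernel)
    rwa [evw_append, ← τw (by decide +kernel)] at this
  rw [xx, mul_assoc, ← mul_assoc τ, τc, mul_assoc, ττ, mul_one, ← map_mul, e, map_one]

def chk (t c : List ℕ) : Bool :=
  band (allM (fun l => H74.memL l ST) t) (List.rec (motive := fun _ => Bool)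
    (anyM (fun p => mvI 2560 L2 (app t (t.flatMap U)) [] p) bs)
    (fun _ g _ => band (inR 7 g) (eqI L2 bs (app t (app HW (g.map sw))) g)) c)

def Q (y : He) : Prop := y * xx y = 1 → ∃ g, y * hh * τ g = g

theorem of_chk {l c : List (List ℕ)} (e : allZ chk l c = true) : ∀ t ∈ l, Q (evw v t) := by
  intro t ht hx
  obtain ⟨c, e⟩ := of_allZ e t ht
  obtain ⟨e0, e⟩ := band_iff.1 e
  rcases c with _ | ⟨k, g⟩
  · obtain ⟨p, -, e⟩ := of_anyM e
    rw [xw fun l hl => H74.of_memL (of_allM e0 l hl), ← evw_append, ← app_eq] at hx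
    exact absurd hx (nev e)
  · obtain ⟨e1, e2⟩ := band_iff.1 e
    have := eqv e2
    rw [app_eq, app_eq, evw_append, evw_append, ← τw e1, ← mul_assoc] at this
    exact ⟨_, this⟩

theorem vST : ∀ l, l < 35 → 7 ≤ l → vL L2 l = vL LS l := fun l h1 h2 => by
  interval_cases l <;> rfl

theorem rT : ∀ e ∈ CT.flatMap schR, evw v e.1 = evw v e.2 := fun e he =>
  eqv (of_allM (show relP L2 bs (CT.flatMap schR) = true by decide +kernel) e he)

theorem k0 : allZ chk (mapApp [] (prods [AT1, AT2, AT3]) []) cs0 = true := by decide +kernel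
theorem k1 : allZ chk (mapApp [34] (prods [AT1, AT2, AT3]) []) cs1 = true := by decide +kernel
theorem k2 : allZ chk (mapApp [33] (prods [AT1, AT2, AT3]) []) cs2 = true := by decide +kernel
theorem k3 : allZ chk (mapApp [32] (prods [AT1, AT2, AT3]) []) cs3 = true := by decide +kernel
theorem k4 : allZ chk (mapApp [33, 34] (prods [AT1, AT2, AT3]) []) cs4 = true := by decide +kernel
theorem k5 : allZ chk (mapApp [32, 34] (prods [AT1, AT2, AT3]) []) cs5 = true := by decide +kernel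
theorem k6 : allZ chk (mapApp [34, 33] (prods [AT1, AT2, AT3]) []) cs6 = true := by decide +kernel
theorem k7 : allZ chk (mapApp [32, 33] (prods [AT1, AT2, AT3]) []) cs7 = true := by decide +kernel

theorem allQ : ∀ y ∈ gen v ST, Q y :=
  all_of_chunks rT oCT (List.forall_mem_cons.2 ⟨of_chk k0, List.forall_mem_cons.2 ⟨of_chk k1,
    List.forall_mem_cons.2 ⟨of_chk k2, List.forall_mem_cons.2 ⟨of_chk k3,
    List.forall_mem_cons.2 ⟨of_chk k4, List.forall_mem_cons.2 ⟨of_chk k5,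
    List.forall_mem_cons.2 ⟨of_chk k6, List.forall_mem_cons.2 ⟨of_chk k7,
    fun _ h => absurd h List.not_mem_nil⟩⟩⟩⟩⟩⟩⟩⟩)

theorem cardS : Nat.card (gen v ST) = 2 ^ 10 := by
  have : (gen v ST).map H71.He.ρ = gen (vL LS) ST := by
    have k : ∀ l ∈ H80.KFHe.ST, l < 35 ∧ 7 ≤ l := by decide
    rw [MonoidHom.map_closure]
    congr 1
    ext x
    constructor
    · rintro ⟨_, ⟨l, hl, rfl⟩, rfl⟩
      exact ⟨l, hl, by rw [ρv, vST l (k l hl).1 (k l hl).2]⟩
    · rintro ⟨l, hl, rfl⟩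
      exact ⟨_, ⟨l, hl, rfl⟩, by rw [ρv, vST l (k l hl).1 (k l hl).2]⟩
  rw [← cardT, ← this, card_map_of_injective H71.He.inj]

/-- The relations of `3 ^ (1 + 2)` collapse if `27` does not divide the order. -/
theorem heis {H : Type*} [Group H] [Finite H] (h : ¬ 27 ∣ Nat.card H) {x y c : H} (x3 : x ^ 3 = 1)
    (y3 : y ^ 3 = 1) (c3 : c ^ 3 = 1) (e : y * x = c * (x * y)) (cx : x * c = c * x)
    (cy : y * c = c * y) : c = 1 := by
  have := Fact.mk Nat.prime_three
  have p : ∀ z : H, z ^ 3 = 1 → IsPGroup 3 (zpowers z) := fun z hz => by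
    rintro ⟨_, j, rfl⟩
    refine ⟨1, Subtype.ext ?_⟩
    show (z ^ j) ^ 3 ^ 1 = 1
    rw [pow_one, ← zpow_natCast, zpow_comm, zpow_natCast, hz, one_zpow]
  have c1 : ∀ a : H, H85.FZ.cl [a] = zpowers a := fun a => by
    rw [zpowers_eq_closure, H85.FZ.cl]; simp
  have c2 : H85.FZ.cl [c, x] = zpowers c ⊔ zpowers x :=
    le_antisymm (D8.cl2_le (mem_sup_left (mem_zpowers c)) (mem_sup_right (mem_zpowers x)))
      (sup_le (zpowers_le.2 (D8.m1 _ _)) (zpowers_le.2 (D8.m2 _ _)))
  have n1 : x ∈ H1.Gold.nor (H85.FZ.cl [c]) := D8.nor_cl (by simp [cx, H85.FZ.mem_cl])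
  have n2 : y ∈ H1.Gold.nor (H85.FZ.cl [c, x]) := D8.nor_cl (by
    simp only [List.forall_mem_cons, cy, e, ← mul_assoc, mul_inv_cancel_right]
    exact ⟨D8.m1 _ _, mul_mem (D8.m1 _ _) (D8.m2 _ _), by simp⟩)
  rw [c1] at n1
  rw [c2] at n2
  have p2 := (p c c3).to_sup_of_normal_left' (p x x3) (zpowers_le.2 n1)
  have p3 := p2.to_sup_of_normal_left' (p y y3) (zpowers_le.2 n2)
  obtain ⟨k, hk⟩ := IsPGroup.iff_card.1 p3
  have k2 : k ≤ 2 := by
    by_contra r
    exact h ((pow_dvd_pow 3 (by omega : 3 ≤ k)).trans (hk ▸ card_subgroup_dvd_card _))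
  have := H9.commutator_le_of_index_le_sq p3 (N := ⊥)
    (by rw [index_bot, hk]; exact Nat.pow_le_pow_right (by norm_num) k2)
  have := this (commutator_mem_commutator (mem_top (⟨y, mem_sup_right (mem_zpowers y)⟩ :
    ↥(zpowers c ⊔ zpowers x ⊔ zpowers y))) (mem_top ⟨x, mem_sup_left (mem_sup_right (mem_zpowers x))⟩))
  have : y * x = x * y := congrArg Subtype.val (commutatorElement_eq_one_iff_mul_comm.1 this)
  rwa [this, eq_comm, mul_eq_right] at e

theorem fixτ {w : List ℕ} (h : inR 5 w = true) : τ (evw v w) = evw v w := by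
  have k : ∀ l ∈ w, l < 5 := fun l hl => Nat.blt_eq ▸ of_allM h l hl
  rw [map_evw τ.toMonoidHom v w |> (show τ (evw v w) = _ from ·)]
  refine congrArg List.prod (List.map_congr_left fun l hl => ?_)
  have := k l hl
  refine (τ0v (by omega)).trans ?_
  rw [sw, if_neg (by omega), if_neg (by omega)]

/-- `τ` fixes a group `3 ^ (1 + 2)`. -/
theorem three : ∃ x y c : He, τ x = x ∧ τ y = y ∧ τ c = c ∧ x ^ 3 = 1 ∧ y ^ 3 = 1 ∧ c ^ 3 = 1 ∧
    y * x = c * (x * y) ∧ x * c = c * x ∧ y * c = c * y ∧ c ≠ 1 := by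
  let x := [1, 2, 3, 2, 1, 4]
  let y := [3, 2, 3, 2, 4, 3]
  let c := y ++ x ++ y.reverse ++ x.reverse
  refine ⟨evw v x, evw v y, evw v c, fixτ (by decide +kernel), fixτ (by decide +kernel),
    fixτ (by decide +kernel), ?_, ?_, ?_, ?_, ?_, ?_, nev (t := []) (p := 1) (by decide +kernel)⟩
  all_goals simp only [← evw_rep, ← evw_append]
  iterate 3 exact eqv (t := []) (by decide +kernel)
  iterate 3 exact eqv (by decide +kernel)

/-- `τ` fixes two elements of order `7` whose product is an involution. -/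
theorem seven : ∃ x y : He, τ x = x ∧ τ y = y ∧ x ^ 7 = 1 ∧ y ^ 7 = 1 ∧ orderOf (x * y) = 2 := by
  let x := rep [1, 2, 3, 4] 3
  let y := 3 :: x ++ [3]
  refine ⟨evw v x, evw v y, fixτ (by decide +kernel), fixτ (by decide +kernel), ?_, ?_,
    orderOf_eq_prime ?_ ?_⟩
  all_goals simp only [← evw_rep, ← evw_append]
  iterate 3 exact eqv (t := []) (by decide +kernel)
  exact nev (t := []) (p := 0) (by decide +kernel)

theorem conj_inj : Function.Injective (MulAut.conj : He →* MulAut He) := by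
  have := H71.He.simple
  obtain ⟨x, y, c, -, -, -, -, -, -, e, -, -, c1⟩ := three
  rw [← MonoidHom.ker_eq_bot_iff]
  refine (IsSimpleGroup.eq_bot_or_eq_top_of_normal _ inferInstance).resolve_right fun k => c1 ?_
  have : y * x * y⁻¹ = x := DFunLike.congr_fun (show MulAut.conj y = 1 from k.ge (mem_top y)) x
  rwa [mul_inv_eq_iff_eq_mul.1 this, eq_comm, mul_eq_right] at e

theorem outer : τ ∉ Inn He := by
  rintro ⟨k, hk⟩
  obtain ⟨x, y, c, tx, ty, tc, x3, y3, c3, e, cx, cy, c1⟩ := three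
  have k2 : k ^ 2 = 1 := conj_inj (by rw [pow_two, map_mul, hk, ττ, map_one])
  have k1 : k ≠ 1 := fun r => nev (s := [5]) (t := [6]) (p := 0) (by decide +kernel) (by
    have := τw (w := [5]) (by decide)
    rwa [← hk, r, map_one] at this)
  obtain ⟨t, ht, c0⟩ := classes k (orderOf_eq_prime k2 k1)
  obtain ⟨g, rfl⟩ := isConj_iff.1 c0
  have n : ¬ 27 ∣ Nat.card (C1 t) := by
    rw [← card_map_of_injective H71.He.inj]
    rcases ht with r | r
    · obtain ⟨a, t', b, d⟩ := cca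
      rw [H71.He.inj (r.trans b.symm), d, a]; norm_num
    · obtain ⟨a, t', b, d⟩ := ccb
      rw [H71.He.inj (r.trans b.symm), d, a]; norm_num
  have m : ∀ z, τ z = z → g⁻¹ * z * g ∈ C1 t := fun z hz => by
    rw [← hk] at hz
    have : g * t * g⁻¹ * z * (g * t * g⁻¹)⁻¹ = z := hz
    rw [mem_C1]
    calc _ = g⁻¹ * (g * t * g⁻¹ * z * (g * t * g⁻¹)⁻¹) * g * t := by rw [this]
      _ = _ := by group
  have := heis n (x := ⟨_, m x tx⟩) (y := ⟨_, m y ty⟩) (c := ⟨_, m c tc⟩)
    (Subtype.ext (by simp [inv_conj_pow', x3])) (Subtype.ext (by simp [inv_conj_pow', y3]))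
    (Subtype.ext (by simp [inv_conj_pow', c3]))
    (Subtype.ext (by simpa [mul_assoc] using congrArg (· * g) e))
    (Subtype.ext (by simpa [mul_assoc] using congrArg (· * g) cx))
    (Subtype.ext (by simpa [mul_assoc] using congrArg (· * g) cy))
  exact c1 (by simpa [mul_assoc, inv_mul_eq_one] using congrArg Subtype.val this)
where
  inv_conj_pow' {g z : He} : (g⁻¹ * z * g) ^ 3 = g⁻¹ * z ^ 3 * g := by
    simp only [pow_succ, pow_zero]; group

/-- One class of outer involutions. -/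
theorem cls {α : MulAut He} (h : α * α = 1) (n : α ∉ Inn He) :
    ∃ g, α = MulAut.conj g * τ * (MulAut.conj g)⁻¹ := by
  have := Fact.mk Nat.prime_two
  have i2 : (Inn He).index = 2 := H88.OutHe.out
  have cI : Nat.card (Inn He) = 4030387200 := by
    rw [← H71.He.card]; exact Nat.card_congr (MonoidHom.ofInjective conj_inj).symm.toEquiv
  let P := (gen v H80.KFHe.ST).map (MulAut.conj : He →* MulAut He)
  have cP : Nat.card P = 2 ^ 10 := by rw [card_map_of_injective conj_inj, cardS]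
  have xo : xx ∉ Inn He := fun r => outer ((Subgroup.mul_mem_cancel_left _ (show _ ∈ Inn He from ⟨hh, rfl⟩)).1 r)
  have xc : ∀ k, xx * MulAut.conj k * xx⁻¹ = MulAut.conj (xx k) := fun k => by ext y; simp
  have xn : xx ∈ normalizer (P : Set (MulAut He)) := mem_normalizer_fintype (by
    rintro _ ⟨y, hy, rfl⟩
    refine ⟨xx y, ?_, (xc y).symm⟩
    exact (show gen v H80.KFHe.ST ≤ (gen v H80.KFHe.ST).comap xx.toMonoidHom from gen_le fun l hl =>
      show xx (v l) ∈ _ from xU l hl ▸ evw_mem fun r hr => mem_gen v (by revert r l; decide)) hy)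
  have p : ∀ β : MulAut He, β * β = 1 → β ∉ Inn He → IsPGroup 2 (zpowers β) := fun β b r =>
    IsPGroup.of_card (n := 1) (by
      rw [Nat.card_zpowers, orderOf_eq_prime (pow_two β ▸ b) fun k => r (by rw [k]; exact one_mem _)]
      rfl)
  obtain ⟨R, hR⟩ := ((IsPGroup.of_card cP).to_sup_of_normal_left' (p _ xx2 xo)
    (zpowers_le.2 xn)).exists_le_sylow
  obtain ⟨R', hR'⟩ := (p α h n).exists_le_sylow
  obtain ⟨c, hc⟩ := MulAction.exists_smul_eq (MulAut He) R' R
  have hc : c * α * c⁻¹ ∈ (R : Subgroup (MulAut He)) := hc ▸ ⟨α, hR' (mem_zpowers _), rfl⟩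
  have RP : P = (R : Subgroup (MulAut He)) ⊓ Inn He := by
    obtain ⟨k, hk⟩ := IsPGroup.iff_card.1 (R.isPGroup'.to_inf_left (K := Inn He))
    refine eq_of_le_of_card_ge (le_inf (le_sup_left.trans hR) (map_le_range _ _)) ?_
    rw [hk, cP]
    refine Nat.pow_le_pow_right (by norm_num) (not_lt.1 fun r => ?_)
    have := ((pow_dvd_pow 2 r).trans (hk ▸ card_dvd_of_le inf_le_right)).trans cI.dvd
    revert this; norm_num
  obtain ⟨y, hy, e⟩ : c * α * c⁻¹ * xx ∈ P := RP ▸ ⟨mul_mem hc (hR (mem_sup_right (mem_zpowers _))),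
    (mul_mem_iff_of_index_two i2).2 (iff_of_false (fun r => n (by
      simpa [mul_assoc] using (innNormal He).conj_mem _ r c⁻¹)) xo)⟩
  have e1 : c * α * c⁻¹ = MulAut.conj y * xx := by rw [e, mul_assoc _ xx, xx2, mul_one]
  obtain ⟨g, hg⟩ := allQ y hy (conj_inj (by
    have xi : xx⁻¹ = xx := inv_eq_of_mul_eq_one_left xx2
    rw [map_mul, ← xc, xi, ← mul_assoc, ← mul_assoc, ← e1, mul_assoc, ← e1, map_one]
    simp [mul_assoc, ← mul_assoc α, h]))
  have e2 : c * α * c⁻¹ = MulAut.conj g * τ * (MulAut.conj g)⁻¹ := by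
    rw [e1, xx, ← mul_assoc, ← map_mul, eq_mul_inv_iff_mul_eq, mul_assoc, τc, ← mul_assoc,
      ← map_mul, hg]
  have e3 : α = c⁻¹ * MulAut.conj g * τ * (c⁻¹ * MulAut.conj g)⁻¹ := by
    rw [show α = c⁻¹ * (c * α * c⁻¹) * c by group, e2]; group
  by_cases r : c⁻¹ * MulAut.conj g ∈ Inn He
  · obtain ⟨j, hj⟩ := r
    exact ⟨j, hj ▸ e3⟩
  · obtain ⟨j, hj⟩ := (mul_mem_iff_of_index_two i2).2 (iff_of_false r outer)
    refine ⟨j, ?_⟩
    rw [hj, e3, mul_inv_rev _ τ, inv_eq_of_mul_eq_one_left ττ, mul_assoc _ τ τ, ττ]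
    group

end

end H49.HeC
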