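import Cfsg.Agent.H50.JXK

/-! JX, job MV: the kernel computations. -/

set_option autoImplicit false

namespace H49.JX

open Matrix H50.JX

def frc (n : ℕ) (f : ℕ → Bool) : Bool := Nat.rec (f 0) (fun k _ => f (Nat.succ k)) n

theorem frc_eq (n : ℕ) (f : ℕ → Bool) : frc n f = f n := by cases n <;> rfl

/-- the upper triangle of a code. -/
def ix (c : ℕ) : ℕ :=
  c >>> 1 % 16 + (c >>> 7 % 8) <<< 4 + (c >>> 13 % 4) <<< 7 + (c >>> 19 % 2) <<< 9

def mvc (k : ℕ) : ℕ :=
  [17043523, 17043649, 17051713, 17567809, 17043490, 17041537, 16916545].getD k 8917057

/-- follow the moves of the table `tb`. -/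
def go (f : ℕ → ℕ → ℕ) (tb : ℕ) (ok : ℕ → Bool) (n : ℕ) : ℕ → Bool :=
  Nat.rec ok (fun _ ih c => ok c || frc (f (mvc (tb >>> (3 * ix c) % 8)) c) ih) n

def tb1 : ℕ := 0x800020800020000000000000000000000000a82020a820208000208000200000000000000000000000048002a48002a0000000000000000000000000000000000000000000000000000000000000000000000000000000000000000000000000000000000000000000000000001860001862281862281860000000000000000000000000001860001860003ae0003ae00000000000060360140160300000000000000400000500400000000000000400100000400000000000001b01d02d01b00000000000000000400100400000000000020120120120100000000000000000400000400000000000002d02d02d02d000000000000007001007007000000000000000000004004000000000000e07e01e07e0700000000000003f03d03f03f0831c20870c20c30c40800c31831861871860801800801840820820871c21c71c41c71c71831861871862ab3a82af3a8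

def tb2 : ℕ := 0x3200600003010080400002000000000000018400080002000000000000000000000000003080080002080010400002000000000000000000000000400002400002400010080002000000000000000000000000080002080002180c00030006000000000000c00180030006000000000000000000000000c00c000060060000000000001801800060060000000000000060300300060000000000000300060300060000000000000300300060060000000000000060060060060d80000006036030000006030000000000000000000000000000000000000000000000006180000000c30c30000000c30000000000000000000000000001f8000e07000e07000e07000000000000000000000000000e380001c70001c70001c7000000000000000000000000000000000000000000000000000000088201000000201201000000a281450000001451456c000000001b01b00000001b000fc000003f00003f00003f0000004800120000000360360000000000246dbfff4b6340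

def g1c : ℕ := 17043537
def g2c : ℕ := 17044041

def cl1 (c : ℕ) : Bool :=
  go (fun m c => mmc (mmc m c) m) tb1 (fun c => Nat.beq c idc || Nat.beq c g1c || Nat.beq c g2c) 6 c

def rk2 (c : ℕ) : Bool := Nat.blt 0 c && go actc tb2 (fun c => Nat.beq c 34) 11 c

def tc (a b c d e f g h i j : Bool) : ℕ :=
  pk (b5 true a b c d) (b5 false true e f g) (b5 false false true h i) (b5 false false false true j)
    (b5 false false false false true)

def ac (a b c d e f g h i j : Bool) : ℕ :=
  pk (b5 false a b c d) (b5 a false e f g) (b5 b e false h i) (b5 c f h false j) (b5 d g i j false)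

def hc (a b c d e f g h i j k l : Bool) : ℕ :=
  pk (b5 a b c d e) (b5 f g h i j) (b5 false false true k l) (b5 false false false a b)
    (b5 false false false f g)

def hOK (g : ℕ) (l : List ℕ) (c : ℕ) : Bool :=
  !Nat.beq (mmc c c) idc || Nat.beq c idc || Nat.beq c g || l.any fun a => frc (actc c a ^^^ a) rk2

def l1 : List ℕ := [1048592, 32776, 2176, 1028, 65792]
def l2 : List ℕ := [1114384, 1028, 2176, 32776, 2097664]

theorem key1 : ∀ a b c d e f g h i j, frc (tc a b c d e f g h i j)
    (fun c => (!Nat.beq (mmc c c) idc || cl1 c) && hOK g1c l1 c) = true := by decide +kernel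

theorem key2 : ∀ a b c d e f g h i j k l, frc (hc a b c d e f g h i j k l) (hOK g2c l2) = true := by
  decide +kernel

def qOK (c : ℕ) : Bool :=
  decide (∀ i j : Fin 5, 2 ≤ i → 2 ≤ j → c.testBit (5 * i + j) = false)

theorem key3 : ∀ a b c d e f g h i j, frc (ac a b c d e f g h i j) (fun c =>
    (!Nat.beq (actc g1c c) c || [idc, 17109057, 17045569, 16847105].any fun m => qOK (actc m c)) &&
    (!Nat.beq (actc g2c c) c || qOK c)) = true := by decide +kernel

end H49.JX
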