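/- Tower KU, job CA: two chambers lie in a common apartment. -/
import Cfsg.Agent.H53.KUSpec

set_option autoImplicit false

namespace H49.KUCA

open Cfsg H59 H53.WU H53.KU Module

section Span

variable {F V : Type} [Field F] [AddCommGroup V] [Module F V] {m : ℕ}

variable (F) in
/-- The flag of a family. -/
def Wf (e : Fin m → V) (k : ℕ) : Submodule F V := Submodule.span F (e '' {i | i.1 < k})

theorem mem_Wf (e : Fin m → V) {i : Fin m} {k : ℕ} (h : i.1 < k) : e i ∈ Wf F e k :=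
  Submodule.subset_span ⟨i, h, rfl⟩

theorem Wf_le {e : Fin m → V} {k : ℕ} {P : Submodule F V} (h : ∀ i : Fin m, i.1 < k → e i ∈ P) :
    Wf F e k ≤ P :=
  Submodule.span_le.2 (by rintro _ ⟨i, hi, rfl⟩; exact h i hi)

theorem Wf_mono (e : Fin m → V) {k l : ℕ} (h : k ≤ l) : Wf F e k ≤ Wf F e l :=
  Wf_le fun _ hi => mem_Wf e (lt_of_lt_of_le hi h)

theorem Wf_succ (e : Fin m → V) (i : Fin m) :
    Submodule.span F {e i} ⊔ Wf F e i.1 = Wf F e (i.1 + 1) := by
  refine le_antisymm (sup_le ?_ (Wf_mono e (Nat.le_succ _))) (Wf_le fun j hj => ?_)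
  · exact (Submodule.span_singleton_le_iff_mem _ _).2 (mem_Wf e (Nat.lt_succ_self _))
  · by_cases h : j = i
    · subst h; exact Submodule.mem_sup_left (Submodule.mem_span_singleton_self _)
    · have : j.1 ≠ i.1 := fun h' => h (Fin.ext h')
      exact Submodule.mem_sup_right (mem_Wf e (by omega))

theorem val_sA (i : Fin (m + 1)) (k : Fin m) :
    (i.succAbove k).1 = if k.1 < i.1 then k.1 else k.1 + 1 := by
  unfold Fin.succAbove
  by_cases h : k.1 < i.1
  · rw [if_pos h, if_pos (by simpa [Fin.lt_def] using h)]; rfl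
  · rw [if_neg h, if_neg (by simpa [Fin.lt_def] using h)]; rfl

variable (F) in
/-- The flag of `e` arises from the flag of `b` by inserting `z` at the place `i`. -/
def Ins (i : Fin (m + 1)) (z : V) (b : Fin m → V) (e : Fin (m + 1) → V) : Prop :=
  (∀ k ≤ i.1, Wf F e k = Wf F b k) ∧
  ∀ k, i.1 ≤ k → Wf F e (k + 1) = Submodule.span F {z} ⊔ Wf F b k

theorem ins_of (i : Fin (m + 1)) (z : V) (b : Fin m → V) (e : Fin (m + 1) → V) (c : Fin m → F)
    (hb : ∀ k, b k = e (i.succAbove k) - c k • z) (hc : ∀ k : Fin m, k.1 < i.1 → c k = 0)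
    (hz : Submodule.span F {z} ⊔ Wf F e i.1 = Wf F e (i.1 + 1)) : Ins F i z b e := by
  have h1 : ∀ k ≤ i.1, Wf F e k = Wf F b k := by
    intro k hk
    refine le_antisymm (Wf_le fun j hj => ?_) (Wf_le fun j hj => ?_)
    · obtain ⟨j', rfl⟩ := Fin.exists_succAbove_eq (x := j) (y := i) (by rintro rfl; omega)
      have hv := val_sA i j'
      have hj' : j'.1 < i.1 := by by_contra hh; rw [if_neg hh] at hv; omega
      rw [if_pos hj'] at hv
      have := mem_Wf (F := F) b (i := j') (k := k) (by omega)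
      rwa [hb, hc _ hj', zero_smul, sub_zero] at this
    · have hv := val_sA i j
      have hj' : j.1 < i.1 := by omega
      rw [if_pos hj'] at hv
      rw [hb, hc _ hj', zero_smul, sub_zero]
      exact mem_Wf e (by omega)
  refine ⟨h1, fun k hk => ?_⟩
  have hz' : z ∈ Wf F e (k + 1) :=
    Wf_mono e (by omega) (hz ▸ Submodule.mem_sup_left (Submodule.mem_span_singleton_self _))
  refine le_antisymm (Wf_le fun j hj => ?_) (sup_le ?_ (Wf_le fun j hj => ?_))
  · by_cases h : j = i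
    · subst h
      have : e j ∈ Submodule.span F {z} ⊔ Wf F e j.1 := hz ▸ mem_Wf e (Nat.lt_succ_self _)
      rw [h1 _ le_rfl] at this
      exact (sup_le_sup_left (Wf_mono (F := F) b hk) (Submodule.span F {z}) :) this
    · obtain ⟨j', rfl⟩ := Fin.exists_succAbove_eq h
      have hv := val_sA i j'
      have hj' : j'.1 < k := by split_ifs at hv <;> omega
      have : e (i.succAbove j') = c j' • z + b j' := by rw [hb]; abel
      rw [this]
      exact Submodule.add_mem_sup (Submodule.smul_mem _ _ (Submodule.mem_span_singleton_self _))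
        (mem_Wf b hj')
  · exact (Submodule.span_singleton_le_iff_mem _ _).2 hz'
  · rw [hb]
    have hv := val_sA i j
    exact Submodule.sub_mem _ (mem_Wf e (by split_ifs at hv <;> omega)) (Submodule.smul_mem _ _ hz')

theorem Ins.eq {i : Fin (m + 1)} {z : V} {b b' : Fin m → V} {e e' : Fin (m + 1) → V}
    (h : Ins F i z b e) (h' : Ins F i z b' e') (hb : ∀ k, Wf F b k = Wf F b' k) (k : ℕ) :
    Wf F e k = Wf F e' k := by
  by_cases hk : k ≤ i.1
  · rw [h.1 k hk, h'.1 k hk, hb]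
  · obtain ⟨k, rfl⟩ : ∃ l, k = l + 1 := ⟨k - 1, by omega⟩
    rw [h.2 k (by omega), h'.2 k (by omega), hb]

end Span

/-- The induction statement: everything happens in `Z^⊥`. -/
def St (S : HS) (m : ℕ) : Prop :=
  ∀ (Z : Submodule S.F S.V) (e e' : Fin m → S.V), Disjoint Z (perp S.B Z) →
    (∀ i, e i ∈ perp S.B Z) → (∀ i, e' i ∈ perp S.B Z) → (∀ i j, S.B (e i) (e j) = 0) →
    (∀ i j, S.B (e' i) (e' j) = 0) → (∀ i, e i ∉ Wf S.F e i.1) →
    (∀ x ∈ Wf S.F e m, (∀ j, S.B x (e' j) = 0) → x ∈ Wf S.F e' m) →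
    ∃ (Ψ : Fr S m) (π : Equiv.Perm (Fin m)) (ε : Fin m → Bool),
      (∀ i, Ψ.e i ∈ perp S.B Z ∧ Ψ.f i ∈ perp S.B Z) ∧ (∀ k, Wf S.F Ψ.e k = Wf S.F e k) ∧
      ∀ k, Wf S.F (Ψ.sw π ε).e k = Wf S.F e' k

/-- The choice of the partner of `x`. -/
theorem choice {S : HS} {m : ℕ} {Z : Submodule S.F S.V} (hZ : Disjoint Z (perp S.B Z))
    {e' : Fin (m + 1) → S.V} (he' : ∀ i, e' i ∈ perp S.B Z) (ti : ∀ i j, S.B (e' i) (e' j) = 0)
    {x : S.V} (hx : x ∈ perp S.B Z) (hxx : S.B x x = 0) (hx0 : x ≠ 0)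
    (hM : (∀ j, S.B x (e' j) = 0) → x ∈ Wf S.F e' (m + 1)) :
    ∃ (i : Fin (m + 1)) (y : S.V) (s : Bool) (c : Fin m → S.F), y ∈ perp S.B Z ∧ S.B x y = 1 ∧
      S.B y y = 0 ∧ (∀ j, S.B (if s then y else x) (e' j) = 0) ∧
      Submodule.span S.F {if s then y else x} ⊔ Wf S.F e' i.1 = Wf S.F e' (i.1 + 1) ∧
      (∀ k : Fin m, k.1 < i.1 → c k = 0) ∧
      ∀ k, S.B x (e' (i.succAbove k) - c k • if s then y else x) = 0 ∧
        S.B y (e' (i.succAbove k) - c k • if s then y else x) = 0 := by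
  classical
  by_cases hA : ∀ j, S.B x (e' j) = 0
  · have hex : ∃ k, x ∈ Wf S.F e' (k + 1) := ⟨m, hM hA⟩
    have hle : Nat.find hex ≤ m := Nat.find_min' hex (hM hA)
    let i : Fin (m + 1) := ⟨Nat.find hex, by omega⟩
    have h1 : x ∈ Wf S.F e' (i.1 + 1) := Nat.find_spec hex
    have h2 : x ∉ Wf S.F e' i.1 := by
      intro hh
      rcases Nat.eq_zero_or_pos i.1 with h0 | h0
      · rw [h0] at hh
        exact hx0 ((Wf_le (P := ⊥) fun j hj => absurd hj (Nat.not_lt_zero _)) hh)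
      · have : i.1 - 1 < Nat.find hex := by change i.1 - 1 < i.1; omega
        exact Nat.find_min hex this (by rwa [Nat.sub_add_cancel h0])
    have hW : Wf S.F e' i.1 ≤ perp S.B Z := Wf_le fun j _ => he' j
    have h3 : x ∉ Wf S.F e' i.1 ⊔ Z := by
      intro hh
      obtain ⟨w, hw, v, hv, hwv⟩ := Submodule.mem_sup.1 hh
      have hv' : v ∈ perp S.B Z := by
        rw [eq_sub_of_add_eq' hwv]; exact Submodule.sub_mem _ hx (hW hw)
      rw [Submodule.disjoint_def.1 hZ v hv hv', add_zero] at hwv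
      exact h2 (hwv ▸ hw)
    have h4 : x ∈ perp S.B (Wf S.F e' i.1 ⊔ Z) := by
      rw [perp_sup]
      refine ⟨mem_perp_span.2 ?_, hx⟩
      rintro _ ⟨j, -, rfl⟩
      exact S.h.eq_zero_comm.1 (hA j)
    obtain ⟨y, hy, hxy, hyy⟩ := S.h.exists_partner_perp hxx h3 h4
    rw [perp_sup] at hy
    have hyx : S.B y x = 1 := by rw [← S.h.symm, hxy, map_one]
    refine ⟨i, y, false, fun k => S.B y (e' (i.succAbove k)), hy.2, hxy, hyy, hA, ?_, fun k hk => ?_,
      fun k => ⟨by simp [hA, hxx], by simp [hyx]⟩⟩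
    · simp only [Bool.false_eq_true, if_false]
      refine le_antisymm (sup_le ((Submodule.span_singleton_le_iff_mem _ _).2 h1)
        (Wf_mono e' (Nat.le_succ _))) ?_
      rw [← Wf_succ] at h1 ⊢
      refine sup_le ((Submodule.span_singleton_le_iff_mem _ _).2 ?_) le_sup_right
      obtain ⟨u, hu, w, hw, huw⟩ := Submodule.mem_sup.1 h1
      obtain ⟨a, rfl⟩ := Submodule.mem_span_singleton.1 hu
      have ha : a ≠ 0 := by
        rintro rfl
        rw [zero_smul, zero_add] at huw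
        exact h2 (huw ▸ hw)
      have : e' i = a⁻¹ • x + -(a⁻¹ • w) := by
        rw [← huw, smul_add, smul_smul, inv_mul_cancel₀ ha, one_smul]; abel
      rw [this]
      exact Submodule.add_mem_sup (Submodule.smul_mem _ _ (Submodule.mem_span_singleton_self _))
        (Submodule.neg_mem _ (Submodule.smul_mem _ _ hw))
    · refine S.h.eq_zero_comm.1 (hy.1 _ (mem_Wf e' ?_))
      rw [val_sA, if_pos hk]; exact hk
  · push Not at hA
    obtain ⟨i, hi, hmin⟩ := (Finset.univ.filter fun j => S.B x (e' j) ≠ 0).exists_min_image id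
      (by obtain ⟨j, hj⟩ := hA; exact ⟨j, by simpa using hj⟩)
    simp only [Finset.mem_filter, Finset.mem_univ, true_and, id] at hi hmin
    have hxy : S.B x ((S.B x (e' i))⁻¹ • e' i) = 1 := by simp [hi]
    have hye : ∀ j, S.B ((S.B x (e' i))⁻¹ • e' i) (e' j) = 0 := fun j => by
      rw [form_smul_left, ti, mul_zero]
    have hyy : S.B ((S.B x (e' i))⁻¹ • e' i) ((S.B x (e' i))⁻¹ • e' i) = 0 := by
      rw [form_smul_right, hye, mul_zero]
    refine ⟨i, (S.B x (e' i))⁻¹ • e' i, true, fun k => S.B x (e' (i.succAbove k)),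
      Submodule.smul_mem _ _ (he' i), hxy, hyy, hye, ?_, fun k hk => ?_, fun k => ⟨?_, ?_⟩⟩
    · simp only [if_true]
      rw [Submodule.span_singleton_smul_eq (IsUnit.mk0 _ (inv_ne_zero hi)), Wf_succ]
    · by_contra hh
      have := Fin.le_def.1 (hmin _ hh)
      rw [val_sA, if_pos hk] at this
      omega
    · simp only [if_true]
      rw [map_sub, form_smul_right, hxy, mul_one, sub_self]
    · simp only [if_true]
      rw [map_sub, form_smul_right, hye, hyy, mul_zero, sub_self]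

/-- A frame with one more pair. -/
def cons {S : HS} {m : ℕ} (x y : S.V) (Ψ : Fr S m) (hxx : S.B x x = 0) (hyy : S.B y y = 0)
    (hxy : S.B x y = 1)
    (h : ∀ i, (S.B x (Ψ.e i) = 0 ∧ S.B y (Ψ.e i) = 0) ∧ S.B x (Ψ.f i) = 0 ∧ S.B y (Ψ.f i) = 0) :
    Fr S (m + 1) where
  e := Fin.cons x Ψ.e
  f := Fin.cons y Ψ.f
  ee i j := by
    refine Fin.cases ?_ (fun i => ?_) i <;> refine Fin.cases ?_ (fun j => ?_) j <;>
      simp only [Fin.cons_zero, Fin.cons_succ]
    exacts [hxx, (h j).1.1, S.h.eq_zero_comm.1 (h i).1.1, Ψ.ee i j]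
  ff i j := by
    refine Fin.cases ?_ (fun i => ?_) i <;> refine Fin.cases ?_ (fun j => ?_) j <;>
      simp only [Fin.cons_zero, Fin.cons_succ]
    exacts [hyy, (h j).2.2, S.h.eq_zero_comm.1 (h i).2.2, Ψ.ff i j]
  ef i j := by
    refine Fin.cases ?_ (fun i => ?_) i <;> refine Fin.cases ?_ (fun j => ?_) j <;>
      simp only [Fin.cons_zero, Fin.cons_succ]
    · simp [hxy]
    · rw [if_neg (Fin.succ_ne_zero j).symm, (h j).2.1]
    · rw [if_neg (Fin.succ_ne_zero i), S.h.eq_zero_comm.1 (h i).1.2]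
    · simp [Ψ.ef]

theorem st (S : HS) (m : ℕ) : St S m := by
  induction m with
  | zero =>
    intro Z e e' _ _ _ _ _ _ _
    refine ⟨⟨e, e, fun i => i.elim0, fun i => i.elim0, fun i => i.elim0⟩, 1, fun i => i.elim0,
      fun i => i.elim0, fun _ => rfl, fun k => ?_⟩
    congr 1
    exact funext fun i => i.elim0
  | succ m ih =>
    intro Z e e' hZ he he' ti ti' hI hM
    have hx0 : e 0 ≠ 0 := fun h => hI 0 (h ▸ Submodule.zero_mem _)
    obtain ⟨i, y, s, c, hy, hxy, hyy, hze, hz, hc, hb'⟩ := choice hZ he' ti' (he 0) (ti 0 0) hx0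
      (hM _ (mem_Wf e (Nat.succ_pos m)))
    have hyx : S.B y (e 0) = 1 := by rw [← S.h.symm, hxy, map_one]
    obtain ⟨z, hzd⟩ : ∃ z, z = if s then y else e 0 := ⟨_, rfl⟩
    rw [← hzd] at hze hz hb'
    have hzZ : z ∈ perp S.B Z := by rw [hzd]; split_ifs; exacts [hy, he 0]
    have hzz : S.B z z = 0 := by rw [hzd]; split_ifs; exacts [hyy, ti 0 0]
    let b : Fin m → S.V := fun k => e k.succ - S.B y (e k.succ) • e 0
    let b' : Fin m → S.V := fun k => e' (i.succAbove k) - c k • z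
    have I1 : Ins S.F 0 (e 0) b e :=
      ins_of 0 (e 0) b e (fun k => S.B y (e k.succ)) (fun k => rfl)
        (fun k hk => absurd hk (Nat.not_lt_zero _)) (Wf_succ e 0)
    have I2 : Ins S.F i z b' e' := ins_of i z b' e' c (fun k => rfl) hc hz
    have hP : ∀ v, v ∈ perp S.B (Z ⊔ Submodule.span S.F {e 0, y}) ↔
        v ∈ perp S.B Z ∧ S.B (e 0) v = 0 ∧ S.B y v = 0 := fun v => by
      rw [perp_sup, Submodule.mem_inf, mem_perp_pair]
    have hbP : ∀ k, b k ∈ perp S.B (Z ⊔ Submodule.span S.F {e 0, y}) := fun k =>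
      (hP _).2 ⟨Submodule.sub_mem _ (he _) (Submodule.smul_mem _ _ (he 0)), by simp [b, ti],
        by simp [b, hyx]⟩
    have hb'P : ∀ k, b' k ∈ perp S.B (Z ⊔ Submodule.span S.F {e 0, y}) := fun k =>
      (hP _).2 ⟨Submodule.sub_mem _ (he' _) (Submodule.smul_mem _ _ hzZ), hb' k⟩
    refine Exists.elim (ih (Z ⊔ Submodule.span S.F {e 0, y}) b b' ?_ hbP hb'P ?_ ?_ ?_ ?_) ?_
    rotate_right
    · rintro Ψ ⟨π, ε, hΨ, h1, h2⟩
      have hΨ' := fun i => And.intro ((hP _).1 (hΨ i).1).2 ((hP _).1 (hΨ i).2).2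
      let π' : Equiv.Perm (Fin (m + 1)) :=
        (finSuccEquiv' i).trans ((Equiv.optionCongr π).trans (finSuccEquiv' 0).symm)
      have p1 : π' i = 0 := by simp [π']
      have p2 : ∀ k, π' (i.succAbove k) = (π k).succ := fun k => by simp [π']
      obtain ⟨Ψ', q0, q0', qs, qs'⟩ : ∃ Ψ' : Fr S (m + 1), Ψ'.e 0 = e 0 ∧ Ψ'.f 0 = y ∧
          (∀ k, Ψ'.e k.succ = Ψ.e k) ∧ ∀ k, Ψ'.f k.succ = Ψ.f k :=
        ⟨cons (e 0) y Ψ (ti 0 0) hyy hxy hΨ', rfl, rfl, fun _ => rfl, fun _ => rfl⟩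
      refine ⟨Ψ', π', i.insertNth s ε, fun j => ?_, ?_, ?_⟩
      · refine Fin.cases ⟨q0 ▸ he 0, q0' ▸ hy⟩ (fun j => ?_) j
        rw [qs, qs']
        exact ⟨((hP _).1 (hΨ j).1).1, ((hP _).1 (hΨ j).2).1⟩
      · refine Ins.eq (ins_of 0 (e 0) Ψ.e Ψ'.e 0 (fun k => ?_) (fun _ _ => rfl) ?_) I1 h1
        · simp [qs]
        · rw [← q0]; exact Wf_succ Ψ'.e 0
      · have q1 : (Ψ'.sw π' (i.insertNth s ε)).e i = z := by
          simp [Fr.sw, p1, hzd, q0, q0']
        refine Ins.eq (ins_of i z (Ψ.sw π ε).e (Ψ'.sw π' (i.insertNth s ε)).e 0 (fun k => ?_)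
          (fun _ _ => rfl) ?_) I2 h2
        · simp [Fr.sw, p2, qs, qs']
        · rw [← q1]; exact Wf_succ _ i
    · refine Submodule.disjoint_def.2 fun v hv hv' => ?_
      obtain ⟨u, hu, w, hw, rfl⟩ := Submodule.mem_sup.1 hv
      obtain ⟨a, a', rfl⟩ := Submodule.mem_span_pair.1 hw
      obtain ⟨h1, h2, h3⟩ := (hP _).1 hv'
      have x1 : S.B (e 0) u = 0 := S.h.eq_zero_comm.1 (he 0 u hu)
      have x2 : S.B y u = 0 := S.h.eq_zero_comm.1 (hy u hu)
      simp only [map_add, map_smul, smul_eq_mul, x1, x2, ti, hxy, hyx, hyy, mul_zero, mul_one,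
        zero_add, add_zero] at h2 h3
      subst h2 h3
      simp only [zero_smul, add_zero] at h1 ⊢
      exact Submodule.disjoint_def.1 hZ u hu h1
    · intro j k
      simp [b, ti]
    · intro j k
      simp [b', ti', hze, hzz, S.h.eq_zero_comm.1 (hze _)]
    · intro k hk
      refine hI k.succ ?_
      have : e k.succ = S.B y (e k.succ) • e 0 + b k := by simp [b]
      rw [this, Fin.val_succ, I1.2 k (Nat.zero_le _)]
      exact Submodule.add_mem_sup (Submodule.smul_mem _ _ (Submodule.mem_span_singleton_self _)) hk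
    · intro v hv hv'
      obtain ⟨-, v1, v2⟩ := (hP v).1 (Wf_le (fun k _ => hbP k) hv)
      have hzv : S.B v z = 0 := by
        rw [hzd]; split_ifs; exacts [S.h.eq_zero_comm.1 v2, S.h.eq_zero_comm.1 v1]
      have hv1 : v ∈ Wf S.F e' (m + 1) := by
        refine hM v (by rw [I1.2 m (Nat.zero_le _)]; exact Submodule.mem_sup_right hv) fun j => ?_
        have hj : e' j ∈ Wf S.F e' (m + 1) := mem_Wf e' j.2
        rw [I2.2 m (Nat.lt_succ_iff.1 i.2)] at hj
        have hle : Submodule.span S.F {z} ⊔ Wf S.F b' m ≤ LinearMap.ker (S.B v) :=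
          sup_le ((Submodule.span_singleton_le_iff_mem _ _).2 hzv) (Wf_le fun k _ => hv' k)
        exact hle hj
      rw [I2.2 m (Nat.lt_succ_iff.1 i.2)] at hv1
      obtain ⟨u, hu, w, hw, rfl⟩ := Submodule.mem_sup.1 hv1
      obtain ⟨a, rfl⟩ := Submodule.mem_span_singleton.1 hu
      obtain ⟨-, w1, w2⟩ := (hP w).1 (Wf_le (fun k _ => hb'P k) hw)
      have ha : a = 0 := by
        cases s
        · simpa [hzd, hyx, w2] using v2
        · simpa [hzd, hxy, w1] using v1
      simpa [ha] using hw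

theorem e_not_mem {S : HS} {m : ℕ} (Φ : Fr S m) (i : Fin m) : Φ.e i ∉ Φ.W i.1 := fun h => by
  simpa [Φ.fe] using Φ.f_W le_rfl h

/-- The span of a full frame is a maximal totally isotropic subspace. -/
theorem maxi {S : HS} {m : ℕ} (Φ : Fr S m) (hm : S.n / 2 = m) {x : S.V} (hx : S.B x x = 0)
    (h : ∀ j, S.B x (Φ.e j) = 0) : x ∈ Φ.W m := by
  by_contra hx'
  have li : LinearIndependent S.F Φ.e := by
    refine Fintype.linearIndependent_iff.2 fun g hg i => ?_
    have := congrArg (S.B (Φ.f i)) hg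
    simpa [Φ.fe, map_sum] using this
  have hr : Set.range Φ.e = Φ.e '' {i | i.1 < m} := by
    rw [← Set.image_univ]; congr 1; ext i; simp
  have li' : LinearIndependent S.F (Fin.cons x Φ.e : Fin (m + 1) → S.V) :=
    linearIndependent_finCons.2 ⟨li, by rw [hr]; exact hx'⟩
  have h1 := finrank_span_eq_card li'
  have h2 := S.h.finrank_add_finrank_perp
    (Submodule.span S.F (Set.range (Fin.cons x Φ.e : Fin (m + 1) → S.V)))
  have h3 : Submodule.span S.F (Set.range (Fin.cons x Φ.e : Fin (m + 1) → S.V)) ≤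
      perp S.B (Submodule.span S.F (Set.range (Fin.cons x Φ.e : Fin (m + 1) → S.V))) := by
    refine Submodule.span_le.2 ?_
    rintro _ ⟨j, rfl⟩
    refine mem_perp_span.2 ?_
    rintro _ ⟨i, rfl⟩
    refine Fin.cases ?_ (fun i => ?_) i <;> refine Fin.cases ?_ (fun j => ?_) j <;>
      simp only [Fin.cons_zero, Fin.cons_succ]
    exacts [hx, h j, S.h.eq_zero_comm.1 (h i), Φ.ee i j]
  have h4 := Submodule.finrank_mono h3
  have h5 : S.n = finrank S.F S.V := rfl
  rw [Fintype.card_fin] at h1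
  omega

theorem jobCA' : JobCA := by
  intro m S Φ Φ' hm
  obtain ⟨Ψ, π, ε, -, h1, h2⟩ := st S m ⊥ Φ.e Φ'.e disjoint_bot_left (fun i x hx => by simp_all)
    (fun i x hx => by simp_all) Φ.ee Φ'.ee (e_not_mem Φ) fun x hx h => maxi Φ' hm (by
      refine (Wf_le (P := LinearMap.ker (S.B x)) fun i _ => ?_) hx
      exact S.h.eq_zero_comm.1 (Φ.e_W i hx)) h
  exact ⟨Ψ, π, ε, h1, h2⟩

theorem jobCA : JobFrm → JobCA := fun _ => jobCA'

end H49.KUCA
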