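import Cfsg.Agent.H49.NWWr

/-! DZ, branches NE and WA: `t ∉ X`; the end of the narrow case. -/

set_option autoImplicit false
set_option linter.unusedSectionVars false

namespace H49.NW

open Subgroup Cfsg H14 H98 H1.Gold H31.S2 H85.FZ H49.D8 H85.DZ

universe u

variable {G : Type u} [Group G] [Finite G] {t v s u a σ ρ g d e j y n : G} {x : ℕ → G}
  {Z S X Y K : Subgroup G} {p q : D4}

def Z4 : List (List ℕ) := [[], [3], [1, 0], [3, 1, 0]]

theorem keyD : ∀ b, ∀ w ∈ subs 6,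
    ((∀ r ∈ [2, 4, 5], (tbD b).eqv (r :: w) (w ++ [r]) = true) → w ∈ Z4) ∧
    ((tbD b).eqv (w ++ w) [] = true → (∀ r ∈ [2, 4, 5], ∀ r' ∈ [2, 4, 5],
      (tbD b).eqv (r :: w) (w ++ [r]) = true ∨ (tbD b).eqv (r' :: w) (w ++ [r']) = true ∨
      (tbD b).eqv (r :: r' :: w) (w ++ [r, r']) = true) → w ∈ ZW) ∧
    ((tbD b).eqv (w ++ w ++ (w ++ w)) [] = true → ∃ c ∈ Z4, (tbD b).same (w ++ w) c = true) := by
  decide +kernel

theorem allD : ∀ r : D4,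
    r ∈ [1, pt, pa, pt * pa, pa * pt, pt * pa * pt, pa * pt * pa, pt * pa * (pt * pa)] := by
  decide +kernel

theorem of_Z4 {w : List ℕ} (hw : w ∈ Z4) (e : y = W (val [a, u, v, t, s, d]) w) :
    y = 1 ∨ y = t ∨ y = u * a ∨ y = t * (u * a) := by
  simp only [Z4, List.mem_cons, List.not_mem_nil, or_false] at hw
  rcases hw with rfl | rfl | rfl | rfl <;> simp [e]

namespace Wr

variable (h : Wr t v s u a σ ρ x Z)
include h

theorem fin (k : ∀ i < 2, g⁻¹ * x i * g = 1 ∨ g⁻¹ * x i * g = t ∨ g⁻¹ * x i * g = u * a ∨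
    g⁻¹ * x i * g = t * (u * a)) : False := by
  have nD : ∀ y ∈ H x 2, g⁻¹ * y * g ≠ t := fun y hy e => h.noD y (mem_sup_left (h.ΦZ hy))
    (isConj_iff.2 ⟨g, by rw [← e]; group⟩)
  have k' : ∀ i < 2, g⁻¹ * x i * g = u * a ∨ g⁻¹ * x i * g = t * (u * a) := fun i hi =>
    ((k i hi).resolve_left fun e => h.zs.ne (w := [i]) (w' := []) (by interval_cases i <;> rfl)
      (by simpa [mul_assoc] using congrArg (fun r => g * r * g⁻¹) e)).resolve_left (nD _ (x_mem hi))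
  have ne : g⁻¹ * x 0 * g ≠ g⁻¹ * x 1 * g := fun e =>
    h.zs.ne (w := [0]) (w' := [1]) rfl (by simpa using e)
  refine nD _ (mul_mem (x_mem (show 0 < 2 by decide)) (x_mem (show 1 < 2 by decide))) ?_
  rw [show g⁻¹ * (x 0 * x 1) * g = g⁻¹ * x 0 * g * (g⁻¹ * x 1 * g) by group]
  rcases k' 0 (by decide) with e | e <;> rcases k' 1 (by decide) with e' | e'
  · exact absurd (e.trans e'.symm) ne
  · rw [e, e']
    simpa [mul_assoc] using h.toTr.pres.W_eq (w := [1, 0, 3, 1, 0]) (w' := [3]) rfl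
  · rw [e, e']
    simpa [mul_assoc] using h.toTr.pres.W_eq (w := [3, 1, 0, 1, 0]) (w' := [3]) rfl
  · exact absurd (e.trans e'.symm) ne

theorem DX (hX : AS X t) : H x 6 ≤ X := by
  have k : ∀ i < 2, x i ∈ X := fun i hi => h.zs.zsq i hi ▸ (as_mul hX h.tt _ _).2 Iff.rfl
  have k' : ∀ i < 4, x (i + 2) ∈ X := fun i hi => (as_conj hX (h.fz i hi)).1 (k _ (by omega))
  exact H_le fun i hi => by
    interval_cases i
    exacts [k 0 (by decide), k 1 (by decide), k' 0 (by decide), k' 1 (by decide), k' 2 (by decide),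
      k' 3 (by decide)]

variable (hS : IsSyl 2 S ⊤) (o : Ov t x Z S)
include hS o

theorem exD (hj : j ∈ S) (k : Pi x Z j p) (c : p = pc ∨ p = pt') {w : G} (hw : w ∈ Z ⊔ H x 6)
    (e : j * t * j⁻¹ = w * t * w⁻¹) : ∃ d ∈ S, Pi x Z d pc ∧ d * t = t * d := by
  have k' := h.zs.pmul (h.zs.pone (inv_mem hw)) k
  have m := mul_mem (inv_mem (o.U hw)) hj
  have e' := mul_inv_eq_iff_eq_mul.1 (adj e)
  rcases c with rfl | rfl
  exacts [⟨_, m, k', e'⟩, ⟨_, mul_mem o.tS m, h.zs.pmul h.tP k', by rw [mul_assoc, e']⟩]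

theorem notP (hd : d ∈ Z ⊔ H x 6 ⊔ zpowers t) (k : Pi x Z d pc) : False :=
  (h.memP hd).elim (fun e => absurd (h.zs.uniq k (h.zs.pone e)) (by decide)) fun e =>
    absurd (h.zs.uniq (h.zs.pmul h.tP k) (h.zs.pone e)) (by decide)

theorem notT (hT : IsSyl 2 (cl [a, u, v, t, s]) (cen1 t)) (hd : d ∈ S) (k : Pi x Z d pc)
    (c : d * t = t * d) : False :=
  h.notP hS o (h.TP ((hT.eq_of_le (o.two.to_le (inf_le_left (b := cen1 t)))
    (le_inf (h.TP.trans o.ge) hT.le) inf_le_right).le ⟨hd, mem_cen1.2 c⟩)) k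

theorem mu : Mu S (· ∈ cen1 (x 0)) := fun b hb c hc => by
  obtain ⟨p, k⟩ := h.zs.exP (o.le hb)
  obtain ⟨q, k'⟩ := h.zs.exP (o.le hc)
  simp only [h.cen0 (h.zs.pmul k k'), h.cen0 k, h.cen0 k']
  exact (by decide +kernel : ∀ p q : D4, lp (p * q) 0 = 0 ↔ (lp p 0 = 0 ↔ lp q 0 = 0)) p q

theorem piD (hy : y ∈ S) (c : IsConj t y) (m : y ∈ cen1 (x 0)) :
    ∃ p, Pi x Z y p ∧ (p = pc ∨ p = pa ∨ p = pa') := by
  obtain ⟨p, k⟩ := h.zs.exP (o.le hy)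
  exact ⟨p, k, (by decide +kernel : ∀ p : D4, lp p 0 = 0 → p ≠ 1 → p = pc ∨ p = pa ∨ p = pa') p
    ((h.cen0 k).1 m) fun e => h.noD y (h.ker o hy (e ▸ k)) c⟩

theorem tX (hX : AS X t) (hc : (∀ g ∈ nor (cl [a, u, v, t]), g * t * g⁻¹ ≠ t * a) ∨
    ∀ y ∈ S, IsConj t y → ¬ Pi x Z y pc) : t ∉ X := by
  rcases h.top with hT | ⟨d, k⟩
  · refine tr_out hX hS (h.mu hS o) h.tt h.isPGroup (mem_cl (by simp)) hT.le fun g le m => ?_
    have hy := le (conj_mem_cj (mem_cl (y := t) (by simp)))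
    obtain ⟨p, kp, c⟩ := h.piD hS o hy (isConj_iff.2 ⟨g, rfl⟩) m
    obtain ⟨j, hj, jj, q, kq, c⟩ : ∃ j ∈ S, j * j = 1 ∧ ∃ q, Pi x Z j q ∧ (q = pc ∨ q = pt') := by
      rcases c with rfl | c
      exacts [⟨_, hy, conj_sq h.tt, _, kp, Or.inl rfl⟩, ⟨_, mul_mem (mul_mem hy o.tS) (inv_mem hy),
        conj_sq h.tt, _, h.zs.pcj kp h.tP, Or.inr (by rcases c with rfl | rfl <;> decide)⟩]
    obtain ⟨w, hw, e⟩ := h.exd hS o hj jj kq c
    obtain ⟨d, hd, kd, e⟩ := h.exD hS o hj kq c hw e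
    exact h.notT hS o hT hd kd e
  refine tr_out hX hS (h.mu hS o) h.tt k.syl.isPGroup (mem_cl (by simp)) k.syl.le fun g le m => ?_
  have hy := le (conj_mem_cj (mem_cl (y := t) (by simp)))
  have cy : IsConj t (g * t * g⁻¹) := isConj_iff.2 ⟨g, rfl⟩
  obtain ⟨p, kp, c⟩ := h.piD hS o hy cy m
  have yΦ := h.cenΦ kp ((h.cen0 kp).1 m)
  have e0 := (k.syl.cj g).eq_of_le (Q := S ⊓ cen1 (g * t * g⁻¹)) (o.two.to_le inf_le_left)
    (le_inf le (cj_cen1 g t ▸ cj_mono g k.syl.le)) (cj_cen1 g t ▸ inf_le_right)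
  obtain ⟨b, P, -⟩ := k.pres h.toTr
  have I := k.ind h.toTr
  have ex : ∀ i < 2, ∃ w ∈ subs 6, g⁻¹ * x i * g = W (val [a, u, v, t, s, d]) w := fun i hi =>
    P.mem_cl (by cases b <;> rfl) 6 le_rfl (mem_cj.1 (e0.le ⟨o.U (mem_sup_left (h.ΦZ (x_mem hi))),
      mem_cen1.2 (mem_cen_iff.1 yΦ _ (x_mem hi)).symm⟩))
  have pi : ∀ c : List ℕ, c.all (· < 6) = true → ∃ q, Pi x Z (g * W (val [a, u, v, t, s, d]) c * g⁻¹) q ∧
      q * p = p * q := fun c hc => by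
    have m := e0.ge (conj_mem_cj (W_mem_cl [a, u, v, t, s, d] 6 hc))
    obtain ⟨q, kq⟩ := h.zs.exP (o.le m.1)
    exact ⟨q, kq, h.zs.uniq (h.zs.pmul kq kp) (mem_cen1.1 m.2 ▸ h.zs.pmul kp kq)⟩
  have cm : ∀ {c w : List ℕ} {q : D4} {i : ℕ}, i < 2 → g⁻¹ * x i * g = W (val [a, u, v, t, s, d]) w →
      Pi x Z (g * W (val [a, u, v, t, s, d]) c * g⁻¹) q → lp q 0 = 0 →
      (tbD b).eqv (c ++ w) (w ++ c) = true := fun hi e kq c => P.eqv I (by
    have := mem_cen_iff.1 (h.cenΦ kq c) _ (x_mem hi)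
    rw [W_append, W_append, ← e]
    simpa [mul_assoc] using congrArg (fun r => g⁻¹ * r * g) this)
  have l3 : ∀ r ∈ [2, 4, 5], r < 6 := by decide
  rcases c with rfl | c
  swap
  · refine h.fin (g := g) fun i hi => ?_
    obtain ⟨w, hw, e⟩ := ex i hi
    refine of_Z4 ((keyD b w hw).1 fun r hr => ?_) e
    obtain ⟨q, kq, e'⟩ := pi [r] (by simpa using l3 r hr)
    exact cm hi e kq ((by decide +kernel : ∀ q p : D4, (p = pa ∨ p = pa') → q * p = p * q →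
      lp q 0 = 0) q p c e')
  have nar := hc.resolve_right fun hc => hc _ hy cy kp
  have zw : ∀ i < 2, ∃ w ∈ ZW, g⁻¹ * x i * g = W (val [a, u, v, t, s, d]) w := fun i hi => by
    obtain ⟨w, hw, e⟩ := ex i hi
    refine ⟨w, (keyD b w hw).2.1 (P.eqv I ?_) fun r hr r' hr' => ?_, e⟩
    · rw [W_append, ← e]
      simpa using conj_sq (g := g⁻¹) (h.Z2 _ (h.ΦZ (x_mem hi)))
    obtain ⟨q, kq, -⟩ := pi [r] (by simpa using l3 r hr)
    obtain ⟨q', kq', -⟩ := pi [r'] (by simpa using l3 r' hr')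
    refine ((by decide +kernel : ∀ q q' : D4, lp q 0 = 0 ∨ lp q' 0 = 0 ∨ lp (q * q') 0 = 0) q q').imp
      (cm hi e kq) (Or.imp (cm hi e kq') (cm (c := [r, r']) hi e ?_))
    simpa [mul_assoc] using h.zs.pmul kq kq'
  obtain ⟨w0, m0, e0⟩ := zw 0 (by decide)
  obtain ⟨w1, m1, e1⟩ := zw 1 (by decide)
  obtain ⟨r0, r1, -⟩ := h.invc hS o kp (conj_sq h.tt)
  have cj : ∀ c c' : List ℕ, c.all (· < 6) = true → c'.all (· < 2) = true →
      g * t * g⁻¹ * W x c * (g * t * g⁻¹)⁻¹ = W x (c ++ c') → IsConj t (g⁻¹ * W x c' * g * t) :=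
    fun c c' _ _ e => isConj_iff.2 ⟨g⁻¹ * (W x c)⁻¹ * g, by
      rw [W_append] at e
      rw [← inv_mul_cancel_left (W x c) (W x c'), ← e]; group⟩
  have c0 := cj [2, 4] [0] rfl rfl r0
  have c1 := cj [3, 5] [1] rfl rfl r1
  have c2 := cj [2, 4, 3, 5] [0, 1] rfl rfl (by
    rw [show W x [2, 4, 3, 5] = W x [2, 4] * W x [3, 5] from W_append x [2, 4] [3, 5], ← conj_mul, r0, r1,
      ← W_append]
    exact h.pres.W_eq rfl)
  have cw : ∀ w ∈ [w0, w1, w0 ++ w1], IsConj t (W (val [a, u, v, t, s, d]) (w ++ [3])) := fun w hw => by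
    simp only [List.mem_cons, List.not_mem_nil, or_false] at hw
    rcases hw with rfl | rfl | rfl <;> simp only [W_append, ← e0, ← e1]
    exacts [by simpa using c0, by simpa using c1, by simpa [mul_assoc] using c2]
  have nD : ∀ c ∈ subs 2, ¬ IsConj t (W (val [a, u, v, t, s, d]) c) := fun c hc =>
    h.toBase.notD (cl_mono (l := [a, u]) (by simp) (W_mem_cl [a, u, v, t, s, d] 2 (subs_lt hc)))
  have ne : ∀ {w w' c c' : List ℕ}, g⁻¹ * W x c * g = W (val [a, u, v, t, s, d]) w →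
      g⁻¹ * W x c' * g = W (val [a, u, v, t, s, d]) w' → tbR.eqv c c' = false →
      (tbD b).same w w' = false := fun k1 k2 k3 => Bool.eq_false_iff.2 fun e =>
    h.zs.ne k3 (by simpa using k1.trans ((P.W_eq e).trans k2.symm))
  obtain ⟨w, hw, e⟩ := (by decide +kernel : ∀ b, ∀ w0 ∈ ZW, ∀ w1 ∈ ZW, (∀ w ∈ [w0, w1, w0 ++ w1],
      ∀ c ∈ subs 2, (tbD b).same (w ++ [3]) c = false) → (tbD b).same w0 [] = false →
      (tbD b).same w1 [] = false → (tbD b).same w0 w1 = false →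
      ∃ w ∈ [w0, w1, w0 ++ w1], (tbD b).same (w ++ [3]) [3, 0] = true) b w0 m0 w1 m1
    (fun w hw c hc => Bool.eq_false_iff.2 fun e => nD c hc (P.W_eq e ▸ cw w hw))
    (ne (c := [0]) (c' := []) (by simpa using e0) (by simp) rfl)
    (ne (c := [1]) (c' := []) (by simpa using e1) (by simp) rfl)
    (ne (c := [0]) (c' := [1]) (by simpa using e0) (by simpa using e1) rfl)
  obtain ⟨n, hn, e⟩ := h.toLoc.burn (x := t * a) (by have := cw w hw; rw [P.W_eq e] at this; simpa using this)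
    (le_cen1_iff.2 (by simpa using h.toTr.zw_mem (w := [3, 0]) (by decide)))
  by_cases n0 : n ∈ N0 t v s u a
  · exact nar n n0.1.2 e
  · refine nar _ (H85.DZ.mul_N0 h.toTr hn k.norT n0 fun e => k.not_norA h.toTr e.1.2).1.2 ?_
    rw [← e, ← k.dt]
    conv_lhs => rw [k.dt]
    group

theorem leK (YS : Y ≤ S) (hU : ∀ g ∈ Y, g ∈ Z ⊔ H x 6 → g ∈ K) {y y' : G} (hy : y ∈ Y ⊓ K)
    (hy' : y' ∈ Y ⊓ K) (k : Pi x Z y p) (k' : Pi x Z y' q) (hp : ∀ g ∈ Y, ∀ r, Pi x Z g r →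
      r ∈ [1, p, q, p * q, q * p, p * q * p, q * p * q, p * q * (p * q)]) : Y ≤ K := fun g hg => by
  obtain ⟨r, kr⟩ := h.zs.exP (o.le (YS hg))
  have f : ∀ c ∈ Y ⊓ K, Pi x Z c r → g ∈ K := fun c hc kc => (K.mul_mem_cancel_left (K.inv_mem hc.2)).1
    (hU _ (mul_mem (inv_mem hc.1) hg) (h.ker2 o (YS hg) (YS hc.1) kr kc))
  have := hp g hg r kr
  simp only [List.mem_cons, List.not_mem_nil, or_false] at this
  have m := h.zs.pmul k k'
  have m' := h.zs.pmul k' k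
  rcases this with rfl | rfl | rfl | rfl | rfl | rfl | rfl | rfl
  exacts [f 1 (one_mem _) (h.zs.pone (one_mem _)), f _ hy k, f _ hy' k', f _ (mul_mem hy hy') m,
    f _ (mul_mem hy' hy) m', f _ (mul_mem (mul_mem hy hy') hy) (h.zs.pmul m k),
    f _ (mul_mem (mul_mem hy' hy) hy') (h.zs.pmul m' k'),
    f _ (mul_mem (mul_mem hy hy') (mul_mem hy hy')) (h.zs.pmul m m)]

theorem noa (hn : ¬ ∃ n ∈ S, Pi x Z n pa) (hg : g ∈ S) (k : Pi x Z g p) :
    p = 1 ∨ p = pt ∨ p = pc ∨ p = pt' := by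
  rcases (by decide +kernel : ∀ p : D4, (p = 1 ∨ p = pt ∨ p = pc ∨ p = pt') ∨ p = pa ∨
    pt * p * pt⁻¹ = pa ∨ pt * p = pa ∨ p * pt = pa) p with e | e | e | e | e
  exacts [e, absurd ⟨_, hg, e ▸ k⟩ hn,
    absurd ⟨_, mul_mem (mul_mem o.tS hg) (inv_mem o.tS), e ▸ h.zs.pcj h.tP k⟩ hn,
    absurd ⟨_, mul_mem o.tS hg, e ▸ h.zs.pmul h.tP k⟩ hn,
    absurd ⟨_, mul_mem hg o.tS, e ▸ h.zs.pmul k h.tP⟩ hn]

theorem notc (hg : g ∈ Z ⊔ H x 6) (k : Pi x Z y pc) : g * y ∉ Z ⊔ H x 6 := fun e =>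
  absurd (h.zs.uniq (h.zs.pmul (h.zs.pone hg) k) (h.zs.pone e)) (by decide)

end Wr

namespace WrN

variable (h : WrN t v s u a σ ρ x Z)
include h

theorem aΦ (hg : g ∈ nor (Z ⊔ H x 6)) : g * a * g⁻¹ * a ∈ H x 6 := by
  have m := h.zs.cjZ hg h.aZ
  rw [mem_cen_iff.1 (ab_of_sq h.Z2 m) _ h.aZ]
  refine H_mono (by decide) ((h.hZ _ m).resolve_left fun e => h.aD (H_mono (j := 2) (by decide) ?_))
  exact (mem_normalizer_iff.1 (h.zs.norΦ hg) a).2 e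

theorem UD (hg : g ∈ Z ⊔ H x 6) : g ∈ H x 6 ∨ a * g ∈ H x 6 := by
  obtain ⟨e, he, d, hd, rfl⟩ := h.zs.dec0 hg
  exact (h.hZ e he).imp (fun k => mul_mem (H_mono (by decide) k) hd) fun k => by
    rw [← mul_assoc]; exact mul_mem (H_mono (by decide) k) hd

theorem UK (l : List G) (hg : g ∈ Z ⊔ H x 6) : g ∈ H x 6 ⊔ cl (a :: l) :=
  (h.UD hg).elim mem_sup_left fun k =>
    (mul_mem_cancel_left (mem_sup_right (mem_cl (by simp)))).1 (mem_sup_left k)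

theorem aX (hX : AS X t) (hS : IsSyl 2 S ⊤) (o : Ov t x Z S) (tX : t ∉ X) : a ∉ X := fun aX => by
  have nD := fun g (hg : g ∈ S) => h.norD hS o (o.le hg)
  have aU : a ∈ Z ⊔ H x 6 := mem_sup_left h.aZ
  have Ua : Z ⊔ H x 6 ≤ cen1 a := fun y hy => mem_cen1.2 (h.zs.cm' h.aZ hy)
  by_cases hn : ∃ n ∈ S, Pi x Z n pa
  · obtain ⟨n, hn, k⟩ := hn
    have kj := h.zs.pcj k h.tP
    have mj := mul_mem (mul_mem hn o.tS) (inv_mem hn)
    have e : t * n * t⁻¹ * n⁻¹ = t * (n * t * n⁻¹) := by rw [h.ti]; group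
    obtain ⟨D, h1, h2, h3⟩ := gen (Y := S) (K := H x 6) (a := a) (x := t) (y := n)
      (h.leK hS o le_rfl (fun g _ => h.UK _) ⟨o.tS, mem_sup_right (mem_cl (by simp))⟩
        ⟨hn, mem_sup_right (mem_cl (by simp))⟩ h.tP k fun _ _ r _ => allD r)
      (nD _ (o.U aU)) (nD _ o.tS) (nD _ hn) (h.aΦ h.tP.1) (h.aΦ k.1) h.aa (Or.inl (h.tt ▸ one_mem _))
      (h.UD (h.ker o (mul_mem hn hn) (h.zs.pmul k k))) (by
        rw [e]
        exact (h.UD (h.ker o (mul_mem (mul_mem o.tS mj) (mul_mem o.tS mj)) (h.zs.pmul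
          (h.zs.pmul h.tP kj) (h.zs.pmul h.tP kj)))).resolve_right
          (h.sqc hS o (mul_mem o.tS mj) (h.zs.pmul h.tP kj))) h.aD
      (by rw [e]; exact fun m => h.notc hS o aU (h.zs.pmul h.tP kj) (mem_sup_right m))
    exact trG hX hS h1 h.aa h3 aU o.U Ua (fun g le => h2 (h.aΦ (h.wcU o le))) aX
  have UX : Z ⊔ H x 6 ≤ X := fun g hg => (h.UD hg).elim (fun k => h.DX hX k) fun k =>
    (mul_mem_cancel_left aX).1 (h.DX hX k)
  have nt : ∀ g ∈ S ⊓ X, ¬ Pi x Z g pt := fun g hg k =>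
    tX ((X.mul_mem_cancel_right hg.2).1 (UX (h.kert o hg.1 k)))
  obtain ⟨g, hg, q, k, qq, hq⟩ : ∃ g ∈ S ⊓ X, ∃ q, Pi x Z g q ∧ q * q = 1 ∧
      ∀ y ∈ S ⊓ X, ∀ r, Pi x Z y r → r = 1 ∨ r = q := by
    by_cases c : ∃ g ∈ S ⊓ X, ∃ q, Pi x Z g q ∧ q ≠ 1
    · obtain ⟨g, hg, q, k, q1⟩ := c
      have c1 := h.noa hS o hn hg.1 k
      have c2 : q ≠ pt := fun e => nt g hg (e ▸ k)
      refine ⟨g, hg, q, k, by rcases c1 with rfl | rfl | rfl | rfl <;> rfl, fun y hy r kr => ?_⟩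
      exact (by decide +kernel : ∀ q r : D4, (q = 1 ∨ q = pt ∨ q = pc ∨ q = pt') → q ≠ 1 → q ≠ pt →
        (r = 1 ∨ r = pt ∨ r = pc ∨ r = pt') → r ≠ pt → r * q ≠ pt → r = 1 ∨ r = q) q r c1 q1 c2
        (h.noa hS o hn hy.1 kr) (fun e => nt y hy (e ▸ kr))
        fun e => nt _ (mul_mem hy hg) (e ▸ h.zs.pmul kr k)
    · exact ⟨1, one_mem _, 1, h.zs.pone (one_mem _), rfl, fun y hy r kr =>
        Or.inl (by_contra fun e => c ⟨y, hy, r, kr, e⟩)⟩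
  obtain ⟨D, h1, h2, h3⟩ := gen (Y := S ⊓ X) (K := H x 6) (a := a) (x := g) (y := 1)
    (h.leK hS o inf_le_left (fun g _ => h.UK _) ⟨hg, mem_sup_right (mem_cl (by simp))⟩ (one_mem _) k
      (h.zs.pone (one_mem _)) fun y hy r kr => by rcases hq y hy r kr with rfl | rfl <;> simp)
    (nD _ (o.U aU)) (nD _ hg.1) (one_mem _) (h.aΦ k.1) (h.aΦ (one_mem _)) h.aa
    (h.UD (h.ker o (mul_mem hg.1 hg.1) (qq ▸ h.zs.pmul k k))) (Or.inl (by simp)) (by simp) h.aD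
    (by simpa using h.aD)
  exact trX hX hS h1 h.aa h3 aU (le_inf o.U UX) Ua fun g _ le => h2 (h.aΦ (h.wcU o le))

end WrN

theorem jobN4 : JobN4.{u} := by
  intro G _ _ X t v s u a σ ρ x Z hX h
  obtain ⟨S, hS, o⟩ := h.exS
  have tX := h.tX hS o hX (Or.inl fun g hg => (h.narA g hg).2)
  have aX := h.aX hX hS o tX
  obtain ⟨e1, e2, e3⟩ := elem h.toTr.pres h.toTr.ind [(0, [3, 0]), (1, [1, 0]), (2, [2])]
    [t * a, u * a, v] (by simp) (fun i hi => by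
      change i < 3 at hi; interval_cases i <;> simp [app]) (show elOK _ _ 3 = true by decide +kernel)
  have EX : cl [t * a, u * a, v] ≤ X := cl_le.2 fun y hy => by
    simp only [List.mem_cons, List.not_mem_nil, or_false] at hy
    rcases hy with rfl | rfl | rfl
    exacts [(as_mul hX h.tt _ _).2 (by simp [tX, aX]), h.DX hX (H_mono (by decide) h.zΦ),
      h.ev ▸ h.DX hX (mul_mem (x_mem (by decide)) (x_mem (by decide)))]
  refine sr8X hX hS (le_inf (le_trans (cl_le.2 fun y hy => ?_) (h.TP.trans o.ge)) EX) e1 e2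
    fun c hc => ?_
  · simp only [List.mem_cons, List.not_mem_nil, or_false] at hy
    rcases hy with rfl | rfl | rfl
    exacts [mul_mem (mem_cl (by simp)) (mem_cl (by simp)), mul_mem (mem_cl (by simp)) (mem_cl (by simp)),
      mem_cl (by simp)]
  obtain ⟨p, k⟩ := h.zs.exP (o.le hc.1.1)
  have cv := mem_cen_iff.1 hc.2 v (mem_cl (by simp))
  have ct := mem_cen_iff.1 hc.2 (t * a) (mem_cl (by simp))
  have ev : v = 1 * W x [3, 2] := by
    simpa [h.ev] using h.pres.W_eq (w := [2, 3]) (w' := [3, 2]) rfl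
  have nE := h.norE k ((by decide +kernel : ∀ p : D4,
    inΦ ([3, 2].map (lp p) ++ [3, 2].reverse) = true → p = 1 ∨ p = pt) p
    (h.zs.pfix k (one_mem _) (by decide) (ev ▸ cv)))
  have ca : c * a = a * c := (h.memP (h.memP' o hc.1.1 nE)).elim (h.zs.cm' h.aZ) fun e => by
    have := h.zs.cm' h.aZ e
    rwa [← mul_assoc, h.ta, mul_assoc, mul_assoc, mul_right_inj] at this
  rw [mul_assoc t, ← ca, ← mul_assoc, ← mul_assoc, mul_left_inj] at ct
  obtain ⟨w, hw, rfl⟩ := h.toTr.pres.mem_cl rfl 4 (by decide) (memA_of_v h.toTr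
    (two h.toLc o.two (h.TP.trans o.ge) hc.1.1 ct (h.norA_of ct nE)) cv)
  have m : ∀ c ∈ subs 3, W (val [a, u, v, t, s]) (app [(0, [3, 0]), (1, [1, 0]), (2, [2])] c) ∈
      cl [t * a, u * a, v] := fun c hc => by
    rw [← W_app (x' := val [t * a, u * a, v]) (n := 3) (fun i hi => by interval_cases i <;> simp [app])
      (subs_lt hc)]
    exact W_mem_cl [t * a, u * a, v] 3 (subs_lt hc)
  obtain ⟨c, hc', e | e⟩ := (by decide +kernel : ∀ w ∈ subs 4, ∃ c ∈ subs 3,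
    tbT.same w (app [(0, [3, 0]), (1, [1, 0]), (2, [2])] c) = true ∨
    tbT.same (0 :: w) (app [(0, [3, 0]), (1, [1, 0]), (2, [2])] c) = true) w hw
  · exact h.toTr.pres.W_eq e ▸ m c hc'
  · have := EX (h.toTr.pres.W_eq e ▸ m c hc')
    rw [W_cons] at this
    exact absurd ((X.mul_mem_cancel_right hc.1.2).1 this) aX

end H49.NW
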