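import Cfsg.Agent.H49.NWSpec

/-! DZ, branches NE and WA: the action of `N(U)` on the four cosets `v₁ Z, v₂ Z, s₁ Z, s₂ Z`. -/

set_option autoImplicit false
set_option linter.unusedSectionVars false

namespace H49.NW

open Subgroup Cfsg H14 H98 H1.Gold H31.S2 H85.FZ H49.D8 H85.DZ

universe u

variable {G : Type u} [Group G] [Finite G] {g g' e t : G} {x : ℕ → G} {Z Z' F : Subgroup G}
  {w w' : List ℕ}

abbrev D4 := DihedralGroup 4

def ac : D4 → ℕ → ℕ
  | .r k, i => (i + k.val) % 4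
  | .sr k, i => (8 - i - k.val) % 4

/-- The action on the letters of `tbR`. -/
def lp (p : D4) (r : ℕ) : ℕ := if r < 2 then (r + ac p 0) % 2 else ac p (r - 2) + 2

def pc : D4 := .r 2
def pt : D4 := .sr 3
def pt' : D4 := .sr 1
def pa : D4 := .sr 2
def pa' : D4 := .sr 0

theorem lp_lt : ∀ p : D4, ∀ r < 6, lp p r < 6 := by decide +kernel
theorem lp_mul : ∀ p q : D4, ∀ r < 6, lp (p * q) r = lp p (lp q r) := by decide +kernel

/-- `U = Z ∘ D₀`. -/
structure Zs (x : ℕ → G) (Z : Subgroup G) : Prop where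
  pres : Pres tbR x
  ind : Ind x 7
  Z2 : ∀ e ∈ Z, e * e = 1
  Zc : Z ≤ cen (H x 6)
  ΦZ : H x 2 ≤ Z
  ZD : Z ⊓ H x 6 ≤ H x 2

def Pi (x : ℕ → G) (Z : Subgroup G) (g : G) (p : D4) : Prop :=
  g ∈ nor (Z ⊔ H x 6) ∧ ∀ r < 6, ∃ e ∈ Z, g * x r * g⁻¹ = e * x (lp p r)

def S4 : List (List ℕ) := (subs 4).map (List.map (· + 2))

def inΦ (w : List ℕ) : Bool := (subs 2).any (tbR.eqv w ·)

theorem norH {k : ℕ} (h : ∀ i < k, g * x i * g⁻¹ ∈ H x k) : g ∈ nor (H x k) :=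
  mem_normalizer_fintype fun _ hy => H_le (K := (H x k).comap (MulAut.conj g).toMonoidHom) h hy

theorem S4_lt : ∀ w ∈ S4, w.all (· < 6) = true := by decide

theorem map_lt (p : D4) (hw : w.all (· < 6) = true) : (w.map (lp p)).all (· < 6) = true := by
  simp only [List.all_eq_true, decide_eq_true_eq, List.mem_map] at hw ⊢
  rintro _ ⟨r, hr, rfl⟩
  exact lp_lt p r (hw r hr)

set_option synthInstance.maxSize 2000 in
theorem keyP : ∀ a ∈ S4, tbR.eqv (a ++ a) [] = true →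
    ∀ c ∈ S4, tbR.eqv (c ++ c) [] = true → tbR.same (a ++ c) (c ++ a) = false →
    ∀ b ∈ S4, tbR.eqv (b ++ b) [] = true → tbR.eqv (a ++ b) (b ++ a) = true →
      tbR.eqv (b ++ c) (c ++ b) = true → ∀ d ∈ S4, tbR.eqv (d ++ d) [] = true →
      tbR.same (b ++ d) (d ++ b) = false → tbR.eqv (a ++ d) (d ++ a) = true →
      tbR.eqv (c ++ d) (d ++ c) = true →
      ∃ p : D4, a = [lp p 2] ∧ b = [lp p 3] ∧ c = [lp p 4] ∧ d = [lp p 5] := by decide +kernel

namespace Zs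

variable (h : Zs x Z)
include h

theorem mono (h1 : H x 2 ≤ Z') (h2 : Z' ≤ Z) : Zs x Z' :=
  ⟨h.pres, h.ind, fun e he => h.Z2 e (h2 he), h2.trans h.Zc, h1, (inf_le_inf_right _ h2).trans h.ZD⟩

theorem cm (he : e ∈ Z) (hg : g ∈ H x 6) : e * g = g * e := mem_cen_iff.1 (h.Zc he) g hg

theorem cZ : Z ⊔ H x 6 ≤ cen Z :=
  sup_le (ab_of_sq h.Z2) fun _ hg => mem_cen_iff.2 fun _ he => (h.cm he hg).symm

theorem cm' (he : e ∈ Z) (hg : g ∈ Z ⊔ H x 6) : g * e = e * g := mem_cen_iff.1 (h.cZ hg) e he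

theorem fix (he : e ∈ Z) (hg : g ∈ Z ⊔ H x 6) : g * e * g⁻¹ = e := by
  rw [h.cm' he hg, mul_inv_cancel_right]

theorem dec0 (hg : g ∈ Z ⊔ H x 6) : ∃ e ∈ Z, ∃ d ∈ H x 6, g = e * d :=
  (mem_sup_right_norm ((le_sup_right.trans h.cZ).trans (centralizer_le_normalizer _))).1 hg

theorem word (hg : g ∈ H x 6) : ∃ w ∈ subs 6, g = W x w := h.pres.mem rfl (by decide) hg

theorem dec (hg : g ∈ Z ⊔ H x 6) : ∃ e ∈ Z, ∃ w ∈ S4, g = e * W x w := by
  obtain ⟨e, he, d, hd, rfl⟩ := h.dec0 hg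
  obtain ⟨w, hw, rfl⟩ := h.word hd
  obtain ⟨c, hc, w', hw', k⟩ := (by decide +kernel : ∀ w ∈ subs 6, ∃ c ∈ subs 2, ∃ w' ∈ S4,
    tbR.same w (c ++ w') = true) w hw
  exact ⟨_, mul_mem he (h.ΦZ (W_mem (subs_lt hc))), w', hw', by
    rw [h.pres.W_eq k, W_append, mul_assoc]⟩

theorem eqv (k : W x w = W x w') : tbR.eqv w w' = true := h.pres.eqv h.ind k

theorem inΦ_of (k : W x w ∈ H x 2) : inΦ w = true := by
  obtain ⟨c, hc, e⟩ := h.pres.mem rfl (by decide) k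
  exact List.any_eq_true.2 ⟨c, hc, h.eqv e⟩

theorem modZ (hw : w.all (· < 6) = true) (k : W x w ∈ Z) : inΦ w = true :=
  h.inΦ_of (h.ZD ⟨k, W_mem hw⟩)

theorem rev (hw : w.all (· < 6) = true) : W x w.reverse = (W x w)⁻¹ :=
  h.pres.W_rev (fun _ => rfl) (List.all_eq_true.2 fun r hr => decide_eq_true
    ((of_decide_eq_true (List.all_eq_true.1 hw r hr)).trans (by decide)))

theorem sq (he : e ∈ Z) (hg : g ∈ H x 6) : e * g * (e * g) = g * g := by
  rw [mul_assoc, ← mul_assoc g, ← h.cm he hg, ← mul_assoc, ← mul_assoc, h.Z2 e he, one_mul]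

theorem mm {e' : G} (he' : e' ∈ Z) (hg : g ∈ H x 6) : e * g * (e' * g') = e * e' * (g * g') := by
  rw [mul_assoc, ← mul_assoc g, ← h.cm he' hg, mul_assoc, mul_assoc]

theorem cent (hg : g ∈ Z ⊔ H x 6) (hc : g ∈ cen (Z ⊔ H x 6)) : g ∈ Z := by
  obtain ⟨e, he, w, hw, rfl⟩ := h.dec hg
  have k : ∀ i < 6, tbR.eqv (w ++ [i]) (i :: w) = true := fun i hi => h.eqv (by
    have := mem_cen_iff.1 hc _ (mem_sup_right (x_mem hi))
    rw [← mul_assoc, ← h.cm he (x_mem hi), mul_assoc, mul_assoc, mul_right_inj] at this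
    simpa using this)
  rwa [(by decide +kernel : ∀ w ∈ S4, (∀ i < 6, tbR.eqv (w ++ [i]) (i :: w) = true) → w = []) w hw k,
    W_nil, mul_one]

theorem norZ (hg : g ∈ nor (Z ⊔ H x 6)) : g ∈ nor Z := mem_normalizer_fintype fun e he =>
  h.cent (conj_mem_of_mem_normalizer hg (mem_sup_left he))
    (nor_cen hg (mem_cen_iff.2 fun _ hy => (h.cm' he hy).symm))

theorem cjZ (hg : g ∈ nor (Z ⊔ H x 6)) (he : e ∈ Z) : g * e * g⁻¹ ∈ Z :=
  conj_mem_of_mem_normalizer (h.norZ hg) he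

theorem zsq (i : ℕ) (hi : i < 2) : x i = W x [i + 2, i + 4] * W x [i + 2, i + 4] := by
  rw [← W_append]
  simpa using h.pres.W_eq (w := [i]) (w' := [i + 2, i + 4] ++ [i + 2, i + 4])
    (by interval_cases i <;> rfl)

theorem norΦ (hg : g ∈ nor (Z ⊔ H x 6)) : g ∈ nor (H x 2) := norH fun i hi => by
  obtain ⟨e, he, w, hw, k⟩ := h.dec (conj_mem_of_mem_normalizer hg (mem_sup_right
    (W_mem (x := x) (w := [i + 2, i + 4]) (by simp; omega))))
  rw [h.zsq i hi, ← conj_mul, k, h.sq he (W_mem (S4_lt w hw)), ← W_append, ← h.pres.W_col]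
  exact W_mem ((by decide +kernel : ∀ w ∈ S4, (tbR.col (w ++ w)).all (· < 2) = true) w hw)

theorem memΦ (he : e ∈ H x 2) : e = 1 ∨ e = x 0 ∨ e = x 1 ∨ e = x 0 * x 1 := by
  obtain ⟨c, hc, rfl⟩ := h.pres.mem rfl (by decide) he
  simp only [subs, List.map_cons, List.map_nil, List.cons_append, List.nil_append, List.mem_cons,
    List.not_mem_nil, or_false] at hc
  rcases hc with rfl | rfl | rfl | rfl
  iterate 3 simp
  exact Or.inr (Or.inr (Or.inr (by simpa using h.pres.W_eq (w := [1, 0]) (w' := [0, 1]) rfl)))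

theorem ne (k : tbR.eqv w w' = false) : W x w ≠ W x w' := h.pres.ne h.ind k

theorem two : IsPGroup 2 ↥(Z ⊔ H x 6) :=
  (two_of_sq h.Z2).to_sup_of_normal_left' (h.pres.isPGroup rfl (k := 6) (by decide))
    ((le_sup_right.trans h.cZ).trans (centralizer_le_normalizer _))

theorem elE {i j : ℕ} (hi : i < 6) (hj : j < 6) (c : tbR.same [i, j] [j, i] = true)
    (k : inΦ [i] = false ∧ inΦ [j] = false ∧ inΦ [i, j] = false) :
    (∀ e ∈ Z ⊔ cl [x i, x j], e * e = 1) ∧ Nat.card ↥(Z ⊔ cl [x i, x j]) = 4 * Nat.card Z := by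
  have sq : ∀ i < 6, x i * x i = 1 := fun i hi => h.pres.sq i (hi.trans (by decide))
  have cm : x i * x j = x j * x i := by simpa using h.pres.W_eq c
  have e : Z ⊔ cl [x i, x j] = Z ⊔ zpowers (x i) ⊔ zpowers (x j) :=
    le_antisymm (sup_le (le_sup_left.trans le_sup_left) (cl2_le (mem_sup_left (mem_sup_right
      (mem_zpowers _))) (mem_sup_right (mem_zpowers _)))) (sup_le (sup_le le_sup_left (zpowers_le.2
      (mem_sup_right (m1 _ _)))) (zpowers_le.2 (mem_sup_right (m2 _ _))))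
  have n1 : ∀ i < 6, x i ∈ nor Z := fun i hi =>
    centralizer_le_normalizer _ (h.cZ (mem_sup_right (x_mem hi)))
  have n2 : x j ∈ cen (Z ⊔ zpowers (x i)) := le_cen1_iff.1 (sup_le (le_cen1_iff.2
    (h.cZ (mem_sup_right (x_mem hj)))) (zpowers_le.2 (mem_cen1.2 cm)))
  have m : ∀ {w : List ℕ}, w.all (· < 6) = true → inΦ w = false → W x w ∉ Z := fun hw k e => by
    rw [h.modZ hw e] at k; exact absurd k (by decide)
  refine ⟨fun y hy => ?_, ?_⟩
  · rw [e] at hy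
    have s1 : ∀ y ∈ Z ⊔ zpowers (x i), y * y = 1 := fun y hy => by
      rcases H93.FZ.mem_ext (n1 i hi) (sq i hi ▸ one_mem _) hy with k | k
      · exact h.Z2 y k
      · rw [← inv_mul_cancel_left (x i) y, inv_eq_of_mul_eq_one_right (sq i hi),
          ← h.cm k (x_mem hi), h.sq k (x_mem hi), sq i hi]
    rcases H93.FZ.mem_ext (centralizer_le_normalizer _ n2) (sq j hj ▸ one_mem _) hy with k | k
    · exact s1 y k
    · rw [← inv_mul_cancel_left (x j) y, inv_eq_of_mul_eq_one_right (sq j hj), mul_assoc,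
        ← mul_assoc _ (x j), ← mem_cen_iff.1 n2 _ k, mul_assoc, s1 _ k, mul_one, sq j hj]
  have n3 : x j ∉ Z ⊔ zpowers (x i) := fun k' => by
    rcases H93.FZ.mem_ext (n1 i hi) (sq i hi ▸ one_mem _) k' with k' | k'
    · exact m (w := [j]) (by simpa) k.2.1 (by simpa using k')
    · exact m (w := [i, j]) (by simp [hi, hj]) k.2.2 (by simpa using k')
  rw [e, H85.card_sup_zpowers_two (sq j hj ▸ one_mem _) (centralizer_le_normalizer _ n2) n3,
    H85.card_sup_zpowers_two (sq i hi ▸ one_mem _) (n1 i hi)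
      (by simpa using m (w := [i]) (by simpa) k.1)]
  omega

/-! ### The permutation -/

variable {p q : D4}

theorem pw (k : Pi x Z g p) (hw : w.all (· < 6) = true) :
    ∃ e ∈ Z, g * W x w * g⁻¹ = e * W x (w.map (lp p)) := by
  induction w with
  | nil => exact ⟨1, one_mem _, by simp⟩
  | cons r w ih =>
    simp only [List.all_cons, Bool.and_eq_true, decide_eq_true_eq] at hw
    obtain ⟨e, he, e1⟩ := k.2 r hw.1
    obtain ⟨e', he', e2⟩ := ih hw.2
    exact ⟨_, mul_mem he he', by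
      rw [W_cons, ← conj_mul, e1, e2, h.mm he' (x_mem (lp_lt p r hw.1)), List.map_cons, W_cons]⟩

theorem pmul (k : Pi x Z g p) (k' : Pi x Z g' q) : Pi x Z (g * g') (p * q) :=
  ⟨mul_mem k.1 k'.1, fun r hr => by
    obtain ⟨e', he', e2⟩ := k'.2 r hr
    obtain ⟨e, he, e1⟩ := k.2 _ (lp_lt q r hr)
    refine ⟨_, mul_mem (h.cjZ k.1 he') he, ?_⟩
    rw [lp_mul p q r hr, mul_assoc _ e, ← e1, conj_mul, ← e2]; group⟩

theorem uniq (k : Pi x Z g p) (k' : Pi x Z g q) : p = q := by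
  refine (by decide +kernel : ∀ p q : D4, (∀ r < 6, inΦ [lp p r, lp q r] = true) → p = q) p q
    fun r hr => h.modZ (by simp [lp_lt _ r hr]) ?_
  obtain ⟨e, he, e1⟩ := k.2 r hr
  obtain ⟨e', he', e2⟩ := k'.2 r hr
  have : x (lp p r) = e⁻¹ * e' * x (lp q r) := by rw [mul_assoc, ← e2, e1, inv_mul_cancel_left]
  simpa [this, mul_assoc, h.pres.sq _ ((lp_lt q r hr).trans (by decide)), tbR, Tb.of] using
    mul_mem (inv_mem he) he'

theorem pone (hg : g ∈ Z ⊔ H x 6) : Pi x Z g 1 := ⟨le_normalizer hg, fun r hr => by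
  obtain ⟨e, he, w, hw, rfl⟩ := h.dec hg
  obtain ⟨c, hc, k⟩ := (by decide +kernel : ∀ w ∈ S4, ∀ r < 6, ∃ c ∈ subs 2,
    tbR.same (w ++ [r] ++ w.reverse) (c ++ [lp 1 r]) = true) w hw r hr
  have := h.pres.W_eq k
  rw [W_append, W_append, W_append, h.rev (S4_lt w hw), W_cons, W_cons, W_nil, mul_one, mul_one] at this
  refine ⟨_, h.ΦZ (W_mem (subs_lt hc)), ?_⟩
  rw [← this, mul_inv_rev, show e * W x w * x r * ((W x w)⁻¹ * e⁻¹) =
    e * (W x w * x r * (W x w)⁻¹) * e⁻¹ by group, h.cm he (mul_mem (mul_mem (W_mem (S4_lt w hw))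
    (x_mem hr)) (inv_mem (W_mem (S4_lt w hw)))), mul_inv_cancel_right]⟩

theorem exP (hg : g ∈ nor (Z ⊔ H x 6)) : ∃ p, Pi x Z g p := by
  choose! e he w hw k using fun r (hr : r < 6) =>
    h.dec (conj_mem_of_mem_normalizer hg (mem_sup_right (x_mem (x := x) hr)))
  have m : ∀ r < 6, W x (w r) ∈ H x 6 := fun r hr => W_mem (S4_lt _ (hw r hr))
  have c : ∀ i < 6, ∀ j < 6, W x (w i ++ w j) = W x (w j ++ w i) ↔ x i * x j = x j * x i :=
    fun i hi j hj => by
      rw [← (MulAut.conj g).injective.eq_iff (a := x i * x j), MulAut.conj_apply, MulAut.conj_apply,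
        ← conj_mul, ← conj_mul, k i hi, k j hj, h.mm (he j hj) (m i hi), h.mm (he i hi) (m j hj),
        mem_cen_iff.1 (ab_of_sq h.Z2 (he i hi)) _ (he j hj), mul_right_inj, W_append, W_append]
  have c1 : ∀ i < 6, ∀ j < 6, tbR.same [i, j] [j, i] = true →
      tbR.eqv (w i ++ w j) (w j ++ w i) = true := fun i hi j hj e =>
    h.eqv ((c i hi j hj).2 (by simpa using h.pres.W_eq e))
  have c2 : ∀ i < 6, ∀ j < 6, tbR.eqv [i, j] [j, i] = false →
      tbR.same (w i ++ w j) (w j ++ w i) = false := fun i hi j hj e => Bool.eq_false_iff.2 fun e' =>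
    h.ne e (by simpa using (c i hi j hj).1 (h.pres.W_eq e'))
  have c3 : ∀ i < 6, tbR.eqv (w i ++ w i) [] = true := fun i hi => h.eqv (by
    rw [W_append, ← h.sq (he i hi) (m i hi), ← k i hi]
    exact conj_sq (h.pres.sq i (hi.trans (by decide))))
  obtain ⟨p, k2, k3, k4, k5⟩ := keyP
    _ (hw 2 (by decide)) (c3 2 (by decide)) _ (hw 4 (by decide)) (c3 4 (by decide))
    (c2 2 (by decide) 4 (by decide) rfl) _ (hw 3 (by decide)) (c3 3 (by decide))
    (c1 2 (by decide) 3 (by decide) rfl) (c1 3 (by decide) 4 (by decide) rfl) _ (hw 5 (by decide))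
    (c3 5 (by decide)) (c2 3 (by decide) 5 (by decide) rfl) (c1 2 (by decide) 5 (by decide) rfl)
    (c1 4 (by decide) 5 (by decide) rfl)
  refine ⟨p, hg, fun r hr => ?_⟩
  by_cases l : r < 2
  · have l' : lp p r < 2 := by rw [lp, if_pos l]; omega
    exact ⟨_, mul_mem (h.cjZ hg (h.ΦZ (x_mem l))) (inv_mem (h.ΦZ (x_mem l'))), by group⟩
  · refine ⟨_, he r hr, (k r hr).trans ?_⟩
    interval_cases r <;> simp_all

theorem pinv (k : Pi x Z g p) : Pi x Z g⁻¹ p⁻¹ := by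
  obtain ⟨q, k'⟩ := h.exP (inv_mem k.1)
  have := h.uniq (h.pmul k k') (by rw [mul_inv_cancel]; exact h.pone (one_mem _))
  rwa [← eq_inv_of_mul_eq_one_right this]

theorem pcj (k : Pi x Z g p) (k' : Pi x Z g' q) : Pi x Z (g * g' * g⁻¹) (p * q * p⁻¹) :=
  h.pmul (h.pmul k k') (h.pinv k)

theorem pz (k : Pi x Z g p) {i : ℕ} (hi : i < 2) : g * x i * g⁻¹ = x (lp p i) := by
  obtain ⟨e, he, e1⟩ := h.pw k (w := [i + 2, i + 4]) (by simp; omega)
  rw [h.zsq i hi, ← conj_mul, e1, h.sq he (W_mem (map_lt p (by simp; omega))), ← W_append]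
  simpa using h.pres.W_eq ((by decide +kernel : ∀ p : D4, ∀ i < 2, tbR.same ([i + 2, i + 4].map (lp p) ++
    [i + 2, i + 4].map (lp p)) [lp p i] = true) p i hi)

theorem pzz (k : Pi x Z g p) : g * (x 0 * x 1) * g⁻¹ = x 0 * x 1 := by
  rw [← conj_mul, h.pz k (by decide), h.pz k (by decide)]
  simpa using h.pres.W_eq ((by decide +kernel : ∀ p : D4,
    tbR.same [lp p 0, lp p 1] [0, 1] = true) p)

theorem pE (k : Pi x Z g p) {i j i' j' : ℕ} (hi : i < 6) (hj : j < 6)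
    (c : (lp p i = i' ∨ lp p i = j') ∧ (lp p j = i' ∨ lp p j = j')) :
    cj g (Z ⊔ cl [x i, x j]) ≤ Z ⊔ cl [x i', x j'] := by
  have f : ∀ r < 6, (lp p r = i' ∨ lp p r = j') → x r ∈ cj g⁻¹ (Z ⊔ cl [x i', x j']) := fun r hr c => by
    obtain ⟨e, he, e1⟩ := k.2 r hr
    rw [mem_cj, inv_inv, e1]
    exact mul_mem (mem_sup_left he) (mem_sup_right (c.elim (fun c => c ▸ m1 _ _) fun c => c ▸ m2 _ _))
  exact cj_le_iff.2 (sup_le (fun e he => mem_cj.2 (mem_sup_left (by simpa using h.cjZ k.1 he)))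
    (cl2_le (f i hi c.1) (f j hj c.2)))

/-- An element of `U` that is fixed by `g`. -/
theorem pfix (k : Pi x Z g p) (he : e ∈ Z) (hw : w ∈ S4) (c : g * (e * W x w) = e * W x w * g) :
    inΦ (w.map (lp p) ++ w.reverse) = true := by
  obtain ⟨e', he', e1⟩ := h.pw k (S4_lt w hw)
  refine h.modZ (by simp only [List.all_append, map_lt p (S4_lt w hw), List.all_reverse, S4_lt w hw]; rfl) ?_
  rw [W_append, h.rev (S4_lt w hw), show W x (w.map (lp p)) * (W x w)⁻¹ =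
    e'⁻¹ * ((g * e * g⁻¹)⁻¹ * (g * (e * W x w) * g⁻¹ * (W x w)⁻¹)) by
      rw [← inv_mul_cancel_left e' (W x (w.map (lp p))), ← e1]; group, c]
  simpa [mul_assoc] using mul_mem (inv_mem he') (mul_mem (inv_mem (h.cjZ k.1 he)) he)

theorem pt_ (et : x 6 = t) (tZ : t ∈ nor Z) : Pi x Z t pt := by
  have k : ∀ r < 6, t * x r * t⁻¹ = x (lp pt r) := fun r hr => by
    simpa [et] using (h.pres.conj (fun _ => rfl) (w := [6]) rfl [r]).trans
      (h.pres.W_eq ((by decide +kernel : ∀ r < 6,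
        tbR.same ([6] ++ [r] ++ [6].reverse) [lp pt r] = true) r hr))
  exact ⟨mem_normalizer_of_cj_le (by
    rw [cj_sup, cj_eq_self tZ, cj_eq_self (norH fun r hr => k r hr ▸ x_mem (lp_lt _ r hr))]),
    fun r hr => ⟨1, one_mem _, by rw [k r hr, one_mul]⟩⟩

end Zs

end H49.NW
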