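import Cfsg.Agent.H49.NWN4

/-! DZ, branch WA: the end of the wide wreath case. -/

set_option autoImplicit false
set_option linter.unusedSectionVars false

namespace H49.NW

open Subgroup Cfsg H14 H98 H1.Gold H31.S2 H85.FZ H49.D8 H85.DZ

universe u

variable {G : Type u} [Group G] [Finite G] {t v s u a σ ρ b g d e j y n : G} {x : ℕ → G}
  {Z S X Y K : Subgroup G} {p q : D4}

theorem nA_dec (h : Lc t v s u a σ ρ) (h1 : g * t = t * g) (h2 : g ∈ nor (cl [a, u, v, t])) :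
    ∃ c ∈ cl [s, σ], c⁻¹ * g ∈ cen (cl [a, u, v, t]) := by
  obtain ⟨w, hw, f, hf, k⟩ := nA_act h h1 h2
  obtain ⟨lw, mw⟩ : w.all (· < 5) = true ∧ W (val [a, u, v, t, s]) w ∈ cl [s, σ] := by
    simp only [List.mem_cons, List.not_mem_nil, or_false] at hw
    rcases hw with rfl | rfl
    exacts [⟨rfl, one_mem _⟩, ⟨rfl, by simpa using m1 s σ⟩]
  obtain ⟨c, hc, A⟩ : ∃ c ∈ cl [s, σ], Act (val [a, u, v, t, s]) c [0, 1, 2, 3] f := by
    simp only [List.mem_cons, List.not_mem_nil, or_false] at hf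
    rcases hf with rfl | rfl | rfl
    exacts [⟨1, one_mem _, fun r _ => by simp [app]⟩, ⟨σ, m2 _ _, hact h.A [s]⟩,
      ⟨σ⁻¹, inv_mem (m2 _ _), hacti h.A h.toTr [s]⟩]
  refine ⟨_, mul_mem mw hc, cen_of_act (l := [s]) fun r hr => ?_⟩
  have := k [r] (by simpa using hr)
  rw [← h.pres.conj (fun _ => rfl) lw, ← A r hr, W_cons, W_nil, mul_one] at this
  calc _ = (W (val [a, u, v, t, s]) w * c)⁻¹ * (g * val [a, u, v, t, s] r * g⁻¹) *
      (W (val [a, u, v, t, s]) w * c) := by group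
    _ = _ := by rw [this]; simp [app, mul_assoc]

namespace WrW

variable (h : WrW t v s u a σ ρ b x Z)
include h

theorem cZ {e' : G} (he : e ∈ Z) (he' : e' ∈ Z) : e * e' = e' * e :=
  mem_cen_iff.1 (ab_of_sq h.Z2 he) _ he'

theorem bb : b * b = 1 := h.Z2 b h.bZ

theorem xZ (i : ℕ) (hi : i < 2 := by decide) : x i ∈ Z := h.ΦZ (x_mem hi)

theorem btb : b * t * b⁻¹ = t * a := by
  rw [inv_eq_of_mul_eq_one_right h.bb, mul_assoc, mul_inv_eq_iff_eq_mul.1 h.tb, ← mul_assoc,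
    ← mul_assoc, h.bb, one_mul, h.ta]

theorem aX (hX : AS X t) : a ∈ X := by
  have := as_conj hX (isConj_iff.2 ⟨b, h.btb⟩)
  rw [as_mul hX h.tt] at this
  tauto

theorem cls' (hg : t * g ∈ Z ⊔ H x 6) (gg : g * g = 1) : ∃ w ∈ Z ⊔ H x 6, g = w * t * w⁻¹ := by
  obtain ⟨w, hw, e | ⟨e, -⟩⟩ := h.cls g hg gg
  exacts [⟨w, hw, e⟩, ⟨_, mul_mem hw (mem_sup_left h.bZ), by rw [e, ← h.btb]; group⟩]

theorem UD (hg : g ∈ Z ⊔ H x 6) :
    g ∈ H x 6 ∨ a * g ∈ H x 6 ∨ b * g ∈ H x 6 ∨ b * a * g ∈ H x 6 := by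
  obtain ⟨e, he, d, hd, rfl⟩ := h.zs.dec0 hg
  have k : ∀ c, c * e ∈ H x 2 → c * (e * d) ∈ H x 6 := fun c k => by
    rw [← mul_assoc]; exact mul_mem (H_mono (by decide) k) hd
  exact (h.hZ e he).imp (fun k => mul_mem (H_mono (by decide) k) hd)
    (Or.imp (k _) (Or.imp (k _) (k _)))

theorem tu : t * (b * x 0) * t⁻¹ = b * a * x 1 := by
  rw [← conj_mul, h.tb, h.zs.pz h.tP (by decide)]; rfl

theorem tu' : t * (b * a * x 1) * t⁻¹ = b * x 0 := by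
  rw [← h.tu, h.ti, ← mul_assoc, ← mul_assoc, h.tt, one_mul, mul_assoc, h.tt, mul_one]

theorem aΦ : a ∉ H x 2 := fun e => h.aD (H_mono (by decide) e)

theorem tΦ : t ∈ nor (H x 2) := h.zs.norΦ h.tP.1

/-- `[t, e] ∈ a Φ` for `e ∈ b Φ ∪ b a Φ`. -/
theorem tz (he : e ∈ Z) (k : b * e ∈ H x 2 ∨ b * a * e ∈ H x 2) : a * (t * e * t⁻¹ * e) ∈ H x 2 := by
  have f : ∀ c ∈ Z, t * c * t⁻¹ = c * a → c * e ∈ H x 2 → a * (t * e * t⁻¹ * e) ∈ H x 2 :=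
    fun c hc e1 k => by
      have := mul_mem (conj_mem_of_mem_normalizer h.tΦ k) k
      rwa [← conj_mul, e1, h.cZ hc h.aZ, mul_assoc a, mul_assoc a, h.cZ hc (h.zs.cjZ h.tP.1 he),
        mul_assoc, ← mul_assoc c c, h.Z2 c hc, one_mul] at this
  exact k.elim (f b h.bZ h.tb) (f _ (mul_mem h.bZ h.aZ) (by
    rw [← conj_mul, h.tb, ← h.ta, mul_inv_cancel_right]))

variable (hS : IsSyl 2 S ⊤) (o : Ov t x Z S)
include hS o

theorem exd' (hg : g ∈ S) (k : Pi x Z g pc) : ∃ d ∈ S, Pi x Z d pc ∧ d * t = t * d := by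
  obtain ⟨w, hw, e⟩ := h.cls' (h.kert o (mul_mem (mul_mem hg o.tS) (inv_mem hg))
    (h.zs.pcj k h.tP)) (conj_sq h.tt)
  exact h.exD hS o hg k (Or.inl rfl) hw e

theorem actb0 (hd : d ∈ S) (k : Pi x Z d pc) (c : d * t = t * d) : d * b * d⁻¹ = b * x 0 := by
  have m0 := mul_mem h.bZ (h.xZ 0)
  have KZ : cl [b * x 0, b * a * x 1] ≤ Z := cl2_le m0 (mul_mem (mul_mem h.bZ h.aZ) (h.xZ 1))
  have cK : cen Z ≤ nor (cl [b * x 0, b * a * x 1]) :=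
    (centralizer_le KZ).trans (centralizer_le_normalizer _)
  have tK : t ∈ nor (cl [b * x 0, b * a * x 1]) := nor_cl (by simp [h.tu, h.tu', m1, m2])
  have PK : Z ⊔ H x 6 ⊔ zpowers t ≤ nor (cl [b * x 0, b * a * x 1]) :=
    sup_le (h.zs.cZ.trans cK) (zpowers_le.2 tK)
  have σK : σ ∈ nor (cl [b * x 0, b * a * x 1]) := nor_cl (by
    have : σ * (b * a * x 1) * σ⁻¹ = b * a * x 1 := by
      rw [← h.tu, ← conj_mul, ← conj_mul, h.σb, h.ti, h.A.σt]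
    simp [h.σb, this, m1, m2])
  have sP : s ∈ Z ⊔ H x 6 ⊔ zpowers t := h.TP (mem_cl (by simp))
  have c1 : d⁻¹ * ρ * d * t = t * (d⁻¹ * ρ * d) := mem_cen1.1 (mul_mem (mul_mem (inv_mem (mem_cen1.2 c))
    (mem_cen1.2 (mul_inv_eq_iff_eq_mul.1 h.B.σt))) (mem_cen1.2 c))
  have c2 := h.swap_nor k
  obtain ⟨c', hc, c3⟩ := nA_dec h.toLc c1 (h.norA_of c1 c2)
  have c4 := mul_mem (inv_mem (cl2_le (h.syA.le sP) h.σA hc)) c2
  have AP : cl [a, u, v, t] ≤ Z ⊔ H x 6 ⊔ zpowers t := (cl_mono (by simp)).trans h.TP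
  have EU : Z ⊔ cl [x 2, x 3] ≤ Z ⊔ H x 6 :=
    sup_le_sup_left (cl2_le (x_mem (by decide)) (x_mem (by decide))) _
  have hR := h.syA.isPGroup.to_le (sup_le_sup_right EU (zpowers t))
  have AR : cl [a, u, v, t] ≤ Z ⊔ cl [x 2, x 3] ⊔ zpowers t := cl_le.2 fun y hy => by
    simp only [List.mem_cons, List.not_mem_nil, or_false] at hy
    rcases hy with rfl | rfl | rfl | rfl
    iterate 3 exact mem_sup_left (h.EAt.ge (mem_cl (by simp))).1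
    exact mem_sup_right (mem_zpowers _)
  have c5 : c'⁻¹ * (d⁻¹ * ρ * d) ∈ nor (cl [b * x 0, b * a * x 1]) :=
    mem_of_parts (fun m hm => PK (AP (ca2m h.toLc hm (mem_zpowers _) (pow_mem c3 m)))) fun m hm =>
      cK (centralizer_le (le_sup_left.trans le_sup_left :
        Z ≤ Z ⊔ cl [x 2, x 3] ⊔ zpowers t) (copr hR (mem_normalizer_of_cj_le (by
        rw [cj_sup, cj_eq_self (pow_mem c4 m), cj_zpowers, mem_cen_iff.1 (pow_mem c3 m) t
          (mem_cl (by simp)), mul_inv_cancel_right])) hm AR (pow_mem c3 m) fun y hy => ca2m h.toLc hR hy))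
  have c6 := KZ (conj_mem_of_mem_normalizer ((mul_mem_cancel_left (inv_mem (cl2_le (PK sP) σK hc))).1 c5)
    (m1 _ _))
  have dz : d * x 0 * d⁻¹ = x 0 := h.zs.pz k (by decide)
  have nt : ∀ y, y * t = t * y → d * (b * x 0) * d⁻¹ ≠ y := fun y e e' => h.aΦ (by
    have : b * x 0 ∈ cen1 t := by
      simpa [← e', mul_assoc] using mul_mem (mul_mem (inv_mem (mem_cen1.2 c)) (mem_cen1.2 e))
        (mem_cen1.2 c)
    have := h.tu.symm.trans (mul_inv_eq_iff_eq_mul.2 (mem_cen1.1 this).symm)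
    rw [mul_assoc, mul_right_inj, ← eq_mul_inv_iff_mul_eq] at this
    exact this ▸ mul_mem (x_mem (by decide)) (inv_mem (x_mem (by decide))))
  have fl : ∀ y, d * (b * x 0) * d⁻¹ = y → d * b * d⁻¹ = y * x 0 := fun y e => by
    rw [← e, ← conj_mul, dz, mul_assoc (d * b * d⁻¹)]
    exact (by rw [h.Z2 _ (h.xZ 0), mul_one] : d * b * d⁻¹ * (x 0 * x 0) = _).symm
  rcases h.ρZ _ (h.zs.cjZ k.1 m0) (by simpa [mul_assoc] using h.zs.cjZ k.1 c6) with e | e | e | e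
  exacts [absurd e (nt _ (by simp)), absurd e (nt _ h.ta), fl _ e, by
    have e1 := fl _ e
    have e2 := h.zs.fix h.bZ (h.ker o (mul_mem hd hd) (h.zs.pmul k k))
    rw [show d * d * b * (d * d)⁻¹ = d * (d * b * d⁻¹) * d⁻¹ by group, e1, ← conj_mul, ← conj_mul, e1,
      (h.swa o hd k).1, dz, mul_assoc _ (x 0), h.cZ (h.xZ 0) h.uZ, mul_assoc, mul_assoc u] at e2
    exact absurd (by simpa [h.Z2 _ (h.xZ 0), mul_assoc, h.au] using e2) h.z1]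

theorem actb (hg : g ∈ S) (k : Pi x Z g pc) : g * b * g⁻¹ = b * x 0 := by
  obtain ⟨d, hd, kd, c⟩ := h.exd' hS o hg k
  rw [← h.actb0 hS o hd kd c]
  conv_rhs => rw [← h.zs.fix h.bZ (h.ker2 o hg hd k kd)]
  group

theorem actba (hg : g ∈ S) (k : Pi x Z g pc) : g * (b * a) * g⁻¹ = b * a * x 1 := by
  have : u = x 0 * x 1 * a := by rw [h.ez, mul_assoc, h.aa, mul_one]
  rw [← conj_mul, h.actb hS o hg k, (h.swa o hg k).1, this]
  simp [mul_assoc, ← mul_assoc (x 0) (x 0), h.Z2 _ (h.xZ 0), h.cZ (h.xZ 1) h.aZ]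

theorem dz (hd : d ∈ S) (k : Pi x Z d pc) (he : e ∈ Z) : (e ∈ H x 2 ∧ d * e * d⁻¹ * e = W x []) ∨
    (a * e ∈ H x 2 ∧ d * e * d⁻¹ * e = W x [0, 1]) ∨ (b * e ∈ H x 2 ∧ d * e * d⁻¹ * e = W x [0]) ∨
    (b * a * e ∈ H x 2 ∧ d * e * d⁻¹ * e = W x [1]) := by
  have f : ∀ c ∈ Z, ∀ y, d * c * d⁻¹ = c * y → c * e ∈ H x 2 →
      c * e ∈ H x 2 ∧ d * e * d⁻¹ * e = y := fun c hc y e1 m => ⟨m, by
    have := mem_cen_iff.1 (h.cenΦ k rfl) _ m
    rw [← mul_inv_eq_iff_eq_mul, ← conj_mul, e1, mul_assoc, mul_right_inj] at this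
    rw [← inv_mul_cancel_left y (d * e * d⁻¹), this, mul_assoc, h.Z2 e he, mul_one]
    exact inv_eq_of_mul_eq_one_right (h.Z2 y ((mul_mem_cancel_left hc).1 (e1 ▸ h.zs.cjZ k.1 hc)))⟩
  refine (h.hZ e he).imp (fun m => by simpa using f 1 (one_mem _) 1 (by simp) (by simpa using m))
    (Or.imp (f a h.aZ _ ?_) (Or.imp (f b h.bZ _ (by simpa using h.actb hS o hd k))
      (f _ (mul_mem h.bZ h.aZ) _ (by simpa using h.actba hS o hd k))))
  simp [(h.swa o hd k).1, h.ez, ← h.au, ← mul_assoc, h.aa]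

theorem dΦ (hd : d ∈ S) (k : Pi x Z d pc) (he : e ∈ Z) : d * e * d⁻¹ * e ∈ H x 2 := by
  rcases h.dz hS o hd k he with c | c | c | c <;> exact c.2 ▸ W_mem rfl

theorem noc (hy : y ∈ S) (c : IsConj t y) (k : Pi x Z y pc) : False := by
  obtain ⟨r0, r1, -⟩ := h.invc hS o k (h.toTr.sq_of_isConj c)
  have f : ∀ c ∈ Z, ∀ i < 2, y * c * y⁻¹ = c * x i → y * W x [i + 2, i + 4] * y⁻¹ =
      W x [i + 2, i + 4] * x i → ∃ r ∈ S ⊓ cen1 y, r * r = x i := fun c hc i hi e1 e2 => by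
    have m : W x [i + 2, i + 4] ∈ H x 6 := W_mem (by simp; omega)
    refine ⟨c * W x [i + 2, i + 4], ⟨o.U (mul_mem (mem_sup_left hc) (mem_sup_right m)),
      mem_cen1.2 (mul_inv_eq_iff_eq_mul.1 ?_).symm⟩, by rw [h.zs.sq hc m, ← h.zs.zsq i hi]⟩
    rw [← conj_mul, e1, e2, ← h.zs.cm (h.xZ i hi) m, mul_assoc, ← mul_assoc (x i), h.Z2 _ (h.xZ i hi),
      one_mul]
  have ex : ∀ i < 2, ∃ r ∈ S ⊓ cen1 y, r * r = x i := fun i hi => by
    interval_cases i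
    exacts [f b h.bZ 0 hi (h.actb hS o hy k) (by simpa [mul_assoc] using r0),
      f _ (mul_mem h.bZ h.aZ) 1 hi (h.actba hS o hy k) (by simpa [mul_assoc] using r1)]
  obtain ⟨g, -, e⟩ := h.toLoc.exists_cj c (o.two.to_le (inf_le_left (b := cen1 y))) inf_le_right
  refine h.fin (g := g) fun i hi => ?_
  obtain ⟨r, hr, e1⟩ := ex i hi
  have e2 : g⁻¹ * x i * g = g⁻¹ * r * g⁻¹⁻¹ * (g⁻¹ * r * g⁻¹⁻¹) := by rw [← e1]; group
  rcases e with e | ⟨d, k, e⟩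
  · exact (h.sq_T (e (conj_mem_cj hr))).elim (fun c => Or.inl (e2.trans c))
      fun c => Or.inr (Or.inr (Or.inl (e2.trans c)))
  · obtain ⟨β, P, -⟩ := k.pres h.toTr
    obtain ⟨w, hw, e3⟩ := P.mem_cl (by cases β <;> rfl) 6 le_rfl (e (conj_mem_cj hr))
    rw [e3, ← W_append] at e2
    obtain ⟨c, hc, e4⟩ := (keyD β w hw).2.2 (P.eqv (k.ind h.toTr) (by
      rw [W_append, ← e2]; simpa using conj_sq (g := g⁻¹) (h.Z2 _ (h.xZ i hi))))
    exact of_Z4 hc (e2.trans (P.W_eq e4))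

theorem eqa (hd : d ∈ S) (k : Pi x Z d pc) (hg : g ∈ nor (Z ⊔ H x 6)) (he : e ∈ Z) :
    d * (g * e * g⁻¹) * d⁻¹ * (g * e * g⁻¹) = g * (d * e * d⁻¹ * e) * g⁻¹ := by
  obtain ⟨p, kp⟩ := h.zs.exP hg
  have k1 : Pi x Z (d⁻¹ * (g⁻¹ * d * g⁻¹⁻¹)) 1 := by
    have := h.zs.pmul (h.zs.pinv k) (h.zs.pcj (h.zs.pinv kp) k)
    rwa [(by decide +kernel : ∀ p : D4, pc⁻¹ * (p⁻¹ * pc * p⁻¹⁻¹) = 1) p] at this
  have f : ∀ e ∈ Z, ∃ φ ∈ H x 2, d⁻¹ * (g⁻¹ * d * g⁻¹⁻¹) * e * (d⁻¹ * (g⁻¹ * d * g⁻¹⁻¹))⁻¹ = φ * e :=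
    fun e he => by
      have m1 := conj_mem_of_mem_normalizer (inv_mem (h.zs.norΦ hg)) (h.dΦ hS o hd k (h.zs.cjZ hg he))
      have m2 := h.dΦ hS o (inv_mem hd) (h.zs.pinv k) he
      refine ⟨_, mul_mem (conj_mem_of_mem_normalizer (inv_mem (h.zs.norΦ k.1)) m1) m2, ?_⟩
      have ei := inv_eq_of_mul_eq_one_right (h.Z2 e he)
      calc _ = d⁻¹ * (g⁻¹ * (d * (g * e * g⁻¹) * d⁻¹ * (g * e * g⁻¹)) * g⁻¹⁻¹) * d⁻¹⁻¹ *
          (d⁻¹ * e⁻¹ * d⁻¹⁻¹ * e) * e⁻¹ := by group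
        _ = _ := by rw [ei]
  have kΦ := h.cenΦ k1 rfl
  have := noZ (h.syA.of_le (K := nor (Z ⊔ H x 6) ⊓ nor (Z ⊔ cl [x 2, x 3])) (le_inf (o.ge.trans o.le)
    h.syA.le) inf_le_right) (fun y hy => h.zs.norZ hy.1) (fun y hy => h.zs.norΦ hy.1)
    (fun y hy c => h.zs.cZ ((h.memP hy).resolve_right fun e => absurd ((h.cen0 (by
      simpa [← mul_assoc, h.tt] using h.zs.pmul h.tP (h.zs.pone e))).1
      (mem_cen1.2 (mem_cen_iff.1 c _ (x_mem (by decide))))) (by decide)))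
    ⟨k1.1, h.norE k1 (Or.inl rfl)⟩ kΦ (mem_cen_iff.2 fun e he => by
      obtain ⟨φ, m, e1⟩ := f e he
      generalize d⁻¹ * (g⁻¹ * d * g⁻¹⁻¹) = k at e1 kΦ
      rw [← mul_inv_eq_iff_eq_mul, show k * k * e * (k * k)⁻¹ = k * (k * e * k⁻¹) * k⁻¹ by group, e1,
        ← conj_mul, e1, mem_cen_iff.1 kΦ _ m, mul_inv_cancel_right, ← mul_assoc, h.Z2 _ (h.ΦZ m), one_mul])
  have := mem_cen_iff.1 this e he
  calc _ = g * d * (d⁻¹ * (g⁻¹ * d * g⁻¹⁻¹) * e) * g⁻¹ * d⁻¹ * (g * e * g⁻¹) := by group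
    _ = _ := by rw [this]; group

theorem aΦ' (hd : d ∈ S) (k : Pi x Z d pc) (hg : g ∈ nor (Z ⊔ H x 6)) : g * a * g⁻¹ * a ∈ H x 6 := by
  obtain ⟨p, kp⟩ := h.zs.exP hg
  have e := h.eqa hS o hd k hg h.aZ
  rw [(h.swa o hd k).1, ← h.ez, h.zs.pzz kp] at e
  have m := h.zs.cjZ hg h.aZ
  rcases h.dz hS o hd k m with c | c | c | c
  exacts [absurd (by simpa using e.symm.trans c.2) (h.zs.ne (w := [0, 1]) (w' := []) rfl),
    h.cZ h.aZ m ▸ H_mono (by decide) c.1,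
    absurd (by simpa using e.symm.trans c.2) (h.zs.ne (w := [0, 1]) (w' := [0]) rfl),
    absurd (by simpa using e.symm.trans c.2) (h.zs.ne (w := [0, 1]) (w' := [1]) rfl)]

theorem bΦ' (hd : d ∈ S) (k : Pi x Z d pc) (hg : g ∈ nor (Z ⊔ H x 6)) :
    g * b * g⁻¹ * b ∈ H x 6 ⊔ zpowers a := by
  obtain ⟨p, kp⟩ := h.zs.exP hg
  have e := h.eqa hS o hd k hg h.bZ
  rw [h.actb hS o hd k, h.cZ h.bZ (h.xZ 0), mul_assoc (x 0), h.bb, mul_one, h.zs.pz kp (by decide)] at e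
  have m := h.zs.cjZ hg h.bZ
  obtain ⟨n1, n2⟩ := (by decide +kernel : ∀ p : D4, tbR.eqv [lp p 0] [] = false ∧
    tbR.eqv [lp p 0] [0, 1] = false) p
  rcases h.dz hS o hd k m with c | c | c | c
  exacts [absurd (by simpa using e.symm.trans c.2) (h.zs.ne n1),
    absurd (by simpa using e.symm.trans c.2) (h.zs.ne n2),
    mem_sup_left (h.cZ h.bZ m ▸ H_mono (by decide) c.1),
    (mul_mem_cancel_left (mem_sup_right (mem_zpowers a))).1 (mem_sup_left (by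
      rw [← h.cZ h.bZ m, ← mul_assoc, h.cZ h.aZ h.bZ]; exact H_mono (by decide) c.1))]

theorem bX (hX : AS X t) (hg : g ∈ S) (k : Pi x Z g pc) : b ∉ X := by
  obtain ⟨d, hd, kd, c⟩ := h.exd' hS o hg k
  have aU : a ∈ Z ⊔ H x 6 := mem_sup_left h.aZ
  have bU : b ∈ Z ⊔ H x 6 := mem_sup_left h.bZ
  have aK : a ∈ H x 6 ⊔ zpowers a := mem_sup_right (mem_zpowers a)
  have KU : H x 6 ⊔ zpowers a ≤ Z ⊔ H x 6 := sup_le le_sup_right (zpowers_le.2 aU)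
  have nK : ∀ g ∈ S, g ∈ nor (H x 6 ⊔ zpowers a) := fun g hg => mem_normalizer_of_cj_le (by
    rw [cj_sup, cj_eq_self (h.norD hS o (o.le hg)), cj_zpowers]
    exact sup_le le_sup_left (zpowers_le.2 ((mul_mem_cancel_right aK).1
      (mem_sup_left (h.aΦ' hS o hd kd (o.le hg))))))
  have UK : ∀ g ∈ Z ⊔ H x 6, g ∈ H x 6 ⊔ zpowers a ∨ b * g ∈ H x 6 ⊔ zpowers a := fun g hg => by
    rcases h.UD hg with e | e | e | e
    exacts [Or.inl (mem_sup_left e), Or.inl ((mul_mem_cancel_left aK).1 (mem_sup_left e)),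
      Or.inr (mem_sup_left e), Or.inr ((mul_mem_cancel_left aK).1 (mem_sup_left (by
        rwa [← mul_assoc, h.cZ h.aZ h.bZ])))]
  have bK : b ∉ H x 6 ⊔ zpowers a := fun e => h.aΦ (by
    have f : ∀ φ ∈ H x 2, t * φ * t⁻¹ * φ ∈ H x 2 := fun φ m =>
      mul_mem (conj_mem_of_mem_normalizer h.tΦ m) m
    rcases H93.FZ.mem_ext (h.norD hS o (le_normalizer aU)) (h.aa ▸ one_mem _) e with e | e
    · have := f _ (h.ZD ⟨h.bZ, e⟩)
      rwa [h.tb, h.cZ h.bZ h.aZ, mul_assoc, h.bb, mul_one] at this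
    · have := f _ (h.ZD ⟨mul_mem h.aZ h.bZ, e⟩)
      rwa [← conj_mul, h.tb, ← h.ta, mul_inv_cancel_right, mul_assoc, mul_assoc b, ← mul_assoc a a,
        h.aa, one_mul, h.bb, mul_one] at this)
  obtain ⟨y, hy, q, kq, qq, hq, gg, ga⟩ : ∃ y ∈ S, ∃ q, Pi x Z y q ∧ q * q = 1 ∧ (∀ g ∈ S, ∀ r,
      Pi x Z g r → r ∈ [1, pt, q, pt * q, q * pt, pt * q * pt, q * pt * q, pt * q * (pt * q)]) ∧
      t * y * t⁻¹ * y⁻¹ * (t * y * t⁻¹ * y⁻¹) ∈ H x 6 ⊔ zpowers a ∧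
      b * (t * y * t⁻¹ * y⁻¹) ∉ H x 6 ⊔ zpowers a := by
    by_cases hn : ∃ n ∈ S, Pi x Z n pa
    · obtain ⟨n, hn, k⟩ := hn
      have kj := h.zs.pcj k h.tP
      have e : t * n * t⁻¹ * n⁻¹ = t * (n * t * n⁻¹) := by rw [h.ti]; group
      refine ⟨n, hn, _, k, rfl, fun _ _ r _ => allD r, ?_,
        by rw [e]; exact fun m => h.notc hS o bU (h.zs.pmul h.tP kj) (KU m)⟩
      obtain ⟨w, hw, e1⟩ := h.exd hS o (mul_mem (mul_mem hn o.tS) (inv_mem hn)) (conj_sq h.tt) kj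
        (Or.inr rfl)
      rw [inv_eq_of_mul_eq_one_right (conj_sq h.tt)] at e1
      obtain ⟨c, hc, δ, hδ, rfl⟩ := h.zs.dec0 hw
      have m1 := mul_mem (conj_mem_of_mem_normalizer (h.norD hS o h.tP.1) hδ) (inv_mem hδ)
      have m2 : t * c * t⁻¹ * c ∈ cl [a, u] := h.Zt ⟨mul_mem (h.zs.cjZ h.tP.1 hc) hc, mem_cen1.2 (by
        conv_lhs => rw [h.cZ (h.zs.cjZ h.tP.1 hc) hc]
        simp only [h.ti, ← mul_assoc, h.tt, one_mul]
        rw [mul_assoc _ t t, h.tt, mul_one])⟩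
      have m3 : cl [a, u] ≤ H x 6 ⊔ zpowers a := cl2_le aK ((mul_mem_cancel_right aK).1
        (mem_sup_left (H_mono (by decide) h.zΦ)))
      rw [e, mul_assoc t, ← mul_assoc (n * t * n⁻¹), e1]
      convert mul_mem (m3 m2) (mem_sup_left m1) using 1
      rw [mul_assoc _ c, h.zs.cm hc m1, mul_inv_rev, inv_eq_of_mul_eq_one_right (h.Z2 c hc), h.ti]
      simp only [mul_assoc]
      rw [← mul_assoc t t, h.tt, one_mul]
    · have e : t * d * t⁻¹ * d⁻¹ = 1 := by rw [← c]; group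
      exact ⟨d, hd, _, kd, rfl, fun g hg r k => by
        rcases h.noa hS o hn hg k with rfl | rfl | rfl | rfl <;> decide, by simp [e], by simpa [e] using bK⟩
  obtain ⟨D, h1, h2, h3⟩ := gen (Y := S) (K := H x 6 ⊔ zpowers a) (a := b) (x := t) (y := y)
    (h.leK hS o le_rfl (fun g _ hg => (UK g hg).elim mem_sup_left fun k =>
      (mul_mem_cancel_left (mem_sup_right (mem_cl (by simp)))).1 (mem_sup_left k))
      ⟨o.tS, mem_sup_right (mem_cl (by simp))⟩ ⟨hy, mem_sup_right (mem_cl (by simp))⟩ h.tP kq hq)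
    (nK _ (o.U bU)) (nK _ o.tS) (nK _ hy) (h.bΦ' hS o hd kd h.tP.1) (h.bΦ' hS o hd kd kq.1) h.bb
    (Or.inl (h.tt ▸ one_mem _)) (UK _ (h.ker o (mul_mem hy hy) (qq ▸ h.zs.pmul kq kq))) gg bK ga
  exact trG hX hS h1 h.bb h3 bU o.U (fun y hy => mem_cen1.2 (h.zs.cm' h.bZ hy))
    fun g le => h2 (h.bΦ' hS o hd kd (h.wcU o le))

theorem exi (hg : g ∈ S) (k : Pi x Z g pc) : ∃ d ∈ S, Pi x Z d pc ∧ d * t = t * d ∧ d * d = 1 := by
  obtain ⟨d, hd, kd, c⟩ := h.exd' hS o hg k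
  obtain ⟨b₂, b₃, b₄, b₅, A⟩ := h.fine hS o kd
  have cj : ∀ w : List ℕ, t * W x w * t⁻¹ = W x ([6] ++ w ++ [6].reverse) := fun w => by
    simpa [h.et] using h.pres.conj (fun _ => rfl) (w := [6]) rfl w
  obtain ⟨w, hw, k1⟩ := (by decide +kernel : ∀ b₂ b₃ b₄ b₅, (∀ r < 6, tbR.eqv (app (fa pc b₂ b₃ b₄ b₅)
      [lp pt r]) ([6] ++ app (fa pc b₂ b₃ b₄ b₅) [r] ++ [6].reverse) = true) → ∃ w ∈ [[], [2, 3]],
      ∀ r < 6, (app (fa pc b₂ b₃ b₄ b₅) (w ++ [r] ++ w.reverse)).all (· < 6) = true ∧ tbR.same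
        (app (fa pc b₂ b₃ b₄ b₅) (w ++ app (fa pc b₂ b₃ b₄ b₅) (w ++ [r] ++ w.reverse) ++ w.reverse))
        [r] = true) b₂ b₃ b₄ b₅ fun r hr => h.zs.eqv (by
    rw [← cj, ← A.w (w := [r]) (by simpa using hr), ← A.w (by simpa using lp_lt pt r hr),
      ← h.pres.W_eq ((by decide +kernel : ∀ r < 6,
        tbR.same ([6] ++ [r] ++ [6].reverse) [lp pt r] = true) r hr), ← cj, ← mul_assoc, ← mul_assoc, c,
      mul_assoc _ t⁻¹, ← mul_inv_rev, c]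
    group)
  obtain ⟨l, wt⟩ : w.all (· < 6) = true ∧ W x w * t = t * W x w := by
    simp only [List.mem_cons, List.not_mem_nil, or_false] at hw
    rcases hw with rfl | rfl
    exacts [by simp, ⟨rfl, by simpa [h.ev] using h.vt⟩]
  have wU : W x w ∈ Z ⊔ H x 6 := mem_sup_right (W_mem l)
  have ac : ∀ y : List ℕ, y.all (· < 6) = true → d * W x w * W x y * (d * W x w)⁻¹ =
      W x (app (fa pc b₂ b₃ b₄ b₅) (w ++ y ++ w.reverse)) := fun y ly => by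
    rw [← A.w (all_range (by simp only [List.all_append, List.all_reverse, l, ly]; rfl)), W_append,
      W_append, h.zs.rev l]; group
  have k2 : Pi x Z (d * W x w) pc := h.zs.pmul kd (h.zs.pone wU)
  have m := mul_mem hd (o.U wU)
  have c2 : d * W x w * t = t * (d * W x w) := by rw [mul_assoc, wt, ← mul_assoc, c, mul_assoc]
  have mU := h.ker o (mul_mem m m) (h.zs.pmul k2 k2)
  have mZ := h.zs.cent mU (le_cen1_iff.1 (sup_le (le_cen1_iff.2 (h.zs.cZ mU)) (H_le fun r hr =>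
    mem_cen1.2 (mul_inv_eq_iff_eq_mul.1 (by
      have := ac _ (k1 r hr).1
      rw [h.pres.W_eq (k1 r hr).2, ← ac [r] (by simpa using hr)] at this
      simpa [mul_assoc] using this)).symm)))
  generalize d * W x w = d at m k2 c2 mZ
  obtain ⟨sa, su⟩ := h.swa o m k2
  have fx : d * (d * d) * d⁻¹ = d * d := by group
  rcases h.mem4 (h.Zt ⟨mZ, mul_mem (mem_cen1.2 c2) (mem_cen1.2 c2)⟩) with e | e | e | e
  exacts [⟨d, m, k2, c2, e⟩, absurd (by rw [← sa, ← e, fx, e, h.aa]) h.z1,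
    absurd (by rw [← su, ← e, fx, e, h.uu]) h.z1,
    ⟨d * a, mul_mem m (o.U (mem_sup_left h.aZ)), h.zs.pmul k2 (h.zs.pone (mem_sup_left h.aZ)),
      by rw [mul_assoc, h.ta, ← mul_assoc, c2, mul_assoc], by
      calc _ = d * a * d⁻¹ * (d * d) * a := by group
        _ = _ := by rw [sa, e, ← mul_assoc, h.uu, one_mul, h.aa]⟩]

theorem ntd (hd : d ∈ S) (k : Pi x Z d pc) (c : d * t = t * d) (hg : g ∈ cen1 t) :
    g * d * g⁻¹ ∉ cl [a, u, v, t, s] := fun m => by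
  rcases h.top with hT | ⟨d', k'⟩
  · exact h.notT hS o hT hd k c
  obtain ⟨ψ, h1, h2⟩ := k'.psi
  have n : cen1 t ≤ nor (ψ.ker.map (cen1 t).subtype) := fun g hg => mem_normalizer_fintype (by
    rintro _ ⟨y, hy, rfl⟩
    exact ⟨_, ψ.normal_ker.conj_mem y hy ⟨g, hg⟩, rfl⟩)
  have TK : cl [a, u, v, t, s] ≤ ψ.ker.map (cen1 t).subtype := fun y hy =>
    ⟨⟨y, (h.A.syl.le hy).1⟩, h1 _ hy, rfl⟩
  have le : cl [a, u, v, t, s, d'] ≤ cl [a, u, v, t, s] ⊔ zpowers d' := cl_le.2 fun y hy => by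
    rcases (by simpa [or_assoc] using hy : y ∈ [a, u, v, t, s] ∨ y = d') with k | rfl
    exacts [mem_sup_left (mem_cl k), mem_sup_right (mem_zpowers _)]
  have e : cl [a, u, v, t, s, d'] ⊓ ψ.ker.map (cen1 t).subtype ≤ cl [a, u, v, t, s] := fun y hy =>
    (H93.FZ.mem_ext k'.norT (by rcases k'.dd with e | e <;> simp [e, mem_cl]) (le hy.1)).resolve_right
      fun e => by
        obtain ⟨z, hz, rfl⟩ := (Subgroup.mul_mem_cancel_right _ hy.2).1 (TK e)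
        exact absurd ((h2 z.2).symm.trans hz) (by decide)
  exact h.notP hS o (h.TP (e (((k'.syl.inf_of_le_normalizer (map_subtype_le _) (k'.syl.le.trans n)).eq_of_le
    (o.two.to_le inf_le_left) (le_inf (e.trans (h.TP.trans o.ge)) inf_le_right) inf_le_right).le
    ⟨hd, (mem_normalizer_iff.1 (n hg) d).2 (TK m)⟩))) k

theorem dX (hX : AS X t) (tX : t ∉ X) (hn : ¬ ∃ n ∈ S, Pi x Z n pa) (hd : d ∈ S)
    (k : Pi x Z d pc) (c : d * t = t * d) (dd : d * d = 1) : d ∈ X := by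
  by_contra dX
  have yX : t * d ∈ X := (as_mul hX h.tt _ _).2 (iff_of_false tX dX)
  have yy : t * d * (t * d) = 1 := by rw [mul_assoc, ← mul_assoc d, c, mul_assoc, dd, mul_one, h.tt]
  have DX := h.DX hX
  have sp : ∀ j ∈ S, j * j = 1 → ∀ z, z * z = 1 → j * z ∈ Z ⊔ H x 6 → ∃ e ∈ Z, ∃ δ ∈ H x 6,
      j * z = e * δ ∧ j * δ * j⁻¹ * δ ∈ H x 6 ∧ j * e * j⁻¹ * e * (j * δ * j⁻¹ * δ) = 1 :=
    fun j hj jj z zz m => by
      obtain ⟨e, he, δ, hδ, e1⟩ := h.zs.dec0 m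
      have m1 := conj_mem_of_mem_normalizer (h.norD hS o (o.le hj)) hδ
      refine ⟨e, he, δ, hδ, e1, mul_mem m1 hδ, ?_⟩
      calc _ = j * e * j⁻¹ * (e * (j * δ * j⁻¹)) * δ := by group
        _ = j * (e * δ) * j⁻¹ * (e * δ) := by rw [h.zs.cm he m1]; group
        _ = 1 := by rw [← e1, ← zz, ← mul_assoc j, jj]; group
  refine tr_out hX hS (h.mu hS o) yy (o.two.to_le (cl2_le o.tS hd)) (mul_mem (m1 _ _) (m2 _ _))
    (cl2_le (mem_cen1.2 (by rw [mul_assoc, c])) (mem_cen1.2 (by rw [← mul_assoc, c])))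
    (fun g le m => ?_) yX
  have hy := le (conj_mem_cj (mul_mem (m1 t d) (m2 t d)))
  have h1 := le (conj_mem_cj (m1 t d))
  obtain ⟨p, kp⟩ := h.zs.exP (o.le hy)
  obtain ⟨q, kq⟩ := h.zs.exP (o.le h1)
  rcases h.noa hS o hn h1 kq with rfl | rfl | rfl | rfl
  · exact h.noD _ (h.ker o h1 kq) (isConj_iff.2 ⟨g, rfl⟩)
  · rcases (by decide +kernel : ∀ p : D4, (p = 1 ∨ p = pt ∨ p = pc ∨ p = pt') → lp p 0 = 0 →
      p = 1 ∨ p = pc) p (h.noa hS o hn hy kp) ((h.cen0 kp).1 m) with rfl | rfl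
    · obtain ⟨w, hw, e⟩ := h.cls' (h.kert o h1 kq) (conj_sq h.tt)
      have c1 := mem_cen1.2 (mul_inv_eq_iff_eq_mul.1 (adj e))
      have c2 := mul_mem (mul_mem c1 (mem_cen1.2 c)) (inv_mem c1)
      have m1 : t * (w⁻¹ * g * d * (w⁻¹ * g)⁻¹) ∈ Z ⊔ H x 6 := by
        convert mul_mem (mul_mem (inv_mem hw) (h.ker o hy kp)) hw using 1
        conv_lhs => rw [← adj e]
        group
      have c3 := mem_cen1.1 (mul_mem (mem_cen1.2 rfl) c2)
      exact h.ntd hS o hd k c c1 ((mul_mem_cancel_left (mem_cl (by simp))).1 (two h.toLc o.two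
        (h.TP.trans o.ge) (o.U m1) c3 (h.norA_of c3 (h.norE (h.zs.pone m1) (Or.inl rfl)))))
    · obtain ⟨e, he, δ, hδ, e1, -, e2⟩ := sp d hd dd _ (conj_sq yy)
        (h.ker o (mul_mem hd hy) (h.zs.pmul k kp))
      rw [(h.invc hS o k dd).2.2 δ hδ ((mul_mem_cancel_left (h.dΦ hS o hd k he)).1 (e2 ▸ one_mem _)),
        mul_one] at e2
      have eΦ : e ∈ H x 2 := by
        rcases h.dz hS o hd k he with c | c | c | c
        exacts [c.1, absurd (c.2.symm.trans e2) (h.zs.ne (w' := []) rfl),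
          absurd (c.2.symm.trans e2) (h.zs.ne (w' := []) rfl),
          absurd (c.2.symm.trans e2) (h.zs.ne (w' := []) rfl)]
      exact dX ((X.mul_mem_cancel_right (hX.normal.conj_mem _ yX g)).1
        (e1 ▸ DX (mul_mem (H_mono (by decide) eΦ) hδ)))
  · exact h.noc hS o h1 (isConj_iff.2 ⟨g, rfl⟩) kq
  obtain ⟨e, he, δ, hδ, e1, m1, e2⟩ := sp _ (mul_mem o.tS hd) yy _ (conj_sq h.tt)
    (h.ker o (mul_mem (mul_mem o.tS hd) h1) (h.zs.pmul (h.zs.pmul h.tP k) kq))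
  have eX : e ∉ X := fun m => tX ((as_conj hX (isConj_iff.2 ⟨g, rfl⟩)).2
    ((X.mul_mem_cancel_left yX).1 (e1 ▸ mul_mem m (DX hδ))))
  have m2 := h.tz he (((h.hZ e he).resolve_left fun m => eX (DX (H_mono (by decide) m))).resolve_left
    fun m => eX ((X.mul_mem_cancel_left (h.aX hX)).1 (DX (H_mono (by decide) m))))
  have m3 := (Subgroup.mul_mem_cancel_right _ m1).1 (e2 ▸ one_mem _)
  rw [show t * d * e * (t * d)⁻¹ * e = t * (d * e * d⁻¹ * e) * t⁻¹ * (t * (e * e)⁻¹ * e * t⁻¹ * e) by group,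
    h.Z2 e he, inv_one, mul_one] at m3
  exact h.aD ((Subgroup.mul_mem_cancel_right _ ((Subgroup.mul_mem_cancel_left _ (H_mono (by decide)
    (conj_mem_of_mem_normalizer h.tΦ (h.dΦ hS o hd k he)))).1 m3)).1 (H_mono (by decide) m2))

theorem bX' (hX : AS X t) (tX : t ∉ X) : b ∈ X := by
  by_contra bX
  have DX := h.DX hX
  have aX := h.aX hX
  have nD := fun g (hg : g ∈ S) => h.norD hS o (o.le hg)
  have aU : a ∈ Z ⊔ H x 6 := mem_sup_left h.aZ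
  have bU : b ∈ Z ⊔ H x 6 := mem_sup_left h.bZ
  have UX : ∀ g ∈ X, g ∈ Z ⊔ H x 6 → g ∈ H x 6 ∨ a * g ∈ H x 6 := fun g hg m => by
    rcases h.UD m with e | e | e | e
    exacts [Or.inl e, Or.inr e, absurd ((X.mul_mem_cancel_right hg).1 (DX e)) bX,
      absurd ((X.mul_mem_cancel_right aX).1 ((X.mul_mem_cancel_right hg).1 (DX e))) bX]
  have m1 : t * b ∈ S ⊓ X := ⟨mul_mem o.tS (o.U bU), (as_mul hX h.tt _ _).2 (iff_of_false tX bX)⟩
  have k1 : Pi x Z (t * b) pt := h.zs.pmul h.tP (h.zs.pone bU)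
  have bi := inv_eq_of_mul_eq_one_right h.bb
  obtain ⟨y, hy, q, kq, qq, hq, ay, gg, ga⟩ : ∃ y ∈ S ⊓ X, ∃ q, Pi x Z y q ∧ q * q = 1 ∧ (∀ g ∈ S, ∀ r,
      Pi x Z g r → r ∈ [1, pt, q, pt * q, q * pt, pt * q * pt, q * pt * q, pt * q * (pt * q)]) ∧
      y * a * y⁻¹ * a ∈ H x 6 ∧ t * b * y * (t * b)⁻¹ * y⁻¹ * (t * b * y * (t * b)⁻¹ * y⁻¹) ∈ H x 6 ∧
      a * (t * b * y * (t * b)⁻¹ * y⁻¹) ∉ H x 6 := by
    by_cases hn : ∃ n ∈ S, Pi x Z n pa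
    · obtain ⟨n, hn, k⟩ : ∃ n ∈ S ⊓ X, Pi x Z n pa := by
        obtain ⟨n, hn, k⟩ := hn
        by_cases c : n ∈ X
        exacts [⟨n, ⟨hn, c⟩, k⟩, ⟨n * b, ⟨mul_mem hn (o.U bU), (as_mul hX h.tt _ _).2
          (iff_of_false c bX)⟩, h.zs.pmul k (h.zs.pone bU)⟩]
      have mc := mul_mem (mul_mem (mul_mem m1 hn) (inv_mem m1)) (inv_mem hn)
      have kc : Pi x Z _ pc := h.zs.pmul (h.zs.pcj k1 k) (h.zs.pinv k)
      exact ⟨n, hn, _, k, rfl, fun _ _ r _ => allD r, h.aΦ' hS o mc.1 kc k.1,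
        (UX _ (mul_mem mc mc).2 (h.ker o (mul_mem mc mc).1 (h.zs.pmul kc kc))).resolve_right
          (h.sqc hS o mc.1 kc), fun m => h.notc hS o aU kc (mem_sup_right m)⟩
    by_cases hc : ∃ g ∈ S, Pi x Z g pc
    · obtain ⟨g, hg, k⟩ := hc
      obtain ⟨d, hd, k, c, dd⟩ := h.exi hS o hg k
      have e : t * b * d * (t * b)⁻¹ * d⁻¹ = x 1 := by
        calc _ = t * (b * (d * b⁻¹ * d⁻¹)) * (d * t * d⁻¹)⁻¹ := by group
          _ = _ := by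
            rw [bi, h.actb hS o hd k, ← mul_assoc b, h.bb, one_mul, c, mul_inv_cancel_right,
              h.zs.pz h.tP (by decide)]; rfl
      have m : x 1 ∈ H x 6 := x_mem (by decide)
      exact ⟨d, ⟨hd, h.dX hS o hX tX hn hd k c dd⟩, _, k, rfl, fun g hg r k => by
        rcases h.noa hS o hn hg k with rfl | rfl | rfl | rfl <;> decide, h.aΦ' hS o hd k k.1,
        e ▸ mul_mem m m, e ▸ fun k => h.aD ((Subgroup.mul_mem_cancel_right _ m).1 k)⟩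
    · refine ⟨1, one_mem _, 1, h.zs.pone (one_mem _), rfl, fun g hg r k => ?_, by simp [h.aa], by simp,
        by simpa using h.aD⟩
      rcases h.noa hS o hn hg k with rfl | rfl | rfl | rfl
      exacts [by decide, by decide, absurd ⟨g, hg, k⟩ hc,
        absurd ⟨_, mul_mem o.tS hg, h.zs.pmul h.tP k⟩ hc]
  obtain ⟨D, h1, h2, h3⟩ := gen (Y := S ⊓ X) (K := H x 6) (a := a) (x := t * b) (y := y)
    (h.leK hS o inf_le_left (fun g hg m => (UX g hg.2 m).elim mem_sup_left fun k =>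
      (mul_mem_cancel_left (mem_sup_right (mem_cl (by simp)))).1 (mem_sup_left k))
      ⟨m1, mem_sup_right (mem_cl (by simp))⟩ ⟨hy, mem_sup_right (mem_cl (by simp))⟩ k1 kq
      fun g hg => hq g hg.1)
    (nD _ (o.U aU)) (nD _ m1.1) (nD _ hy.1) (by
      rw [mul_assoc t, h.cZ h.bZ h.aZ, ← mul_assoc, ← h.ta, mul_assoc a, mul_inv_cancel_right, h.aa]
      exact one_mem _) ay h.aa (Or.inr (by
      rw [← mul_assoc (t * b), show t * b * t = b * a by rw [← h.tb, h.ti], h.cZ h.bZ h.aZ, mul_assoc a, h.bb,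
        mul_one, h.aa]
      exact one_mem _)) (UX _ (mul_mem hy hy).2 (h.ker o (mul_mem hy hy).1 (qq ▸ h.zs.pmul kq kq)))
    gg h.aD ga
  have ΦX : H x 2 ≤ Z ⊓ X := le_inf h.ΦZ ((H_mono (by decide)).trans DX)
  have z := h.zs.mono ΦX inf_le_left
  have RU : Z ⊓ X ⊔ H x 6 ≤ Z ⊔ H x 6 := sup_le_sup_right inf_le_left _
  have RX : Z ⊓ X ⊔ H x 6 ≤ X := sup_le inf_le_right DX
  have aR : a ∈ Z ⊓ X := ⟨h.aZ, aX⟩
  refine trX hX hS h1 h.aa h3 (mem_sup_left aR) (le_inf (RU.trans o.U) RX)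
    (fun y hy => mem_cen1.2 (h.zs.cm' h.aZ (RU hy))) fun g hg le => h2 ?_
  have c1 : cj g (Z ⊓ X ⊔ H x 6) ≤ X := cj_le_of_le RX (le_normalizer hg)
  have c2 := h.wc o ΦX inf_le_left aR le fun y hy => ⟨hy.2, c1 hy.1⟩
  have n : g ∈ nor (Z ⊓ X ⊔ H x 6) := mem_normalizer_of_cj_le fun y hy =>
    (UX y (c1 hy) (c2 hy)).elim mem_sup_right fun k =>
      (mul_mem_cancel_left (mem_sup_left aR)).1 (mem_sup_right k)
  have m := z.cjZ n aR
  exact h.cZ h.aZ m.1 ▸ (UX _ m.2 (mem_sup_left m.1)).resolve_left fun e =>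
    h.aΦ ((mem_normalizer_iff.1 (z.norΦ n) a).2 (h.ZD ⟨m.1, e⟩))

end WrW

theorem jobW4 (jS : JobS.{u}) : JobW4.{u} := by
  intro G _ _ X t v s u a σ ρ b x Z hX h
  obtain ⟨S, hS, o⟩ := h.exS
  have tX := h.tX hS o hX (Or.inr fun _ => h.noc hS o)
  have bX := h.bX' hS o hX tX
  have nc : ∀ g ∈ S, ∀ p, Pi x Z g p → p ≠ pc := fun g hg p k e => h.bX hS o hX hg (e ▸ k) bX
  have UX : Z ⊔ H x 6 ≤ X := fun g hg => by
    have DX := h.DX hX
    rcases h.UD hg with e | e | e | e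
    exacts [DX e, (X.mul_mem_cancel_left (h.aX hX)).1 (DX e), (X.mul_mem_cancel_left bX).1 (DX e),
      (X.mul_mem_cancel_left (mul_mem bX (h.aX hX))).1 (DX e)]
  have e : S ⊓ X = Z ⊔ H x 6 := le_antisymm (fun g hg => by
    obtain ⟨p, k⟩ := h.zs.exP (o.le hg.1)
    have m := mul_mem o.tS hg.1
    have k' := h.zs.pmul h.tP k
    rcases (by decide +kernel : ∀ p : D4, p ≠ pc → p * p ≠ pc → pt * p ≠ pc → pt * p * (pt * p) ≠ pc →
      p = 1 ∨ p = pt) p (nc _ hg.1 _ k) (nc _ (mul_mem hg.1 hg.1) _ (h.zs.pmul k k)) (nc _ m _ k')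
      (nc _ (mul_mem m m) _ (h.zs.pmul k' k')) with rfl | rfl
    exacts [h.ker o hg.1 k, absurd ((X.mul_mem_cancel_right hg.2).1 (UX (h.kert o hg.1 k))) tX])
    (le_inf o.U UX)
  have := hX.simple
  have m : ∀ i < 6, x i ∈ Z ⊔ H x 6 := fun i hi => mem_sup_right (x_mem hi)
  refine ⟨tX, jS X _ (e ▸ as_syl hX hS).subgroupOf_top ?_ (fun k => ?_)
    (commutator_le.2 fun g hg y hy => mem_cen_iff.2 fun z hz => Subtype.ext (h.zs.cm' ?_ hz).symm)⟩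
  · rw [Nat.card_congr (subgroupOfEquivOfLe UX).toEquiv, h.cU]
  · have := congrArg Subtype.val (mem_cen_iff.1 (k (x := ⟨_, UX (m 2 (by decide))⟩) (m 2 (by decide)))
      ⟨_, UX (m 4 (by decide))⟩ (m 4 (by decide)))
    exact h.zs.ne (w := [2, 4]) (w' := [4, 2]) (by decide +kernel) (by simpa using this)
  obtain ⟨e, he, w, hw, e1⟩ := h.zs.dec hy
  obtain ⟨e', he', e2⟩ := h.zs.pw (h.zs.pone hg) (S4_lt w hw)
  rw [(by decide +kernel : ∀ w ∈ S4, w.map (lp 1) = w) w hw] at e2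
  change X.subtype g * X.subtype y * (X.subtype g)⁻¹ * (X.subtype y)⁻¹ ∈ Z
  rw [e1, ← conj_mul, e2, h.zs.fix he hg]
  simpa [mul_assoc] using mul_mem he (mul_mem he' (inv_mem he))

end H49.NW
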