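import Cfsg.Agent.H49.NWPi

/-! DZ, branches NE and WA: `U` is weakly closed, the action of `N(U)` on `D₀`. -/

set_option autoImplicit false
set_option linter.unusedSectionVars false

namespace H49.NW

open Subgroup Cfsg H14 H98 H1.Gold H31.S2 H85.FZ H49.D8 H85.DZ

universe u

variable {G : Type u} [Group G] [Finite G] {t v s u a σ ρ g g' e e' j : G} {x : ℕ → G}
  {Z Z' F S : Subgroup G} {p q : D4}

/-- `P₂ ≤ S ≤ N(U)`. -/
structure Ov (t : G) (x : ℕ → G) (Z S : Subgroup G) : Prop where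
  two : IsPGroup 2 S
  ge : Z ⊔ H x 6 ⊔ zpowers t ≤ S
  le : S ≤ nor (Z ⊔ H x 6)

theorem Ov.U (o : Ov t x Z S) : Z ⊔ H x 6 ≤ S := le_sup_left.trans o.ge

theorem Ov.tS (o : Ov t x Z S) : t ∈ S := o.ge (mem_sup_right (mem_zpowers t))

/-- The action on `D₀`. -/
def fa (p : D4) (b₂ b₃ b₄ b₅ : Bool) : List (ℕ × List ℕ) :=
  [(0, [lp p 0]), (1, [lp p 1]), (2, ow b₂ [lp p 2 % 2] ++ [lp p 2]), (3, ow b₃ [lp p 3 % 2] ++ [lp p 3]),
    (4, ow b₄ [lp p 4 % 2] ++ [lp p 4]), (5, ow b₅ [lp p 5 % 2] ++ [lp p 5])]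

theorem all_range {w : List ℕ} {n : ℕ} (h : w.all (· < n) = true) :
    w.all (· ∈ List.range n) = true := by simpa using h

theorem adj {w y y' : G} (e : g * y * g⁻¹ = w * y' * w⁻¹) : w⁻¹ * g * y * (w⁻¹ * g)⁻¹ = y' := by
  calc _ = w⁻¹ * (g * y * g⁻¹) * w := by group
    _ = _ := by rw [e]; group

namespace Wr

variable (h : Wr t v s u a σ ρ x Z)
include h

theorem zs : Zs x Z := ⟨h.pres, h.ind, h.Z2, h.Zc, h.ΦZ, h.ZD⟩

theorem tP : Pi x Z t pt := h.zs.pt_ h.et h.tZ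

theorem ti : t⁻¹ = t := inv_eq_of_mul_eq_one_right h.tt

theorem memP (hg : g ∈ Z ⊔ H x 6 ⊔ zpowers t) : g ∈ Z ⊔ H x 6 ∨ t * g ∈ Z ⊔ H x 6 :=
  H93.FZ.mem_ext h.tP.1 (h.tt ▸ one_mem _) hg

theorem zΦ : u * a ∈ H x 2 := h.ez ▸ mul_mem (x_mem (by decide)) (x_mem (by decide))

theorem uZ : u ∈ Z := (mul_mem_cancel_right h.aZ).1 (h.ΦZ h.zΦ)

theorem z1 : u * a ≠ 1 := by simpa [h.ez] using h.zs.ne (w := [0, 1]) (w' := []) rfl

theorem TP : cl [a, u, v, t, s] ≤ Z ⊔ H x 6 ⊔ zpowers t := cl_le.2 fun y hy => by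
  simp only [List.mem_cons, List.not_mem_nil, or_false] at hy
  rcases hy with rfl | rfl | rfl | rfl | rfl
  exacts [mem_sup_left (mem_sup_left h.aZ), mem_sup_left (mem_sup_left h.uZ),
    h.ev ▸ mem_sup_left (mem_sup_right (mul_mem (x_mem (by decide)) (x_mem (by decide)))),
    mem_sup_right (mem_zpowers _),
    h.es ▸ mem_sup_left (mem_sup_right (mul_mem (x_mem (by decide)) (x_mem (by decide))))]

theorem norA_of (h1 : g * t = t * g) (h2 : g ∈ nor (Z ⊔ cl [x 2, x 3])) :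
    g ∈ nor (cl [a, u, v, t]) := by
  have e : g * t * g⁻¹ = t := by rw [h1, mul_inv_cancel_right]
  have m0 : g ∈ nor (cl [a, u, v]) := by
    rw [← cj_eq_self_iff, ← h.EAt, cj_inf, cj_cen1, e, cj_eq_self h2]
  refine nor_cl fun y hy => ?_
  simp only [List.mem_cons, List.not_mem_nil, or_false] at hy
  rcases hy with rfl | rfl | rfl | rfl
  iterate 3 exact cl_mono (by simp) (conj_mem_of_mem_normalizer m0 (mem_cl (by simp)))
  exact e.symm ▸ mem_cl (by simp)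

theorem norE (k : Pi x Z g p) (c : p = 1 ∨ p = pt) : g ∈ nor (Z ⊔ cl [x 2, x 3]) :=
  mem_normalizer_of_cj_le (h.zs.pE k (by decide) (by decide) (by rcases c with rfl | rfl <;> decide))

theorem cen0 (k : Pi x Z g p) : g ∈ cen1 (x 0) ↔ lp p 0 = 0 := by
  rw [mem_cen1, ← mul_inv_eq_iff_eq_mul, h.zs.pz k (by decide)]
  refine ⟨fun e => ?_, fun e => by rw [e]⟩
  by_contra c
  exact h.zs.ne ((by decide +kernel : ∀ p : D4, lp p 0 ≠ 0 → tbR.eqv [lp p 0] [0] = false) p c)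
    (by simpa using e)

theorem cenΦ (k : Pi x Z g p) (c : lp p 0 = 0) : g ∈ cen (H x 2) :=
  le_cen1_iff.1 (H_le fun i hi => mem_cen1.2 (mul_inv_eq_iff_eq_mul.1 (by
    rw [h.zs.pz k hi, (by decide +kernel : ∀ p : D4, lp p 0 = 0 → ∀ i < 2, lp p i = i) p c i hi])).symm)

theorem mem4 (he : e ∈ cl [a, u]) : e = 1 ∨ e = a ∨ e = u ∨ e = u * a := by
  obtain ⟨w, hw, rfl⟩ := h.toTr.pres.mem_cl rfl 2 (by decide) he
  simp only [subs, List.map_cons, List.map_nil, List.cons_append, List.nil_append, List.mem_cons,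
    List.not_mem_nil, or_false] at hw
  rcases hw with rfl | rfl | rfl | rfl <;> simp

section
variable (o : Ov t x Z S)
include o

theorem memP' (hg : g ∈ S) (k : g ∈ nor (Z ⊔ cl [x 2, x 3])) : g ∈ Z ⊔ H x 6 ⊔ zpowers t :=
  (h.syA.eq_of_le (o.two.to_le (inf_le_left (b := nor (Z ⊔ cl [x 2, x 3])))) (le_inf o.ge h.syA.le)
    inf_le_right).le ⟨hg, k⟩

theorem ker (hg : g ∈ S) (k : Pi x Z g 1) : g ∈ Z ⊔ H x 6 :=
  (h.memP (h.memP' o hg (h.norE k (Or.inl rfl)))).resolve_right fun e =>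
    absurd (h.zs.uniq (h.zs.pmul h.tP k) (h.zs.pone e)) (by decide)

theorem kert (hg : g ∈ S) (k : Pi x Z g pt) : t * g ∈ Z ⊔ H x 6 :=
  h.ker o (mul_mem o.tS hg) (h.zs.pmul h.tP k)

theorem ker2 (hg : g ∈ S) (hg' : g' ∈ S) (k : Pi x Z g p) (k' : Pi x Z g' p) :
    g'⁻¹ * g ∈ Z ⊔ H x 6 :=
  h.ker o (mul_mem (inv_mem hg') hg) (inv_mul_cancel p ▸ h.zs.pmul (h.zs.pinv k') k)

theorem cjt (hg : g ∈ S) (k : Pi x Z g p) (c : p * pt * p⁻¹ = pt) : ∃ w ∈ Z ⊔ H x 6,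
    g * t * g⁻¹ = w * t * w⁻¹ ∨
      (g * t * g⁻¹ = w * (t * a) * w⁻¹ ∧ a * (t * (g * t * g⁻¹)) ∈ H x 6) :=
  h.cls _ (h.kert o (mul_mem (mul_mem hg o.tS) (inv_mem hg)) (c ▸ h.zs.pcj k h.tP)) (conj_sq h.tt)

omit o in
theorem swap_nor (k : Pi x Z g pc) : g⁻¹ * ρ * g ∈ nor (Z ⊔ cl [x 2, x 3]) := by
  refine mem_normalizer_of_cj_le ?_
  rw [← cj_cj, ← cj_cj]
  exact (cj_mono _ (cj_le_of_le (h.zs.pE k (by decide) (by decide) (by decide)) h.ρB)).trans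
    (h.zs.pE (h.zs.pinv k) (by decide) (by decide) (by decide))

theorem swa (hg : g ∈ S) (k : Pi x Z g pc) : g * a * g⁻¹ = u ∧ g * u * g⁻¹ = a := by
  obtain ⟨w, hw, e⟩ := h.cjt o hg k (by decide)
  have k' : Pi x Z (w⁻¹ * g) pc := h.zs.pmul (h.zs.pone (inv_mem hw)) k
  obtain ⟨b, hb, e⟩ : ∃ b, (b = 1 ∨ b = a) ∧ w⁻¹ * g * t * (w⁻¹ * g)⁻¹ = t * b := by
    rcases e with e | ⟨e, -⟩
    exacts [⟨1, Or.inl rfl, by rw [mul_one, adj e]⟩, ⟨a, Or.inr rfl, adj e⟩]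
  have f : ∀ e ∈ Z, w⁻¹ * g * e * (w⁻¹ * g)⁻¹ = g * e * g⁻¹ := fun e he => by
    rw [← h.zs.fix (h.zs.cjZ k.1 he) (inv_mem hw)]; group
  rw [← f a h.aZ, ← f u h.uZ]
  generalize w⁻¹ * g = n at k' e
  have ρb : ρ * (t * b) * ρ⁻¹ = t * b := by
    rcases hb with rfl | rfl
    exacts [by rw [mul_one, h.B.σt], by rw [← conj_mul, h.B.σt, h.B.σu]]
  have c : n⁻¹ * ρ * n * t = t * (n⁻¹ * ρ * n) := by
    calc _ = n⁻¹ * (ρ * (n * t * n⁻¹) * ρ⁻¹) * ρ * n := by group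
      _ = _ := by rw [e, ρb, ← e]; group
  have k1 := (nA_fix h.toLc c (h.norA_of c (h.swap_nor k'))).1
  have k2 : ρ * (n * u * n⁻¹) * ρ⁻¹ = n * u * n⁻¹ := by
    conv_rhs => rw [← k1]
    group
  have m := h.zs.cjZ k'.1 h.uZ
  have k3 : n * u * n⁻¹ * t = t * (n * u * n⁻¹) := by
    have : n * u * n⁻¹ * (t * b) = t * b * (n * u * n⁻¹) := by rw [← e, conj_mul, conj_mul, h.ut]
    rcases hb with rfl | rfl
    · simpa using this
    · rwa [mul_assoc t, ← mem_cen_iff.1 (ab_of_sq h.Z2 m) _ h.aZ, ← mul_assoc, ← mul_assoc t,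
        mul_left_inj] at this
  have ne : ∀ w w', tbT.eqv w w' = false → W (val [a, u, v, t, s]) w ≠ W _ w' := fun _ _ =>
    h.toTr.pres.ne h.toTr.ind
  have k4 : n * u * n⁻¹ = a := by
    rcases h.mem4 (h.Zt ⟨m, mem_cen1.2 k3⟩) with e | e | e | e
    · exact absurd (by simpa using e) (ne [1] [] rfl)
    · exact e
    · rw [e, h.B.σa] at k2; exact absurd (by simpa using k2) (ne [4, 0] [1] rfl)
    · rw [e, ← conj_mul, h.B.σa, h.B.σu] at k2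
      exact absurd (by simpa [mul_assoc] using k2) (ne [4, 0, 0] [1, 0] rfl)
  have k5 := h.zs.pzz k'
  rw [h.ez, ← conj_mul, k4, ← h.au, mul_right_inj] at k5
  exact ⟨k5, k4⟩

theorem not_fix (hg : g ∈ S) (k : Pi x Z g p) (p1 : p ≠ 1) (c0 : g * x 0 = x 0 * g) :
    g * a ≠ a * g := fun ca => by
  have ua : ∀ g ∈ S, Pi x Z g pc → g * a ≠ a * g := fun g hg k e => h.z1 (by
    rw [← (h.swa o hg k).1, e, mul_inv_cancel_right, h.aa])
  rcases (by decide +kernel : ∀ p : D4, p ≠ 1 → lp p 0 = 0 → p = pc ∨ p * (pt * p * pt⁻¹) = pc) p p1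
    ((h.cen0 k).1 (mem_cen1.2 c0)) with rfl | e
  · exact ua g hg k ca
  · refine ua _ (mul_mem hg (mul_mem (mul_mem o.tS hg) (inv_mem o.tS)))
      (e ▸ h.zs.pmul k (h.zs.pcj h.tP k)) (mem_cen1.1 (mul_mem (mem_cen1.2 ca) (mul_mem (mul_mem
      (mem_cen1.2 h.ta.symm) (mem_cen1.2 ca)) (inv_mem (mem_cen1.2 h.ta.symm)))))

/-- Large elementary subgroups lie in `U`. -/
theorem alpha (hF : F ≤ S) (h2 : ∀ e ∈ F, e * e = 1) (ha : a ∈ Z') (h0 : x 0 ∈ Z') (le : F ⊓ Z ≤ Z')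
    (hc : 4 * Nat.card Z' ≤ Nat.card F) : F ≤ Z ⊔ H x 6 := by
  by_contra hn
  obtain ⟨f, hf, fU⟩ := SetLike.not_le_iff_exists.1 hn
  have ab := fun y hy => mem_cen_iff.1 (ab_of_sq h2 (x := y) hy)
  have ex : ∀ y ∈ F, ∃ p, Pi x Z y p ∧ p * p = 1 := fun y hy =>
    (h.zs.exP (o.le (hF hy))).imp fun p k => ⟨k, h.zs.uniq (h.zs.pmul k k)
      ((h2 y hy).symm ▸ h.zs.pone (one_mem _))⟩
  have cm : ∀ {y y' : G} {p q : D4}, y ∈ F → y' ∈ F → Pi x Z y p → Pi x Z y' q → p * q = q * p :=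
    fun hy hy' k k' => h.zs.uniq (h.zs.pmul k k') ((ab _ hy _ hy').symm ▸ h.zs.pmul k' k)
  obtain ⟨p, k, pp⟩ := ex f hf
  have p1 : p ≠ 1 := fun e => fU (h.ker o (hF hf) (e ▸ k))
  have i1 := two_le (le.lt_of_ne fun e => h.not_fix o (hF hf) k p1 (ab f hf _ (e.ge h0).1)
    (ab f hf _ (e.ge ha).1))
  have dc : ∀ y ∈ F, y ∈ Z ⊔ H x 6 → ∃ e ∈ Z, ∃ w ∈ S4, y = e * W x w ∧ W x w * W x w = 1 ∧
      ∀ f ∈ F, ∀ p, Pi x Z f p → inΦ (w.map (lp p) ++ w.reverse) = true := fun y hy k => by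
    obtain ⟨e, he, w, hw, rfl⟩ := h.zs.dec k
    exact ⟨e, he, w, hw, rfl, by rw [← h.zs.sq he (W_mem (S4_lt w hw)), h2 _ hy],
      fun f hf p k => h.zs.pfix k he hw (ab f hf _ hy)⟩
  have pos : 0 < Nat.card Z' := Nat.card_pos
  by_cases c : ∃ f₀ ∈ F, Pi x Z f₀ pc
  · obtain ⟨f₀, m₀, k₀⟩ := c
    let K : Subgroup G :=
      { carrier := {g | Pi x Z g 1 ∨ Pi x Z g pc}
        mul_mem' := fun k k' => by
          rcases k with k | k <;> rcases k' with k' | k' <;> have := h.zs.pmul k k'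
          exacts [Or.inl this, Or.inr this, Or.inr this, Or.inl this]
        one_mem' := Or.inl (h.zs.pone (one_mem _))
        inv_mem' := fun k => k.imp h.zs.pinv h.zs.pinv }
    have UZ : ∀ y ∈ F, Pi x Z y 1 → y ∈ Z := fun y hy k => by
      obtain ⟨e, he, w, hw, rfl, k1, k2⟩ := dc y hy (h.ker o (hF hy) k)
      rwa [(by decide +kernel : ∀ w ∈ S4, tbR.eqv (w ++ w) [] = true →
        inΦ (w.map (lp pc) ++ w.reverse) = true → w = []) w hw (h.zs.eqv (by simpa using k1))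
        (k2 f₀ m₀ _ k₀), W_nil, mul_one]
    have i2 := card_le2 (F := F) (K := K) fun y hy y' hy' n n' => by
      obtain ⟨q, k, qq⟩ := ex y hy
      obtain ⟨q', k', qq'⟩ := ex y' hy'
      rcases (by decide +kernel : ∀ q q' : D4, q * q = 1 → q' * q' = 1 → q * q' = q' * q →
        (q ≠ 1 ∧ q ≠ pc) → (q' ≠ 1 ∧ q' ≠ pc) → q * q' = 1 ∨ q * q' = pc) q q' qq qq' (cm hy hy' k k')
        ⟨fun e => n (Or.inl (e ▸ k)), fun e => n (Or.inr (e ▸ k))⟩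
        ⟨fun e => n' (Or.inl (e ▸ k')), fun e => n' (Or.inr (e ▸ k'))⟩ with e | e
      exacts [Or.inl (e ▸ h.zs.pmul k k'), Or.inr (e ▸ h.zs.pmul k k')]
    have i3 := card_le2 (F := F ⊓ K) (K := Z) fun y hy y' hy' n n' =>
      UZ _ (mul_mem hy.1 hy'.1) (h.zs.pmul (hy.2.resolve_left fun e => n (UZ y hy.1 e))
        (hy'.2.resolve_left fun e => n' (UZ y' hy'.1 e)))
    have i4 := card_le_of_le (inf_le_inf_right Z (inf_le_left (a := F) (b := K)))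
    omega
  · have c' : ∀ y ∈ F, ∀ q, Pi x Z y q → q ≠ pc := fun y hy q k e => c ⟨y, hy, e ▸ k⟩
    have i2 := card_le2 (F := F) (K := Z ⊔ H x 6) fun y hy y' hy' n n' => by
      obtain ⟨q, k, qq⟩ := ex y hy
      obtain ⟨q', k', qq'⟩ := ex y' hy'
      exact h.ker o (hF (mul_mem hy hy')) ((by decide +kernel : ∀ q q' : D4, q * q = 1 → q' * q' = 1 →
        q * q' = q' * q → (q ≠ 1 ∧ q ≠ pc) → (q' ≠ 1 ∧ q' ≠ pc) → q * q' ≠ pc → q * q' = 1) q q' qq qq'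
        (cm hy hy' k k') ⟨fun e => n (h.ker o (hF hy) (e ▸ k)), c' y hy q k⟩
        ⟨fun e => n' (h.ker o (hF hy') (e ▸ k')), c' y' hy' q' k'⟩
        (c' _ (mul_mem hy hy') _ (h.zs.pmul k k')) ▸ h.zs.pmul k k')
    have i3 := card_le2 (F := F ⊓ (Z ⊔ H x 6)) (K := Z) fun y hy y' hy' n n' => by
      have cy := ab y hy.1 y' hy'.1
      obtain ⟨e, he, w, hw, rfl, k1, k2⟩ := dc y hy.1 hy.2
      obtain ⟨e', he', w', hw', rfl, k1', k2'⟩ := dc y' hy'.1 hy'.2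
      rw [h.zs.mm he' (W_mem (S4_lt w hw)), h.zs.mm he (W_mem (S4_lt w' hw')),
        mem_cen_iff.1 (ab_of_sq h.Z2 he) _ he', mul_right_inj] at cy
      obtain rfl := (by decide +kernel : ∀ p : D4, p ≠ 1 → p ≠ pc → p * p = 1 → ∀ w ∈ S4, w ≠ [] →
        tbR.eqv (w ++ w) [] = true → inΦ (w.map (lp p) ++ w.reverse) = true → ∀ w' ∈ S4, w' ≠ [] →
        tbR.eqv (w' ++ w') [] = true → inΦ (w'.map (lp p) ++ w'.reverse) = true →
        tbR.eqv (w ++ w') (w' ++ w) = true → w = w') p p1 (c' f hf p k) pp w hw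
        (fun e => n (by simpa [e] using he)) (h.zs.eqv (by simpa using k1)) (k2 f hf p k) w' hw'
        (fun e => n' (by simpa [e] using he')) (h.zs.eqv (by simpa using k1')) (k2' f hf p k)
        (h.zs.eqv (by simpa using cy))
      rw [h.zs.mm he' (W_mem (S4_lt w hw)), k1, mul_one]
      exact mul_mem he he'
    have i4 := card_le_of_le (inf_le_inf_right Z (inf_le_left (a := F) (b := Z ⊔ H x 6)))
    omega

theorem wc (h1 : H x 2 ≤ Z') (h2 : Z' ≤ Z) (ha : a ∈ Z') (k1 : cj g (Z' ⊔ H x 6) ≤ S)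
    (k2 : cj g (Z' ⊔ H x 6) ⊓ Z ≤ Z') : cj g (Z' ⊔ H x 6) ≤ Z ⊔ H x 6 := by
  have k : ∀ i < 6, ∀ j < 6, tbR.same [i, j] [j, i] = true →
      (inΦ [i] = false ∧ inΦ [j] = false ∧ inΦ [i, j] = false) →
      cj g (Z' ⊔ cl [x i, x j]) ≤ Z ⊔ H x 6 := fun i hi j hj c c' => by
    obtain ⟨e1, e2⟩ := (h.zs.mono h1 h2).elE hi hj c c'
    have le : cj g (Z' ⊔ cl [x i, x j]) ≤ cj g (Z' ⊔ H x 6) :=
      cj_mono g (sup_le_sup_left (cl2_le (x_mem hi) (x_mem hj)) _)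
    exact h.alpha o (le.trans k1) (fun y hy => by
      simpa [mul_assoc] using congrArg (fun r => g * r * g⁻¹) (e1 _ (mem_cj.1 hy))) ha
      (h1 (x_mem (by decide))) ((inf_le_inf_right _ le).trans k2) (by rw [card_cj, e2])
  have kA := cj_le_iff.1 (k 2 (by decide) 3 (by decide) rfl (by decide +kernel))
  have kB := cj_le_iff.1 (k 4 (by decide) 5 (by decide) rfl (by decide +kernel))
  refine cj_le_iff.2 (sup_le (le_sup_left.trans kA) (H_le fun i hi => ?_))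
  interval_cases i
  exacts [kA (mem_sup_left (h1 (x_mem (by decide)))), kA (mem_sup_left (h1 (x_mem (by decide)))),
    kA (mem_sup_right (m1 _ _)), kA (mem_sup_right (m2 _ _)), kB (mem_sup_right (m1 _ _)),
    kB (mem_sup_right (m2 _ _))]

theorem wcU (k : cj g (Z ⊔ H x 6) ≤ S) : g ∈ nor (Z ⊔ H x 6) :=
  mem_normalizer_of_cj_le (h.wc o h.ΦZ le_rfl h.aZ k inf_le_right)

end

theorem exS : ∃ S, IsSyl 2 S ⊤ ∧ Ov t x Z S := by
  obtain ⟨S, hS, e⟩ := exists_isSyl_le h.syA.isPGroup le_top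
  refine ⟨S, hS, hS.isPGroup, e, ?_⟩
  by_contra hn
  have o : Ov t x Z (S ⊓ nor (Z ⊔ H x 6)) := ⟨hS.isPGroup.to_le inf_le_left,
    le_inf e (sup_le le_normalizer (zpowers_le.2 h.tP.1)), inf_le_right⟩
  obtain ⟨w, ⟨w1, w2⟩, w3⟩ := SetLike.exists_of_lt (lt_inf_normalizer hS.isPGroup
    (inf_le_left.lt_of_ne fun k => hn (inf_eq_left.1 k)))
  exact w3 ⟨w1, h.wcU o (cj_le_of_le o.U w2)⟩

variable (hS : IsSyl 2 S ⊤) (o : Ov t x Z S)
include hS o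

theorem burn (he : e ∈ Z) (he' : e' ∈ Z) (c : IsConj e e') :
    ∃ n ∈ nor (Z ⊔ H x 6), n * e * n⁻¹ = e' := by
  obtain ⟨g, rfl⟩ := isConj_iff.1 c
  have le : ∀ e ∈ Z, Z ⊔ H x 6 ≤ cen1 e := fun e he y hy => mem_cen1.2 (h.zs.cm' he hy)
  obtain ⟨R, hR, e1⟩ := exists_isSyl_le h.zs.two (le _ he')
  obtain ⟨k, k1, k2⟩ := hR.exists_cj_le (isPGroup_cj g h.zs.two)
    (by rw [← cj_cen1]; exact cj_mono g (le e he))
  obtain ⟨j, -, j2⟩ := hS.exists_cj_le hR.isPGroup le_top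
  have n1 := h.wcU o ((cj_mono j e1).trans j2)
  have n2 := h.wcU o (g := j * (k * g)) (by rw [← cj_cj, ← cj_cj]; exact (cj_mono j k2).trans j2)
  refine ⟨k * g, (mul_mem_cancel_left n1).1 n2, ?_⟩
  calc _ = k * (g * e * g⁻¹) * k⁻¹ := by group
    _ = _ := by rw [mem_cen1.1 k1, mul_inv_cancel_right]

theorem fine (k : Pi x Z g p) : ∃ b₂ b₃ b₄ b₅, Act x g (List.range 6) (fa p b₂ b₃ b₄ b₅) := by
  have f : ∀ r < 4, ∃ b, g * x (r + 2) * g⁻¹ = W x (ow b [lp p (r + 2) % 2] ++ [lp p (r + 2)]) :=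
    fun r hr => by
      obtain ⟨e, he, e1⟩ := k.2 (r + 2) (by omega)
      obtain ⟨i, hi, e2⟩ : ∃ i < 4, lp p (r + 2) = i + 2 :=
        (by decide +kernel : ∀ p : D4, ∀ r < 4, ∃ i < 4, lp p (r + 2) = i + 2) p r hr
      obtain ⟨e', he', c1, c2⟩ := h.fus i hi e he
      have c0 : IsConj (x 0) (x (r % 2)) := by
        rcases Nat.mod_two_eq_zero_or_one r with e | e <;> rw [e]
        exact isConj_iff.2 ⟨t, h.zs.pz h.tP (by decide)⟩
      obtain ⟨n, hn, e3⟩ := h.burn hS o (h.ΦZ (x_mem (by decide))) he' ((c0.trans (h.fz r hr)).trans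
        ((isConj_iff.2 ⟨g, by rw [e1, e2, h.zs.cm he (x_mem (by omega))]⟩).trans c1))
      obtain ⟨q, kq⟩ := h.zs.exP hn
      rw [h.zs.pz kq (by decide)] at e3
      rw [e1, e2]
      rcases c2 (((by decide +kernel : ∀ q : D4, lp q 0 = 0 ∨ lp q 0 = 1) q).imp
        (fun e => by rw [← e3, e]) fun e => by rw [← e3, e]) with rfl | rfl
      exacts [⟨false, by simp [ow]⟩, ⟨true, by simp [ow]⟩]
  obtain ⟨b₂, e₂⟩ := f 0 (by decide)
  obtain ⟨b₃, e₃⟩ := f 1 (by decide)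
  obtain ⟨b₄, e₄⟩ := f 2 (by decide)
  obtain ⟨b₅, e₅⟩ := f 3 (by decide)
  refine ⟨b₂, b₃, b₄, b₅, fun r hr => ?_⟩
  have hr := List.mem_range.1 hr
  interval_cases r
  exacts [by simpa [fa, app] using h.zs.pz k (i := 0) (by decide),
    by simpa [fa, app] using h.zs.pz k (i := 1) (by decide), by simpa [fa, app] using e₂,
    by simpa [fa, app] using e₃, by simpa [fa, app] using e₄, by simpa [fa, app] using e₅]

theorem norD (hg : g ∈ nor (Z ⊔ H x 6)) : g ∈ nor (H x 6) := by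
  obtain ⟨p, k⟩ := h.zs.exP hg
  obtain ⟨b₂, b₃, b₄, b₅, A⟩ := h.fine hS o k
  exact A.nor ((by decide +kernel : ∀ p b₂ b₃ b₄ b₅,
    (app (fa p b₂ b₃ b₄ b₅) (List.range 6)).all (· < 6) = true) p b₂ b₃ b₄ b₅)

omit hS o h in
theorem fa_lt : ∀ b₂ b₃ b₄ b₅, ∀ r < 6, (app (fa pc b₂ b₃ b₄ b₅) [r]).all (· ∈ List.range 6) = true := by
  decide +kernel

theorem sqc (hg : g ∈ S) (k : Pi x Z g pc) : a * (g * g) ∉ H x 6 := fun m => by
  obtain ⟨b₂, b₃, b₄, b₅, A⟩ := h.fine hS o k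
  obtain ⟨w, hw, e⟩ := h.zs.word m
  have l := subs_lt hw
  have e1 : g * g = a * W x w := by rw [← e, ← mul_assoc, h.aa, one_mul]
  obtain c | ⟨r, hr, c⟩ := (by decide +kernel : ∀ b₂ b₃ b₄ b₅, ∀ w ∈ subs 6,
    tbR.eqv (app (fa pc b₂ b₃ b₄ b₅) w) ([0, 1] ++ w) = false ∨ ∃ r < 6, tbR.eqv (app (fa pc b₂ b₃ b₄ b₅)
      (app (fa pc b₂ b₃ b₄ b₅) [r])) (w ++ [r] ++ w.reverse) = false) b₂ b₃ b₄ b₅ w hw
  · refine h.zs.ne c ?_
    have : g * (a * W x w) * g⁻¹ = a * W x w := by rw [← e1]; group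
    rw [← conj_mul, (h.swa o hg k).1] at this
    rw [← A.w (all_range l), ← inv_mul_cancel_left u (g * _ * _), this, inv_eq_of_mul_eq_one_right h.uu,
      ← mul_assoc, ← h.ez]; simp [mul_assoc]
  · refine h.zs.ne c ?_
    rw [← A.mul A (w := [r]) (by simpa using hr) (fa_lt _ _ _ _ r hr), e1, W_append, W_append,
      h.zs.rev l, show a * W x w * W x [r] * (a * W x w)⁻¹ = a * (W x w * W x [r] * (W x w)⁻¹) * a⁻¹ by
        group, h.zs.cm h.aZ (mul_mem (mul_mem (W_mem l) (W_mem (w := [r]) (by simpa using hr)))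
        (inv_mem (W_mem l))), mul_inv_cancel_right]

theorem invc (k : Pi x Z j pc) (jj : j * j = 1) : j * W x [2, 4] * j⁻¹ = W x [2, 4, 0] ∧
    j * W x [3, 5] * j⁻¹ = W x [3, 5, 1] ∧ ∀ d ∈ H x 6, j * d * j⁻¹ * d ∈ H x 2 → j * d * j⁻¹ * d = 1 := by
  obtain ⟨b₂, b₃, b₄, b₅, A⟩ := h.fine hS o k
  obtain ⟨c1, c2, c3⟩ := (by decide +kernel : ∀ b₂ b₃ b₄ b₅, (∀ r < 6, tbR.eqv (app (fa pc b₂ b₃ b₄ b₅)
      (app (fa pc b₂ b₃ b₄ b₅) [r])) [r] = true) →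
      tbR.same (app (fa pc b₂ b₃ b₄ b₅) [2, 4]) [2, 4, 0] = true ∧
      tbR.same (app (fa pc b₂ b₃ b₄ b₅) [3, 5]) [3, 5, 1] = true ∧ ∀ w ∈ subs 6,
        inΦ (app (fa pc b₂ b₃ b₄ b₅) w ++ w) = true →
        tbR.same (app (fa pc b₂ b₃ b₄ b₅) w ++ w) [] = true) b₂ b₃ b₄ b₅ fun r hr => h.zs.eqv (by
    rw [← A.mul A (w := [r]) (by simpa using hr) (fa_lt _ _ _ _ r hr), jj]; simp)
  refine ⟨(A.w rfl).trans (h.pres.W_eq c1), (A.w rfl).trans (h.pres.W_eq c2), fun d hd m => ?_⟩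
  obtain ⟨w, hw, rfl⟩ := h.zs.word hd
  rw [A.w (all_range (subs_lt hw)), ← W_append] at m ⊢
  exact h.pres.W_eq (c3 w hw (h.zs.inΦ_of m))

theorem nob (hj : j ∈ S) (jj : j * j = 1) (k : Pi x Z j p) (c : p = pc ∨ p = pt') :
    a * (t * (j * t * j⁻¹)) ∉ H x 6 := fun m => by
  have ji := inv_eq_of_mul_eq_one_right jj
  rcases c with rfl | rfl
  · have e : j * (a * (t * (j * t * j⁻¹))) * j⁻¹ * (a * (t * (j * t * j⁻¹))) = u * a := by
      have e1 : j * (t * (j * t * j⁻¹)) * j⁻¹ = (t * (j * t * j⁻¹))⁻¹ := by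
        rw [ji, mul_inv_rev, mul_inv_rev, mul_inv_rev, ji, h.ti, mul_assoc, mul_assoc, mul_assoc, jj]
        group
      have e2 := h.zs.cm h.aZ m
      rw [mul_assoc a _ a, mul_right_inj] at e2
      rw [← conj_mul, (h.swa o hj k).1, e1, e2]; group
    exact h.z1 (e ▸ (h.invc hS o k jj).2.2 _ m (e ▸ h.zΦ))
  · exact h.sqc hS o (mul_mem o.tS hj) (h.zs.pmul h.tP k) (by simpa [ji, mul_assoc] using m)

theorem exd (hj : j ∈ S) (jj : j * j = 1) (k : Pi x Z j p) (c : p = pc ∨ p = pt') :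
    ∃ w ∈ Z ⊔ H x 6, j * t * j⁻¹ = w * t * w⁻¹ :=
  (h.cjt o hj k (by rcases c with rfl | rfl <;> decide)).imp fun _ e =>
    ⟨e.1, e.2.resolve_right fun e => h.nob hS o hj jj k c e.2⟩

end Wr

end H49.NW
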