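/- Tower R5, job S2: `P` is normal in `M`. -/
import Cfsg.Agent.H34.R5Spec
import Cfsg.Agent.H2.MinNormal
import Cfsg.Agent.H2.PrimeCore
import Cfsg.Agent.S0017
import Cfsg.Agent.S0058
import Cfsg.Agent.S0126
import Cfsg.Agent.S0205

set_option autoImplicit false

namespace H49.R5S2

open Cfsg Subgroup H41.IT H34.R5

universe u

theorem not_pe {G : Type*} [Group G] {s : ℕ} {g : G} (hp : (orderOf g).Prime) (h : orderOf g ≠ s) :
    ¬ PE s g := fun ⟨_, hk⟩ => h ((Nat.Prime.pow_eq_iff hp).1 hk.symm).1.symm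

theorem mem_norm {G : Type*} [Group G] {n v : G} (h : C (n * v * n⁻¹) = C v) :
    n ∈ normalizer (C v : Set G) := by
  refine mem_normalizer_iff.2 fun k => ?_
  conv_rhs => rw [← h]
  rw [mem_C, mem_C]
  refine ⟨fun m => ?_, fun m => ?_⟩
  · have := m.eq
    change _ = _
    calc n * k * n⁻¹ * (n * v * n⁻¹) = n * (k * v) * n⁻¹ := by group
      _ = n * v * n⁻¹ * (n * k * n⁻¹) := by rw [this]; group
  · have := m.eq
    change _ = _
    calc k * v = n⁻¹ * (n * k * n⁻¹ * (n * v * n⁻¹)) * n := by group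
      _ = v * k := by rw [this]; group

theorem jobS2 : JobS2.{u} := by
  intro PN G _ _ x y e s hs P M bs t1 gf mf hN
  have hsb : s ∣ c y := by
    obtain ⟨j, hj, h⟩ := t1.pw
    exact h ▸ (dvd_pow_self s hj.ne').mul_left e
  haveI : Group.IsSolvable M := Cfsg.Agent.S0205.result mf.odd
  have hPe : ∀ k ∈ (P : Subgroup G), PE s k := fun k hk => by
    obtain ⟨j, hj⟩ := (IsPGroup.iff_orderOf.1 P.isPGroup') ⟨k, hk⟩
    exact ⟨j, by rw [← hj, orderOf_mk]⟩
  have hPb : ∀ k ∈ (P : Subgroup G), orderOf k ∣ c y := fun k hk =>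
    (Subgroup.orderOf_dvd_natCard _ hk).trans
      (by rw [bs.sylow_card hsb P]; exact Nat.ordProj_dvd _ _)
  have gd : ∀ t : G, (orderOf t).Prime → orderOf t ≠ s → ∀ k ∈ (P : Subgroup G), k ≠ 1 →
      Commute t k → Gd y s t := fun t h1 h2 k hk k1 hc => ⟨h1, h2, bs.ord_dvd k1 (hPb k hk) hc⟩
  have h1 : pPrimeCore s M = ⊥ := by
    by_contra h
    obtain ⟨W, W1, WP, MW⟩ := mf.nW
    obtain ⟨w, hw, w1⟩ := W.bot_or_exists_ne_one.resolve_left W1
    obtain ⟨q, V, hq, Vn, VO, V1, ⟨Vc, Ve⟩, -, -⟩ :=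
      H2.exists_elementaryAbelian_normal_le (pPrimeCore s M) h
    haveI := Fact.mk hq
    obtain ⟨v, hv, v1⟩ := V.bot_or_exists_ne_one.resolve_left V1
    have ov : ∀ v ∈ V, v ≠ 1 → orderOf (v : G) = q := fun v hv v1 => by
      rw [orderOf_coe]; exact orderOf_eq_prime (Ve v hv) v1
    have qs : q ≠ s := by
      rintro rfl
      have := H2.coprime_orderOf_of_mem_pPrimeCore (VO hv)
      rw [← orderOf_coe, ov v hv v1, Nat.coprime_self] at this
      exact hq.one_lt.ne' this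
    have hc : Commute (v : G) w := by
      let w' : M := ⟨w, mf.le (WP hw)⟩
      have d1 : v * (w' * v⁻¹ * w'⁻¹) ∈ V := V.mul_mem hv (Vn.conj_mem _ (V.inv_mem hv) w')
      have d2 : ((v * (w' * v⁻¹ * w'⁻¹) : M) : G) ∈ W := by
        have := W.mul_mem ((mem_normalizer_iff.1 (MW v.2) w).1 hw) (W.inv_mem hw)
        simpa [w', mul_assoc] using this
      have d3 : v * (w' * v⁻¹ * w'⁻¹) = 1 := by
        by_contra d
        exact not_pe (by rw [ov _ d1 d]; exact hq) (by rw [ov _ d1 d]; exact qs) (hPe _ (WP d2))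
      have d4 := congrArg Subtype.val d3
      simp only [w', coe_mul, coe_inv, coe_one] at d4
      change _ = _
      calc (v : G) * w = v * (w * (v : G)⁻¹ * w⁻¹) * (w * v) := by group
        _ = w * v := by rw [d4, one_mul]
    have g1 : Gd y s (v : G) :=
      gd v (by rw [ov v hv v1]; exact hq) (by rw [ov v hv v1]; exact qs) w (WP hw) w1 hc
    refine hN v g1 fun n hn => mem_norm ?_
    have m1 : (⟨n, hn⟩ * v * (⟨n, hn⟩ : M)⁻¹) ∈ V := Vn.conj_mem v hv _
    have m2 : (⟨n, hn⟩ * v * (⟨n, hn⟩ : M)⁻¹) ≠ 1 := by simpa using v1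
    refine gf.ti v g1 _ (mem_C.2 ?_) (not_pe (g := ((⟨n, hn⟩ * v * (⟨n, hn⟩ : M)⁻¹ : M) : G))
      (by rw [ov _ m1 m2]; exact hq) (by rw [ov _ m1 m2]; exact qs))
    exact congrArg (fun t : V => ((t : M) : G)) (Vc.is_comm.comm ⟨_, m1⟩ ⟨v, hv⟩)
  have h2 := Cfsg.Agent.S0017.result s h1
  have hO : ∀ k ∈ pCore s M, (k : G) ∈ (P : Subgroup G) := fun k hk =>
    H2.pCore_le_sylow (P.subtype mf.le) hk
  have h3 : ∀ (r : ℕ) (R : Sylow r M), r.Prime → r ≠ s → IsCyclic R := by
    intro r R hr rs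
    haveI := Fact.mk hr
    by_contra hnc
    have r2 : r ≠ 2 := by
      rintro rfl
      obtain ⟨k, hk⟩ := IsPGroup.iff_card.1 R.isPGroup'
      have ho : Odd (2 ^ k) := hk ▸ mf.odd.of_dvd_nat (card_subgroup_dvd_card _)
      have hk0 : k = 0 := by
        by_contra h0
        exact (Nat.not_odd_iff_even.2 ((Nat.even_pow' h0).2 even_two)) ho
      rw [hk0, pow_zero] at hk
      haveI := (Nat.card_eq_one_iff_unique.1 hk).1
      exact hnc inferInstance
    obtain ⟨A, -, ⟨Ac, Ae⟩, Acard⟩ := Cfsg.Agent.S0126.result r2 R.isPGroup' hnc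
    obtain ⟨E, hE⟩ : ∃ E : Subgroup M, E = A.map (R : Subgroup M).subtype := ⟨_, rfl⟩
    have Ecard : Nat.card E = r ^ 2 := by rw [hE, card_subtype, Acard]
    have Ee : ∀ a ∈ E, a ^ r = 1 := by
      rw [hE]
      rintro _ ⟨a, ha, rfl⟩
      rw [← map_pow, Ae a ha, map_one]
    haveI Ec : IsMulCommutative E := by rw [hE]; infer_instance
    have oa : ∀ a ∈ E, a ≠ 1 → orderOf (a : G) = r := fun a ha a1 => by
      rw [orderOf_coe]; exact orderOf_eq_prime (Ee a ha) a1
    have Enc : ¬ IsCyclic E := fun hc => by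
      obtain ⟨g, hg⟩ := IsCyclic.exists_ofOrder_eq_natCard (α := E)
      have h4 : orderOf g ∣ r := orderOf_dvd_of_pow_eq_one (Subtype.ext (Ee g g.2))
      rw [hg, Ecard] at h4
      have := Nat.le_of_dvd hr.pos h4
      nlinarith [hr.one_lt]
    have hcop : (Nat.card E).Coprime (Nat.card (pCore s M)) := by
      obtain ⟨k, hk⟩ := IsPGroup.iff_card.1 (H2.pCore_isPGroup s M)
      rw [Ecard, hk]
      exact Nat.Coprime.pow _ _ ((Nat.coprime_primes hr hs.1).2 rs)
    have h5 := Cfsg.Agent.S0058.result E (pCore s M) Enc le_normalizer_of_normal hcop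
    have h6 : pCore s M ≤ centralizer (E : Set M) := by
      rw [← h5]
      refine iSup₂_le fun a ha k hk => mem_centralizer_iff.2 fun b hb => ?_
      by_cases k1 : k = 1
      · simp [k1]
      by_cases b1 : b = 1
      · simp [b1]
      have c1 : Commute (a : G) k :=
        congrArg Subtype.val (mem_centralizer_iff.1 hk.2 a rfl)
      have g1 : Gd y s (a : G) := gd a (by rw [oa a ha.1 ha.2]; exact hr)
        (by rw [oa a ha.1 ha.2]; exact rs) k (hO k hk.1) (fun h => k1 (Subtype.ext h)) c1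
      have c2 : Commute (b : G) a :=
        congrArg (fun t : E => ((t : M) : G)) (Ec.is_comm.comm ⟨b, hb⟩ ⟨a, ha.1⟩)
      have c3 := gf.ti a g1 b (mem_C.2 c2)
        (not_pe (by rw [oa b hb b1]; exact hr) (by rw [oa b hb b1]; exact rs))
      have c4 : (k : G) ∈ C (b : G) := c3 ▸ mem_C.2 c1.symm
      exact Subtype.ext (mem_C.1 c4).symm.eq
    have E1 : E ≠ ⊥ := fun h => Enc (by rw [h]; infer_instance)
    obtain ⟨a, ha, a1⟩ := E.bot_or_exists_ne_one.resolve_left E1
    exact not_pe (by rw [oa a ha a1]; exact hr) (by rw [oa a ha a1]; exact rs)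
      (hPe _ (hO a (h2 (le_centralizer_iff.1 h6 ha))))
  have h4 := PN M inferInstance s (P.subtype mf.le) h3 mf.res
  rw [Sylow.coe_subtype] at h4
  exact (normal_subgroupOf_iff_le_normalizer mf.le).1 h4

end H49.R5S2
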