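import Cfsg.Agent.H70.RRSpec
import Cfsg.Agent.H30.ReeCent
import Cfsg.Agent.H68.ReeAlg

/-! Slot RR-Aut: the automorphisms of a small Ree group are inner times field automorphisms. -/

set_option autoImplicit false

namespace H49.RrAut

open H30 Subgroup

universe u

variable {K : Type*} [Field K] {m : ℕ} {T : Type*} [Group T] (R : Ree K m T)

include R in
theorem exists_gen (hm : 1 ≤ m) : ∃ κ : Kˣ, (∀ s, s ∈ zpowers κ) ∧ κ ^ 18 ≠ 1 := by
  have := R.finite_K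
  obtain ⟨κ, hκ⟩ := IsCyclic.exists_generator (α := Kˣ)
  refine ⟨κ, hκ, fun h => ?_⟩
  have h1 := Nat.le_of_dvd (by omega) (orderOf_dvd_of_pow_eq_one h)
  rw [orderOf_eq_card_of_forall_mem_zpowers hκ, R.card_units] at h1
  have : 3 ^ 3 ≤ 3 ^ (2 * m + 1) := Nat.pow_le_pow_right (by omega) (by omega)
  omega

theorem exists_conj_H {y : T} (hy : y ∈ R.B) (h18 : y ^ 18 ≠ 1) : ∃ w ∈ R.U, w * y * w⁻¹ ∈ R.H := by
  have := R.finite_G
  obtain ⟨a, ha, k, hk, rfl⟩ := hy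
  have h2 : k * k ≠ 1 := fun h => h18 (by
    have h1 : (a * k) ^ 2 ∈ R.U := by
      have : (a * k) ^ 2 = a * (k * a * k⁻¹) * (k * k) := by rw [pow_two]; group
      rw [this, h, mul_one]
      exact mul_mem ha (R.H_conj_U hk ha)
    obtain ⟨t, u, v, e⟩ := h1
    rw [show 18 = 2 * 9 from rfl, pow_mul, e, R.x_pow_nine])
  let f : R.U → R.U := fun w => ⟨w.1⁻¹ * (k * w.1 * k⁻¹), mul_mem (inv_mem w.2) (R.H_conj_U hk w.2)⟩
  have hf : Function.Injective f := fun w w' e => by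
    have e1 : w.1⁻¹ * (k * w.1 * k⁻¹) = w'.1⁻¹ * (k * w'.1 * k⁻¹) := congrArg Subtype.val e
    have e2 : k * (w.1 * w'.1⁻¹) * k⁻¹ = w.1 * w'.1⁻¹ := by
      calc _ = w.1 * (w.1⁻¹ * (k * w.1 * k⁻¹)) * (k * w'.1 * k⁻¹)⁻¹ := by group
        _ = _ := by rw [e1]; group
    exact Subtype.ext (mul_inv_eq_one.1 (R.fpf hk h2 (mul_mem w.2 (inv_mem w'.2)) e2))
  obtain ⟨w, e⟩ := Finite.surjective_of_injective hf ⟨a, ha⟩
  have e1 : w.1⁻¹ * (k * w.1 * k⁻¹) = a := congrArg Subtype.val e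
  refine ⟨w.1, w.2, ?_⟩
  rw [← e1]
  convert hk using 1
  group

/-- after an inner automorphism, `α` maps `U` into `U` and `H` into `H` -/
theorem exists_fix (hm : 1 ≤ m) (α : MulAut T) : ∃ g : T,
    (∀ y ∈ R.U, g * α y * g⁻¹ ∈ R.U) ∧ ∀ y ∈ R.H, g * α y * g⁻¹ ∈ R.H := by
  obtain ⟨g, hg⟩ := R.exists_conj_le_U (R.isPGroup_U.map α.toMonoidHom)
  have hU : ∀ y ∈ R.U, g * α y * g⁻¹ ∈ R.U := fun y hy => hg _ ⟨y, hy, rfl⟩
  obtain ⟨κ, hκ, h18⟩ := exists_gen R hm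
  have hB : g * α (R.h κ) * g⁻¹ ∈ R.B := by
    refine R.mem_B_of_conj (hU _ (R.x_mem 1 0 0)) (fun e => ?_) (R.U_le_B ?_)
    · have : R.x 1 0 0 = 1 := by simpa using e
      exact one_ne_zero (R.x_eq_one _ _ _ this).1
    · convert hU _ (R.H_conj_U (R.h_mem κ) (R.x_mem 1 0 0)) using 1
      simp only [map_mul, map_inv]
      group
  obtain ⟨w, hw, hH⟩ := exists_conj_H R hB (fun e => h18 (R.h_injective (by
    rw [conj_pow, ← map_pow] at e
    rw [map_pow, map_one]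
    exact α.injective ((conj_eq_one_iff.1 e).trans (map_one _).symm))))
  refine ⟨w * g, fun y hy => ?_, ?_⟩
  · convert mul_mem (mul_mem hw (hU y hy)) (inv_mem hw) using 1
    group
  · rintro _ ⟨s, rfl⟩
    obtain ⟨i, rfl⟩ := mem_zpowers_iff.1 (hκ s)
    convert zpow_mem hH i using 1
    rw [map_zpow, map_zpow, conj_zpow, conj_zpow]
    group

theorem field_of_fix (hm : 1 ≤ m) (α : MulAut T) (hU : ∀ y ∈ R.U, α y ∈ R.U)
    (hH : ∀ y ∈ R.H, α y ∈ R.H) : ∃ (g : T) (τ : K ≃+* K),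
    (∀ t a v, g * α (R.x t a v) * g⁻¹ = R.x (τ t) (τ a) (τ v)) ∧
    ∀ κ : Kˣ, g * α (R.h κ) * g⁻¹ = R.h (Units.map (τ : K →* K) κ) := by
  have := R.finite_K
  have := R.charP
  choose f1 f2 f3 hf using fun p : K × K × K => hU _ (R.x_mem p.1 p.2.1 p.2.2)
  obtain ⟨κ, -, h18⟩ := exists_gen R hm
  have hx : R.σ κ ≠ κ := fun e => h18 (by
    have h1 := R.σσ κ
    rw [e, e] at h1
    have h2 : κ ^ 2 = 1 := Units.ext (mul_right_cancel₀ κ.ne_zero (by
      rw [Units.val_pow_eq_pow_val, Units.val_one]; linear_combination -h1))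
    rw [show 18 = 2 * 9 from rfl, pow_mul, h2, one_pow])
  obtain ⟨c, hc, τ, e⟩ := H68.re_aut (F := fun p => (f1 p, f2 p, f3 p)) R.σσ hx
    (fun σ t => by rw [R.σ_eq, R.σ_eq, map_pow])
    (fun p p' e => by
      simp only [Prod.mk.injEq] at e
      have h1 : α (R.x p.1 p.2.1 p.2.2) = α (R.x p'.1 p'.2.1 p'.2.2) := by
        rw [hf, hf, e.1, e.2.1, e.2.2]
      obtain ⟨h2, h3, h4⟩ := R.x_inj (α.injective h1)
      exact Prod.ext h2 (Prod.ext h3 h4))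
    (fun p p' => by
      have h1 := congrArg α (R.x_mul p.1 p.2.1 p.2.2 p'.1 p'.2.1 p'.2.2)
      have h2 := hf (H68.reM R.σ p p')
      have h3 : R.x (H68.reM R.σ p p').1 (H68.reM R.σ p p').2.1 (H68.reM R.σ p p').2.2 =
          R.x p.1 p.2.1 p.2.2 * R.x p'.1 p'.2.1 p'.2.2 := by
        rw [R.x_mul]
        simp only [H68.reM]
        congr 1
        ring
      rw [h3, map_mul, hf, hf, R.x_mul] at h2
      obtain ⟨h4, h5, h6⟩ := R.x_inj h2
      simp only [H68.reM, Prod.mk.injEq] at h4 h5 h6 ⊢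
      exact ⟨h4.symm, h5.symm, by rw [← h6]; ring⟩)
    (fun s hs => by
      obtain ⟨s', hs'⟩ := hH _ (R.h_mem (Units.mk0 s hs))
      refine ⟨s', fun p => ?_⟩
      have h1 := congrArg α (R.h_conj (Units.mk0 s hs) p.1 p.2.1 p.2.2)
      have h2 := hf (s * p.1, s * R.σ s * p.2.1, s ^ 2 * R.σ s * p.2.2)
      rw [map_mul, map_mul, map_inv, ← hs', hf, R.h_conj] at h1
      obtain ⟨h4, h5, h6⟩ := R.x_inj (h2.symm.trans h1.symm)
      exact Prod.ext h4 (Prod.ext h5 h6))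
  have hx' : ∀ t a v, (R.h (Units.mk0 c hc))⁻¹ * α (R.x t a v) * (R.h (Units.mk0 c hc))⁻¹⁻¹ =
      R.x (τ t) (τ a) (τ v) := fun t a v => by
    have h1 := e (t, a, v)
    simp only [Prod.mk.injEq] at h1
    have h2 := R.h_conj (Units.mk0 c hc) (τ t) (τ a) (τ v)
    rw [Units.val_mk0, ← h1.1, ← h1.2.1, ← h1.2.2, ← hf (t, a, v)] at h2
    rw [← h2]
    group
  refine ⟨(R.h (Units.mk0 c hc))⁻¹, τ, hx', fun s => ?_⟩
  obtain ⟨s', hs'⟩ : (R.h (Units.mk0 c hc))⁻¹ * α (R.h s) * (R.h (Units.mk0 c hc))⁻¹⁻¹ ∈ R.H :=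
    mul_mem (mul_mem (inv_mem (R.h_mem _)) (hH _ (R.h_mem s))) (inv_mem (inv_mem (R.h_mem _)))
  have h1 := hx' (s * 1) (s * R.σ s * 0) (s ^ 2 * R.σ s * 0)
  have h2 := R.h_conj s' (τ 1) (τ 0) (τ 0)
  rw [← hx', hs'] at h2
  rw [← R.h_conj, map_mul, map_mul, map_inv] at h1
  have h3 := (R.x_inj (h1.symm.trans ((by group : _ = _).trans h2))).1
  rw [← hs']
  congr 1
  ext
  simpa using h3.symm

theorem eq_one_of_fix (hm : 1 ≤ m) [IsSimpleGroup T] (β : MulAut T)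
    (hx : ∀ t a v, β (R.x t a v) = R.x t a v) (hh : ∀ κ, β (R.h κ) = R.h κ) : β = 1 := by
  have hB : ∀ b ∈ R.B, β b = b := by
    rintro _ ⟨_, ⟨t, a, v, rfl⟩, _, ⟨κ, rfl⟩, rfl⟩
    rw [map_mul, hx, hh]
  obtain ⟨κ, -, h18⟩ := exists_gen R hm
  have h2 : R.h κ * R.h κ ≠ 1 := fun e => h18 (by
    rw [← map_mul, ← map_one R.h] at e
    rw [show 18 = 2 * 9 from rfl, pow_mul, pow_two, R.h_injective e, one_pow])
  have hn : R.n⁻¹ * β R.n ∈ R.H := by
    rw [← R.centralizer_eq_H (R.h_mem κ) h2, mem_centralizer_singleton_iff]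
    have h3 := R.n_conj_H (R.h_mem κ)
    have h4 := congrArg β h3
    rw [map_mul, map_mul, map_inv, map_inv, hh, ← h3] at h4
    calc _ = R.n⁻¹ * (β R.n * R.h κ * (β R.n)⁻¹) * β R.n := by group
      _ = _ := by rw [h4]; group
  have hc : ∀ g, g⁻¹ * β g ∈ R.B := fun g => by
    rcases R.bruhat' g with h | ⟨a, ha, b, hb, rfl⟩
    · rw [hB g h, inv_mul_cancel]
      exact one_mem _
    · rw [map_mul, map_mul, hB a (R.U_le_B ha), hB b hb]
      convert mul_mem (mul_mem (inv_mem hb) (R.H_le_B hn)) hb using 1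
      group
  have hcore : R.B.normalCore = ⊥ := (R.B.normalCore_normal.eq_bot_or_eq_top).resolve_right fun e =>
    R.n_not_mem_B (R.B.normalCore_le (e ▸ mem_top _))
  ext g
  have h5 : g⁻¹ * β g ∈ R.B.normalCore := fun w => by
    convert mul_mem (hc (g * w⁻¹)) (inv_mem (hc w⁻¹)) using 1
    simp only [map_mul, map_inv]
    group
  rw [hcore, mem_bot, inv_mul_eq_one] at h5
  exact h5.symm

theorem jobAut : H70.RR.JobAut.{u} := fun K _ m T _ R hm hT => by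
  refine ⟨fun α => ?_, fun β => eq_one_of_fix R hm β⟩
  obtain ⟨g, hU, hH⟩ := exists_fix R hm α
  obtain ⟨g', τ, h1, h2⟩ := field_of_fix R hm (MulAut.conj g * α) hU hH
  refine ⟨g' * g, τ, fun t a v => ?_, fun κ => ?_⟩
  · rw [← h1, MulAut.mul_apply, MulAut.conj_apply]
    group
  · rw [← h2, MulAut.mul_apply, MulAut.conj_apply]
    group

end H49.RrAut
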