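import Cfsg.Agent.H86.SPODef
import Cfsg.Agent.H48.SOI

/-! STD-SP endgame, orthogonal model, slot KN: involutions without nonsingular fixed vectors. -/

set_option autoImplicit false
set_option linter.unusedSectionVars false

namespace H49.SPOKN

open H64.SG (O2 Cz)
open H59.SO H56 H58 QuadraticMap Module Subgroup H86.SPO
open H48.SOI (nv g_nv Q_nv ex_nv nv_sub nv_eq0 pol_nv pol_fix pol_fix' app_eq CG_eq)

variable {F V : Type} [Field F] [Finite F] [CharP F 2] [AddCommGroup V] [Module F V]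
  [FiniteDimensional F V] {Q : QuadraticForm F V} {y : H59.SO.Om Q}

theorem sing (h : ¬ Nv Q y) {a : V} (ha : y.1 a = a) : Q a = 0 := by_contra fun k => h ⟨a, k, ha⟩

theorem sq (h : y * y = 1) : y.1 * y.1 = 1 := congrArg Subtype.val h

theorem im (nd : Q.polarBilin.Nondegenerate) (h : ¬ Nv Q y) {m : V} (hm : y.1 m = m) :
    ∃ x, nv y.1 x = m := ex_nv nd fun r hr => by
  have := sing h (a := r + m) (by rw [map_add, hr, hm])
  rwa [H56.Q_add, sing h hr, sing h hm, zero_add, zero_add] at this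

theorem mov_eq (nd : Q.polarBilin.Nondegenerate) (h2 : y * y = 1) (h : ¬ Nv Q y) :
    y.1.mov = y.1.fix := Submodule.ext fun m => by
  rw [O.mem_mov, O.mem_fix]
  refine ⟨?_, fun hm => (im nd h hm).imp fun x hx => (nv_sub _ x).trans hx⟩
  rintro ⟨x, rfl⟩
  rw [nv_sub, g_nv (sq h2)]

theorem two_fix (nd : Q.polarBilin.Nondegenerate) (h2 : y * y = 1) (h : ¬ Nv Q y) :
    2 * finrank F y.1.fix = finrank F V := by
  have := y.1.rk_add_finrank_fix
  rw [O.rk, mov_eq nd h2 h] at this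
  omega

theorem rk2 (u v : V) : finrank F (Submodule.span F ({u, v} : Set V)) ≤ 2 := by
  classical
  have := (finrank_span_finset_le_card (R := F) ({u, v} : Finset V)).trans Finset.card_le_two
  rwa [Set.finrank, Finset.coe_insert, Finset.coe_singleton] at this

theorem on (p : Par Q) (k : KG Q) (h2 : y * y = 1) (h : ¬ Nv Q y) :
    ∃ A ≤ O2 (Cz y), Nat.card F < Nat.card A ∧ ∀ a ∈ A, a * a = 1 ∧ IsConj y (y * a) := by
  have nd := p.nd
  have hg := sq h2
  have q : ∀ x, Q (nv y.1 x) = 0 := fun x => sing h (g_nv hg x)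
  obtain ⟨x', n0⟩ : ∃ x', nv y.1 x' ≠ 0 := by
    by_contra! e
    obtain ⟨b, hb, -⟩ := k.p3 0 0 0
    exact one_ne_zero (hb.symm.trans (sing h (nv_eq0.1 (e b))))
  obtain ⟨x, e⟩ := H56.exists_polar_eq_one nd n0
  rw [polar_comm] at e
  have e' : polar Q x' (nv y.1 x) = 1 := by rw [← pol_nv hg, polar_comm, e]
  have u0 : nv y.1 x ≠ 0 := fun k => by simp [k] at e'
  let S : Submodule F V := y.1.fix ⊓ perp Q (Submodule.span F {x, x'})
  have hS : ∀ m : S, y.1 m = m ∧ polar Q x m = 0 ∧ polar Q x' m = 0 := fun m =>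
    ⟨O.mem_fix.1 m.2.1, mem_perp_span_pair.1 m.2.2⟩
  have pm : ∀ m : S, polar Q (nv y.1 x) m = 0 := fun m => pol_fix (hS m).1 x
  let f : Multiplicative S →* H59.SO.Om Q := MonoidHom.mk' (fun m => E Q (nv y.1 x) m.toAdd)
    fun a b => E_add (q x) (pm _) (pm _)
  have fi : Function.Injective f := fun a b hab => by
    obtain ⟨c, hc⟩ := (E_inj nd u0 (q x) (pm a.toAdd) (pm b.toAdd)).1 hab
    have := congrArg (polar Q x') hc
    rw [polar_add_right, polar_smul_right, (hS _).2.2, (hS _).2.2, e', zero_add, smul_eq_mul,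
      mul_one] at this
    rw [← this, zero_smul, add_zero] at hc
    exact Subtype.ext hc
  refine ⟨f.range, ?_, ?_, ?_⟩
  · rintro _ ⟨m, rfl⟩
    have := (H48.SOI.key hg (q x) (q x') e (hS m.toAdd).1 (hS _).2.1 (hS _).2.2).1
    rwa [sing h (hS _).1, zero_smul, add_zero, CG_eq] at this
  · have d1 := Submodule.finrank_sup_add_finrank_inf_eq y.1.fix (perp Q (Submodule.span F {x, x'}))
    have d2 := finrank_perp nd (Submodule.span F {x, x'})
    have d3 := Submodule.finrank_le (y.1.fix ⊔ perp Q (Submodule.span F {x, x'}))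
    have d4 := rk2 (F := F) x x'
    have d5 := two_fix nd h2 h
    have d6 := p.dim
    have d : 1 < finrank F S := by change 1 < finrank F ↥(_ ⊓ _ : Submodule F V); omega
    rw [← Nat.card_congr (MonoidHom.ofInjective fi).toEquiv, Nat.card_congr Multiplicative.toAdd,
      Module.natCard_eq_pow_finrank (K := F) (V := S)]
    simpa using Nat.pow_lt_pow_right (Finite.one_lt_card (α := F)) d
  · rintro _ ⟨m, rfl⟩
    refine ⟨E_sq _ _, ?_⟩
    obtain ⟨z, hz⟩ := im nd h (hS m.toAdd).1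
    have pz : polar Q (nv y.1 x) z = 0 := by rw [pol_nv hg, hz, (hS _).2.1]
    have e1 := mul_E y (nv y.1 x) z
    rw [g_nv hg, app_eq y.1 z, hz, E_add (q x) pz (pm _), mul_assoc,
      ← comm_E (g_nv hg x) (hS m.toAdd).1] at e1
    exact isConj_iff.2 ⟨(E Q (nv y.1 x) z)⁻¹, by
      rw [inv_inv, mul_assoc, e1, inv_mul_cancel_left]; rfl⟩

theorem jobKN : JobKN := by
  intro F V _ _ _ _ _ _ Q p r k
  refine ⟨fun y h2 h x => ?_, fun y h2 h m => ⟨fun hm => ?_, ?_⟩, fun y y' h2 h2' h h' => ?_,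
    fun y => on p k⟩
  · have := sing h (g_nv (sq h2) x)
    exact ⟨this, (Q_nv _ x).symm.trans this⟩
  · exact (im p.nd h hm).imp fun x hx => hx.symm
  · rintro ⟨x, rfl⟩; exact g_nv (sq h2) x
  · have d := two_fix p.nd h2 h
    have d' := two_fix p.nd h2' h'
    have c : IsConj y.1 y'.1 := (H93.O2.isConj_iff_inv p.nd (by rw [pow_two, sq h2])
      (by rw [pow_two, sq h2'])).2 ⟨by rw [O.rk, O.rk, mov_eq p.nd h2 h, mov_eq p.nd h2' h']; omega, by
        rw [mov_eq p.nd h2 h, mov_eq p.nd h2' h']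
        exact iff_of_true (fun w hw => sing h (O.mem_fix.1 hw)) fun w hw => sing h' (O.mem_fix.1 hw)⟩
    obtain ⟨c, hc⟩ := isConj_iff.1 c
    exact ⟨c, Subtype.ext (by rw [gam_ofO_val, hc])⟩

end H49.SPOKN
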