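/- Bender-Glauberman 10.9, 10.12, 10.14 (conditional on the earlier classes). -/
import Cfsg.Agent.Base
import Cfsg.Agent.H51.Sec11
import Cfsg.Agent.H46.Coprime

set_option autoImplicit false
open Cfsg hiding pRank
open H46 H50 Subgroup

namespace H49

universe u

variable {G : Type u} [Group G] [Finite G] {M H K N D A P Q R S X Y : Subgroup G} {p q : ℕ} {g : G}
  {π : Set ℕ}

/-! ### general lemmas -/

/-- If `D / N` is nilpotent, the preimage of a Hall subgroup is normal. -/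
theorem nrm_sup_of_nil_quo (hN : M ≤ Nrm N) (hD : D ⊴ M) (hn : Group.IsNilpotent ↥(D ⧸ₙ N))
    (hX : IsPiHallOf π X D) : M ≤ Nrm (N ⊔ X) :=
  (quo_le_nrm_iff' hN (hX.le.trans (hD.1.trans hN))).1
    ((quo_nrm N hD.2).trans (nil_hall_nrm_le hn (hX.quo (hD.1.trans hN))))

/-- The Frattini argument modulo a normal subgroup with nilpotent `D / N`. -/
theorem sup_nrm_eq_of_nil_quo (hq : q.Prime) (hN : N ⊴ M) (hD : D ⊴ M) (hND : N ≤ D)
    (hn : Group.IsNilpotent ↥(D ⧸ₙ N)) (hX : IsSylowOf q X D) : N ⊔ (M ⊓ Nrm X) = M := by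
  have hXM : X ≤ M := hX.le.trans hD.1
  have h := frattini_arg hq ⟨sup_le hN.1 hXM, nrm_sup_of_nil_quo hN.2 hD hn hX⟩
    (hX.of_le le_sup_right (sup_le hND hX.le))
  rwa [sup_assoc, sup_of_le_right (le_inf hXM le_nrm_self)] at h

theorem three_le_pRank_of_alpha (h : p ∈ alpha M) : 3 ≤ pRank p M :=
  H51.le_pRank_of_not_pRankLE h.1 h.2

theorem mem_alpha_of (hp : p.Prime) (h : 3 ≤ pRank p K) (hK : K ≤ M) : p ∈ alpha M :=
  ⟨hp, H51.not_pRankLE_of_le_pRank hp (H51.le_pRank_of_le hp h hK)⟩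

theorem le_pRank_sylow {n : ℕ} (hp : p.Prime) (hP : IsSylowOf p P M) (h : n ≤ pRank p M) :
    n ≤ pRank p P := by
  obtain ⟨A, hA⟩ := H51.exists_of_le_pRank hp h
  obtain ⟨g, -, hl⟩ := sylow_cj_le hp hP (H24.elemAb_pgroup hp hA) hA.1
  exact H51.le_pRank' hp (H24.elemAb_of_le (H24.elemAb_cj hA g) hl)

theorem three_le_rank_sylow (h : p ∈ alpha M) (hP : IsSylowOf p P M) : 3 ≤ rank P :=
  H51.le_rank_of_pRank h.1 (le_pRank_sylow h.1 hP (three_le_pRank_of_alpha h))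

omit [Finite G] in
theorem alphaCore_normal (M : Subgroup G) : alphaCore M ⊴ M := piCoreOf_normalIn _ _

theorem alphaCore_pi (M : Subgroup G) : IsPi (alpha M) (alphaCore M) := isPi_piCoreOf _ _

theorem betaCore_le_der [T10_2.{u}] (hG : IsMinSimpleOddOrder G) (hM : IsCoatom M) :
    betaCore M ≤ ⁅M, M⁆ :=
  (piCoreOf_mono (H24.beta_sub_sigma' hG hM) M).trans (T10_2.Msigma_der1 hG hM)

/-- a Sylow subgroup lying in two maximal subgroups is not for a prime in `α`. -/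
theorem not_alpha_of_le [H51.T9_6a.{u}] (hG : IsMinSimpleOddOrder G) (hM : IsCoatom M)
    (hH : IsCoatom H) (hne : H ≠ M) (hS : IsSylowOf p S M) (hSH : S ≤ H) : p ∉ alpha M := fun h =>
  hne (H51.uniq_eq (H51.T9_6a.out hG (H51.sub_mmax_proper hM hS.le) (three_le_rank_sylow h hS))
    hM hS.le hH hSH)

/-! ### 10.9 -/

theorem beta'_cent_Sylow [T10_2.{u}] [T10_8.{u}] [H51.T9_6a.{u}] (hG : IsMinSimpleOddOrder G)
    (hM : IsCoatom M) (hp : p.Prime) (hq : q.Prime) (bp : p ∉ beta M) (bq : q ∉ beta M)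
    (hX : IsPGroup q X) (h : (p ≠ q ∧ X ≤ ⁅M, M⁆) ∨ (p < q ∧ X ≤ M)) :
    (∃ P : Subgroup G, IsSylowOf p P (sigmaCore M) ∧ X ≤ Cent P) ∧
      (p ∈ alpha M → InUniqueMaximal (M ⊓ Cent X)) ∧
      (IsSylowOf q X ⁅M, M⁆ →
        ∃ P : Subgroup G, IsSylowOf p P ⁅M, M⁆ ∧ P ≤ ⁅M ⊓ Nrm X, M ⊓ Nrm X⁆) := by
  have hpq : p ≠ q := h.elim (·.1) (·.1.ne)
  have hXM : X ≤ M := h.elim (·.2.trans (der_le M)) (·.2)
  have hXq := isPi_of_isPGroup hq hX
  have hD := normalIn_der M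
  -- a Sylow `p`-subgroup of `M'` centralized by `X`
  obtain ⟨P, hP, hXP⟩ : ∃ P : Subgroup G, IsSylowOf p P ⁅M, M⁆ ∧ X ≤ Cent P := by
    have hYM : ⁅M, M⁆ ⊔ X ≤ M := sup_le (der_le M) hXM
    have hDY : ⁅M, M⁆ ⊴ ⁅M, M⁆ ⊔ X := hD.of_le le_sup_left hYM
    obtain ⟨W, hW, hXW⟩ := hall_superset (π := {p, q}) (H51.sub_mmax_sol hG hM hYM)
      (hXq.of_singleton (by simp)) le_sup_right
    have hV := hW.inf_normal hDY
    have hVn : Group.IsNilpotent ↥(W ⊓ ⁅M, M⁆) :=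
      T10_8.beta'_der1_nil hG hM (hV.isPi.mono (by
        rintro r (rfl | rfl); exacts [bp, bq])) inf_le_right
    have hP : IsSylowOf p (Op p (W ⊓ ⁅M, M⁆)) ⁅M, M⁆ :=
      hV.sylow_trans (by simp) (nil_piCoreOf_hall _ hVn)
    refine ⟨_, hP, ?_⟩
    rcases h with h | h
    · exact le_cent_symm (nil_cent_of_isPi (π := {p}) hVn (piCoreOf_le _ _) (le_inf hXW h.2)
        (isPi_piCoreOf _ _) (hXq.compl_singleton hpq))
    · have h1 : X ≤ Op' p M := hXq.le_of_idx (piCoreOf_normalIn _ M) hXM fun r hr hd e =>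
        h.1.not_ge (by
          rw [← Set.mem_singleton_iff.1 e]; exact (T10_8.beta_max_pdiv hG hM hp bp).2.2 r hr hd)
      refine commutator_eq_bot_iff.1 (eq_bot_of_le (le_inf ?_ ?_)
        (piCoreOf_inf_compl (π := {p}) (W ⊓ ⁅M, M⁆) M))
      · exact commutator_le_right' (nrm_piCoreOf _ (nrm_inf (nrm_of_le hXW) (hXM.trans hD.2)))
      · exact (commutator_mono h1 le_rfl).trans
          (commutator_le_left' (hP.le.trans (hD.1.trans (le_nrm_piCoreOf _ M))))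
  have hP' : IsSylowOf p (P ⊓ sigmaCore M) (sigmaCore M) :=
    hP.inf_normal ((H24.sigmaCore_normal M).of_le (T10_2.Msigma_der1 hG hM) hD.1)
  refine ⟨⟨_, hP', hXP.trans (cent_anti inf_le_left)⟩, fun ha => ?_, fun hXs => ?_⟩
  · refine H51.T9_6a.out hG (H51.sub_mmax_proper hM inf_le_left) (H51.le_rank_of_le
      (three_le_rank_sylow ha ((T10_2.Msigma_Hall hG hM).sylow_trans
        (T10_2.alpha_sub_sigma hG hM ha) hP')) ?_)
    exact le_inf (inf_le_right.trans (H24.sigmaCore_le M)) (inf_le_left.trans (le_cent_symm hXP))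
  · have hB : betaCore M ⊴ M := piCoreOf_normalIn _ M
    have e := sup_nrm_eq_of_nil_quo hq hB hD (betaCore_le_der hG hM) (T10_8.Mbeta_quo_nil hG hM) hXs
    have hn : M ⊓ Nrm X ≤ Nrm (betaCore M) := inf_le_left.trans hB.2
    have h1 : ⁅M, M⁆ ≤ betaCore M ⊔ ⁅M ⊓ Nrm X, M ⊓ Nrm X⁆ := by
      have := der_sup_le hn
      rwa [e] at this
    obtain ⟨P₁, hP₁⟩ := exists_sylow hp ⁅M ⊓ Nrm X, M ⊓ Nrm X⁆
    refine ⟨P₁, (hP₁.trans_idx le_sup_right ?_).of_le (hP₁.le.trans (der_mono inf_le_left)) h1,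
      hP₁.le⟩
    rw [relIndex_sup_right_of_nrm ((der_le _).trans hn)]
    exact ((isPi_piCoreOf _ M).compl_singleton bp).relIndex _

theorem nonuniq_norm_Sylow_pprod [T10_2.{u}] [T10_8.{u}] [H51.T9_6a.{u}]
    (hG : IsMinSimpleOddOrder G) (hM : IsCoatom M) (hH : IsCoatom H) (hne : H ≠ M) (hp : p.Prime)
    (hS : IsSylowOf p S ⊤) (hN : Nrm S ≤ H ⊓ M) :
    betaCore M ⊔ (H ⊓ M) = M ∧ alpha M = beta M := by
  have hSM : S ≤ M := le_nrm_self.trans (hN.trans inf_le_right)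
  have hS' : IsSylowOf p S M := hS.of_le hSM le_top
  have h1 : S ≠ ⊥ := by
    rintro rfl
    exact hM.1 (top_le_iff.1 ((normalIn_top_iff.2 inferInstance).2.trans (hN.trans inf_le_right)))
  have sp : p ∈ sigma M := H24.mem_sigma'.2
    ⟨hp, (hS.isPi.prime_and_dvd h1).2.trans (card_dvd_of_le hSM), S, hS', hN.trans inf_le_right⟩
  have hSD : S ≤ ⁅M, M⁆ :=
    (H24.le_sigmaCore hG hM (hS.isPi.of_singleton sp) hSM).trans (T10_2.Msigma_der1 hG hM)
  have ap : p ∉ alpha M :=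
    not_alpha_of_le hG hM hH hne hS' (le_nrm_self.trans (hN.trans inf_le_left))
  have hB : betaCore M ⊴ M := piCoreOf_normalIn _ M
  have e := sup_nrm_eq_of_nil_quo hp hB (normalIn_der M) (betaCore_le_der hG hM)
    (T10_8.Mbeta_quo_nil hG hM) (hS'.of_le hSD (der_le M))
  refine ⟨le_antisymm (sup_le hB.1 inf_le_right)
    (e.ge.trans (sup_le_sup_left (inf_le_right.trans hN) _)), ?_⟩
  refine Set.Subset.antisymm (fun r ar => by_contra fun br => ?_) (H24.beta_sub_alpha M)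
  have hu := (beta'_cent_Sylow hG hM ar.1 hp br (fun h => ap h.1) (hS.isPGroup hp)
    (Or.inl ⟨fun e => ap (e ▸ ar), hSD⟩)).2.1 ar
  exact hne (H51.uniq_eq hu hM inf_le_left hH
    (inf_le_right.trans ((cent_le_nrm S).trans (hN.trans inf_le_left))))

instance i10_9 [T10_2.{u}] [T10_8.{u}] [H51.T9_6a.{u}] : T10_9.{u} :=
  ⟨fun hG _ _ _ _ hM hp hq bp bq hX h => beta'_cent_Sylow hG hM hp hq bp bq hX h,
    fun hG _ _ _ _ hM hH hne hp hS hN => nonuniq_norm_Sylow_pprod hG hM hH hne hp hS hN⟩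

/-! ### 10.12 -/

theorem exists_common_sylow (sM : p ∈ sigma M) (sH : p ∈ sigma H) :
    ∃ (S : Subgroup G) (g : G), IsSylowOf p S M ∧ IsSylowOf p S (cj g H) := by
  obtain ⟨S, hS⟩ := exists_sylow sM.1 M
  obtain ⟨T, hT⟩ := exists_sylow sM.1 H
  obtain ⟨g, -, e⟩ := sylow_trans sM.1 (H51.sigma_syl_top sH hT) (H51.sigma_syl_top sM hS)
  exact ⟨S, g, hS, e ▸ hT.cj g⟩

theorem sigma_disjoint [T10_2.{u}] [H51.T9_6a.{u}] (hG : IsMinSimpleOddOrder G) (hM : IsCoatom M)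
    (hH : IsCoatom H) (hc : ∀ g : G, H ≠ cj g M) :
    alphaCore M ⊓ sigmaCore H = ⊥ ∧ Disjoint (alpha M) (sigma H) ∧
      (Group.IsNilpotent (sigmaCore M) →
        sigmaCore M ⊓ sigmaCore H = ⊥ ∧ Disjoint (sigma M) (sigma H)) := by
  have hne : ∀ g : G, cj g H ≠ M := fun g e => hc g⁻¹ (cj_eq_iff.1 e)
  have ti : ∀ π : Set ℕ, Disjoint π (sigma H) → piCoreOf π M ⊓ sigmaCore H = ⊥ := fun π h =>
    (isPi_piCoreOf π M).inf_eq_bot ((H24.sigmaCore_pi H).mono h.subset_compl_left)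
  have h1 : Disjoint (alpha M) (sigma H) := Set.disjoint_left.2 fun p ap sH => by
    obtain ⟨S, g, hS, hS'⟩ := exists_common_sylow (T10_2.alpha_sub_sigma hG hM ap) sH
    exact not_alpha_of_le hG hM (isCoatom_cj.2 hH) (hne g) hS hS'.le ap
  refine ⟨ti _ h1, h1, fun hn => ?_⟩
  have h2 : Disjoint (sigma M) (sigma H) := Set.disjoint_left.2 fun p sM sH => by
    obtain ⟨S, g, hS, hS'⟩ := exists_common_sylow sM sH
    have hl := H24.le_sigmaCore hG hM (hS.isPi.of_singleton sM) hS.le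
    have h3 : M ≤ Nrm S := (H24.le_nrm_sigmaCore M).trans
      (nil_hall_nrm_le hn (hS.of_le hl (H24.sigmaCore_le M)))
    exact hne g (H51.eq_mmax hM (isCoatom_cj.2 hH)
      (h3.trans (H24.nrm_le_of_sigma (H24.sigma_cj_sub g H sH) hS'))).symm
  exact ⟨ti _ h2, h2⟩

instance i10_12 [T10_2.{u}] [H51.T9_6a.{u}] : T10_12.{u} :=
  ⟨fun hG _ _ hM hH hc => sigma_disjoint hG hM hH hc⟩

/-! ### 10.14 -/

theorem ideal_not_max_sylow (h : IsIdealPrime p G) (hP : IsSylowOf p P ⊤) (hA : ElemAb p 2 A P) :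
    ¬ MaxElemAb p A P := fun hm => by
  have := Fact.mk h.1
  obtain ⟨S, rfl⟩ := hP.exists_sylow_top
  obtain ⟨B, h1, h2, h3⟩ := h.2.2 S A hA.1 hA.2.1 hA.2.2
  exact h3.ne' (hm.2.2 B h1 h2 h3.le)

theorem ideal_not_max (h : IsIdealPrime p G) (hA : ElemAb p 2 A ⊤) : ¬ MaxElemAb p A ⊤ := fun hm => by
  obtain ⟨P, hP, hl⟩ := exists_sylow_ge h.1 (H24.elemAb_pgroup h.1 hA) le_top
  exact ideal_not_max_sylow h hP (H24.elemAb_of_le hA hl)
    ⟨hl, hm.2.1, fun B _ => hm.2.2 B le_top⟩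

theorem beta_noncyclic_uniq [H51.T9_6c.{u}] (hG : IsMinSimpleOddOrder G) (h : IsIdealPrime p G)
    (hR : IsPGroup p R) (h1 : 1 < pRank p R) : InUniqueMaximal R := by
  obtain ⟨A, hA⟩ := H51.exists_of_le_pRank h.1 (n := 2) h1
  have hA' := H24.elemAb_mono hA le_top
  exact H51.uniq_mmaxS hA.1 (H51.mFT_pgroup_proper hG h.1 hR)
    (H51.T9_6c.out hG h.1 hA' (ideal_not_max h hA'))

theorem three_le_pRank_of_ideal (h : IsIdealPrime p G) : 3 ≤ pRank p (⊤ : Subgroup G) :=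
  H51.le_pRank_of_not_pRankLE h.1 fun h' =>
    h.2.1 (H48.pRankLE_of_injective h' (topEquiv (G := G)).symm.toMonoidHom
      (topEquiv (G := G)).symm.injective)

theorem beta_subnorm_uniq [H51.T9_6c.{u}] (hG : IsMinSimpleOddOrder G) (h : IsIdealPrime p G)
    (hP : IsSylowOf p P ⊤) (hX : X ≤ P) : InUniqueMaximal (P ⊓ Nrm X) := by
  have hp := h.1
  have hQ : IsPGroup p ↥(P ⊓ Nrm X) := (hP.isPGroup hp).to_inf_left
  refine beta_noncyclic_uniq hG h hQ (by_contra fun hr => ?_)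
  have h3 := le_pRank_sylow hp hP (three_le_pRank_of_ideal h)
  obtain ⟨E, hE⟩ := H51.exists_of_le_pRank hp h3
  have hc : IsCyclic ↥(P ⊓ Nrm X) := H24.cyclic_of_prankLE_one hp
    (H51.mFT_prime_ne_two hG (H51.elemAb_dvd hE)) ((H51.pRankLE_iff_pRank_le hp).2 (by omega))
    hQ le_rfl
  have e : P ⊓ Nrm X = P := nil_eq_of_inf_nrm_le hP.isPi.nil inf_le_left
    (inf_le_inf_left _ (nrm_le_of_cyclic hc (le_inf hX le_nrm_self)))
  rw [e] at hr
  omega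

theorem beta_norm_sub_mmax [T10_2.{u}] [H51.T9_6c.{u}] (hG : IsMinSimpleOddOrder G)
    (hM : IsCoatom M) (hY : Y ≤ M) (hb : IsPi (beta M) Y) (h1 : Y ≠ ⊥) : Nrm Y ≤ M := by
  obtain ⟨p, hp, hd⟩ := exists_prime_dvd_card (fittingOf_ne_bot (H51.sub_mmax_sol hG hM hY) h1)
  have bp : p ∈ beta M := hb p hp (hd.trans (card_dvd_of_le (fittingOf_le Y)))
  have h2 : Op p Y ≠ ⊥ := Op_fittingOf p Y ▸ H51.Op_ne_bot_of_nil hp (fittingOf_nil Y) hd
  have hXM : Op p Y ≤ M := (piCoreOf_le _ _).trans hY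
  obtain ⟨P, hP, hl⟩ := exists_sylow_ge hp (isPGroup_Op hp Y) hXM
  have hu := beta_subnorm_uniq hG bp.2 (H51.sigma_syl_top (H24.beta_sub_sigma' hG hM bp) hP) hl
  exact (nrm_le_nrm_piCoreOf _ Y).trans (H51.sub_uniq_mmax hu hM (inf_le_left.trans hP.le)
    inf_le_right (H51.mFT_norm_proper hG h2 (H51.sub_mmax_proper hM hXM)))

instance i10_14 [T10_2.{u}] [H51.T9_6c.{u}] : T10_14.{u} :=
  ⟨fun _ _ h => ⟨fun _ hA => ideal_not_max h hA, fun _ _ hP hA => ideal_not_max_sylow h hP hA⟩,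
    fun hG _ _ h hR h1 => beta_noncyclic_uniq hG h hR h1,
    fun hG _ _ _ h hP hX => beta_subnorm_uniq hG h hP hX,
    fun hG _ _ hM hY hb h1 => beta_norm_sub_mmax hG hM hY hb h1⟩

end H49
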