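/- Bender-Glauberman 10.10, 10.11, 10.13 (conditional on the earlier classes). -/
import Cfsg.Agent.Base
import Cfsg.Agent.H49.Sec10a
import Cfsg.Agent.H52.Spec5
import Cfsg.Agent.H48.Spec4

set_option autoImplicit false
open Cfsg hiding pRank
open H46 H50 Subgroup

namespace H49

universe u

variable {G : Type u} [Group G] [Finite G] {M H K N D A P Q R S X Y : Subgroup G} {p q : ℕ} {g : G}
  {π : Set ℕ}

/-! ### 10.10 -/

omit [Finite G] in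
theorem zc_eq_self (h : IsMulCommutative A) : Zc A = A := inf_eq_left.2 (comm_iff_le_cent.1 h)

theorem max_normed_2Elem_signaliser [H51.T7_3.{u}] [H51.T7_4.{u}] [H51.T7_5a.{u}] [T10_6.{u}]
    [T10_7.{u}] [H52.T5_5.{u}] (hG : IsMinSimpleOddOrder G) (hp : p.Prime) (hq : q.Prime)
    (hpq : p ≠ q) (hA : ElemAb p 2 A ⊤) (hm : MaxElemAb p A ⊤) (hQ : Q ∈ maxInvSubgroups ⊤ A {q})
    (hd : q ∣ Nat.card (Cent A)) :
    ∃ P : Subgroup G, IsSylowOf p P ⊤ ∧ A ≤ P ∧ Op' p (Cent P) ⊔ (Nrm P ⊓ Nrm Q) = Nrm P ∧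
      P ≤ ⁅Nrm Q, Nrm Q⁆ ∧ (Narrow q Q → P ≤ Cent Q) := by
  have hN := H51.T7_5a.out hG hp (H24.elemAb_ne_bot hp hA) hm fun M hM => T10_6.out hG hp hM
  have hqp : q ∉ ({p} : Set ℕ) := fun e => hpq (Set.mem_singleton_iff.1 e).symm
  have ht := H51.T7_3.out hG hN hq hqp hd (by
    rw [zc_eq_self hA.2.1.1]; exact H51.le_rank' hp (H24.elemAb_of_le hA le_rfl))
  obtain ⟨P₀, hP₀, hAP₀⟩ := exists_sylow_ge hp (H24.elemAb_pgroup hp hA) le_top
  obtain ⟨-, -, hsub, hd⟩ := H51.T7_4.out hG hN hq hqp (nil_subnormalIn hP₀.isPi.nil hAP₀) hP₀.isPi ht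
  obtain ⟨Q₀, hQ₀, -⟩ := H51.exists_maxInv_top_ge (A := P₀) (π := {q}) (Y := ⊥) IsPi.bot
    (NormalIn.bot P₀).2
  obtain ⟨k, hk, rfl⟩ := ht Q₀ (hsub hQ₀) Q hQ
  obtain ⟨h1, h2, -⟩ := hd Q₀ hQ₀
  have h3 : cj k P₀ ≤ ⁅Nrm (cj k Q₀), Nrm (cj k Q₀)⁆ := by
    rw [← cj_nrm, ← cj_commutator]
    exact cj_mono k ((le_inf le_rfl (T10_7.mFT_Sylow_der1 hG hp hP₀)).trans h1)
  have hP : IsSylowOf p (cj k P₀) ⊤ := hP₀.cj_of_mem (mem_top k)
  refine ⟨cj k P₀, hP, ?_, ?_, h3, fun hn => ?_⟩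
  · rw [← cj_of_le_cent (piCoreOf_le _ _ hk)]; exact cj_mono k hAP₀
  · rw [← cj_nrm, ← cj_nrm, ← cj_cent, Op', ← cj_piCoreOf, ← cj_inf, ← cj_sup, ← h2]
  · have hQq := (H51.maxInv_pi hQ).isPGroup hq
    by_cases h0 : cj k Q₀ = ⊥
    · rw [h0]; exact le_cent_symm bot_le
    obtain ⟨⟨B, hB, -, hi, hD, -⟩, -⟩ := H52.T5_5.out hq hQq (H51.mFT_odd hG _) hn le_rfl
      (H51.mFT_sol hG (H51.mFT_norm_proper hG h0 (H51.mFT_pgroup_proper hG hq hQq)))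
      (H51.mFT_odd hG _)
    refine (hP.isPi.le_of_idx (normalIn_inf_of_nrm (nrm_cent hB.1)) (h3.trans hD) ?_).trans
      inf_le_right
    rw [inf_relIndex_left]
    exact hi.compl_singleton hpq

instance i10_10 [H51.T7_3.{u}] [H51.T7_4.{u}] [H51.T7_5a.{u}] [T10_6.{u}] [T10_7.{u}]
    [H52.T5_5.{u}] : T10_10.{u} :=
  ⟨fun hG _ _ _ _ hp hq hpq hA hm hQ hd => max_normed_2Elem_signaliser hG hp hq hpq hA hm hQ hd⟩

/-! ### 10.11 -/

theorem sigma'_not_uniq [T10_2.{u}] [H48.T4_20c.{u}] (hG : IsMinSimpleOddOrder G) (hM : IsCoatom M)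
    (hK : K ≤ M) (hs : IsPi (sigma M)ᶜ K) : ¬ InUniqueMaximal K := fun hu => by
  obtain ⟨E, hE, hKE⟩ := hall_superset (H51.mmax_sol hG hM) hs hK
  have h1 : E ≠ ⊥ := ne_bot_of_le hKE (H51.uniq_ne_bot hG hu)
  have hne : (Nat.card E).primeFactors.Nonempty :=
    Nat.nonempty_primeFactors.2 (H46.one_lt_card.2 h1)
  have hq := Nat.mem_primeFactors.1 (Finset.max'_mem _ hne)
  set q := (Nat.card E).primeFactors.max' hne with hqd
  have hQ : IsSylowOf q (Op q E) E := H48.T4_20c.out (H51.mFT_odd hG _)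
    (H51.sub_mmax_sol hG hM hE.le)
    (H51.rank_le_two_of_sigma_compl hG hM ((fittingOf_le E).trans hE.le)
      (hE.isPi.of_le (fittingOf_le E)))
    fun a r _ hr _ hd ha hle => le_antisymm
      (Finset.le_max' _ r (Nat.mem_primeFactors.2 ⟨hr, hd, hq.2.2⟩)) (ha ▸ hle)
  have hsq : q ∉ sigma M := hE.isPi q hq.1 hq.2.1
  have h2 : Op q E ≠ ⊥ := hQ.ne_bot hq.1 rfl hq.2.1
  exact H51.not_nrm_le_of_not_sigma hq.1 hsq (hE.sylow_trans hsq hQ) h2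
    (H51.sub_uniq_mmax hu hM hK (hKE.trans (le_nrm_piCoreOf _ E))
      (H51.mFT_norm_proper hG h2 (H51.sub_mmax_proper hM (hQ.le.trans hE.le))))

theorem maxElemAb_of_rank_cent (hp : p.Prime) (hA : ElemAb p 2 A H) (hr : rank (Cent A) ≤ 2) :
    MaxElemAb p A ⊤ :=
  ⟨le_top, hA.2.1, fun _ _ hB hAB => H51.elem_eq_of_pRank_le hp
    (H24.elemAb_of_le hA (comm_iff_le_cent.1 hA.2.1.1))
    ((H51.le_rank_of_pRank hp le_rfl).trans hr) hB
    ((comm_iff_le_cent.1 hB.1).trans (cent_anti hAB)) hAB⟩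

theorem sub'cent_sigma_rank1 [T10_2.{u}] [T10_10.{u}] [H48.T4_20c.{u}] [H51.T9_6b.{u}]
    (hG : IsMinSimpleOddOrder G) (hM : IsCoatom M) (hK : K ≤ M) (hs : IsPi (sigma M)ᶜ K) :
    rank (K ⊓ Cent (sigmaCore M)) ≤ 1 := by
  by_contra hn
  obtain ⟨p, A, hp, hA⟩ := H51.exists_of_le_rank (H := K ⊓ Cent (sigmaCore M)) (n := 2) (by omega)
  have hAK : A ≤ K := hA.1.trans inf_le_left
  have hc : sigmaCore M ≤ Cent A := le_cent_symm (hA.1.trans inf_le_right)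
  have sp : p ∉ sigma M := hs p hp ((H51.elemAb_dvd hA).trans (card_dvd_of_le hAK))
  have hr : rank (Cent A) ≤ 2 := by
    by_contra h3
    exact sigma'_not_uniq hG hM (hAK.trans hK) (hs.of_le hAK)
      (H51.T9_6b.out hG (H51.le_rank' hp (H24.elemAb_of_le hA le_rfl)) (by omega))
  have ha : alphaCore M = ⊥ := by
    by_contra h1
    obtain ⟨r, hr', hd⟩ := exists_prime_dvd_card h1
    have ar := alphaCore_pi M r hr' hd
    obtain ⟨S, hS⟩ := exists_sylow hr' (alphaCore M)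
    have := H51.le_rank_of_le (three_le_rank_sylow ar ((T10_2.Malpha_Hall hG hM).sylow_trans ar hS))
      (hS.le.trans ((T10_2.Malpha_sub_Msigma hG hM).trans hc))
    omega
  have hnil : Group.IsNilpotent ↥⁅M, M⁆ :=
    nil_of_quo_of_central (by rw [ha]; exact bot_le) (T10_2.Malpha_quo_nil hG hM)
  obtain ⟨q, sq⟩ := H24.exists_mem_sigma hG hM
  obtain ⟨Q, hQ⟩ := exists_sylow sq.1 (sigmaCore M)
  have hQM := (T10_2.Msigma_Hall hG hM).sylow_trans sq hQ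
  obtain ⟨P, hP, hAP, -, hPN, -⟩ := T10_10.out hG hp sq.1 (fun e => sp (e ▸ sq))
    (H24.elemAb_mono hA le_top) (maxElemAb_of_rank_cent hp hA hr)
    (H51.syl_top_mem_maxInv (H51.sigma_syl_top sq hQM)
      (nrm_of_le_cent (le_cent_symm (hQ.le.trans hc))))
    ((H24.dvd_sigmaCore hG hM sq).trans (card_dvd_of_le hc))
  have hPD : P ≤ ⁅M, M⁆ := hPN.trans (der_mono (H24.nrm_le_of_sigma sq hQM))
  have hPM := hPD.trans (der_le M)
  have h1 : P ≠ ⊥ := ne_bot_of_le hAP (H24.elemAb_ne_bot hp hA)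
  exact H51.not_nrm_le_of_not_sigma hp sp (hP.of_le hPM le_top) h1
    (H51.mmax_normal hG hM hPM
      ((normalIn_der M).2.trans (nil_hall_nrm_le hnil (hP.of_le hPD le_top))) h1).le

theorem cyclic_of_nil_of_rank [H48.T4_5z.{u}] (hodd : Odd (Nat.card N)) (hN : Group.IsNilpotent N)
    (hr : rank N ≤ 1) : IsCyclic N := by
  have := (H48.T4_5z.out hodd).2 hr
  infer_instance

theorem sub'cent_sigma_cyclic [T10_2.{u}] [T10_10.{u}] [H48.T4_20c.{u}] [H48.T4_5z.{u}]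
    [H51.T9_6b.{u}] (hG : IsMinSimpleOddOrder G) (hM : IsCoatom M) (hs : IsPi (sigma M)ᶜ K) :
    IsCyclic ↥(K ⊓ Cent (sigmaCore M) ⊓ ⁅M, M⁆) ∧ (K ⊓ Cent (sigmaCore M) ⊓ ⁅M, M⁆) ⊴ M := by
  have hC : ⁅M, M⁆ ⊓ Cent (sigmaCore M) ⊴ M :=
    ⟨inf_le_left.trans (der_le M), nrm_inf (normalIn_der M).2 (nrm_cent (H24.le_nrm_sigmaCore M))⟩
  have hn : Group.IsNilpotent ↥(⁅M, M⁆ ⊓ Cent (sigmaCore M)) :=
    nil_of_quo_of_central ((T10_2.Malpha_sub_Msigma hG hM).trans (le_cent_symm inf_le_right))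
      (nil_of_le (T10_2.Malpha_quo_nil hG hM) (quo_mono _ inf_le_left))
  have hY := hC.piCoreOf (sigma M)ᶜ
  have hc : IsCyclic (piCoreOf (sigma M)ᶜ (⁅M, M⁆ ⊓ Cent (sigmaCore M))) :=
    cyclic_of_nil_of_rank (H51.mFT_odd hG _) (nil_of_le hn (piCoreOf_le _ _)) (by
      have := sub'cent_sigma_rank1 hG hM hY.1 (isPi_piCoreOf _ _)
      rwa [inf_of_le_left ((piCoreOf_le _ _).trans inf_le_right)] at this)
  have hl : K ⊓ Cent (sigmaCore M) ⊓ ⁅M, M⁆ ≤ piCoreOf (sigma M)ᶜ (⁅M, M⁆ ⊓ Cent (sigmaCore M)) :=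
    nil_le_piCoreOf hn (le_inf inf_le_right (inf_le_left.trans inf_le_right)) hs.inf_left.inf_left
  exact ⟨cyclic_of_le hc hl, hl.trans hY.1, hY.2.trans (nrm_le_of_cyclic hc hl)⟩

theorem commG_sigma'_1Elem_cyclic [T10_2.{u}] [T10_10.{u}] [H48.T4_20c.{u}] [H48.T4_5z.{u}]
    [H51.T9_6b.{u}] [H47.T3_7.{u}] (hG : IsMinSimpleOddOrder G) (hM : IsCoatom M) (hK : K ≤ M)
    (hs : IsPi (sigma M)ᶜ K) (hp : p.Prime) (sp : p ∉ sigma M) (hP : ElemAb p 1 P (M ⊓ Nrm K))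
    (hreg : sigmaCore M ⊓ Cent P = ⊥) (hK' : IsPi {p}ᶜ K) (hab : IsMulCommutative K) :
    ⁅K, P⁆ ≤ Cent (sigmaCore M) ∧ IsCyclic ↥⁅K, P⁆ ∧ ⁅K, P⁆ ⊴ M := by
  have hPM : P ≤ M := hP.1.trans inf_le_left
  have hPK : P ≤ Nrm K := hP.1.trans inf_le_right
  have hPp := H24.elemAb_isPi hp hP
  have h0 : ⁅K, P⁆ ≤ K := commutator_le_left' hPK
  have hn : ⁅K, P⁆ ≤ Nrm (sigmaCore M) := (h0.trans hK).trans (H24.le_nrm_sigmaCore M)
  have hsd : IsSd (sigmaCore M) ⁅K, P⁆ (sigmaCore M ⊔ ⁅K, P⁆) :=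
    isSd_sup hn ((H24.sigmaCore_pi M).inf_eq_bot (hs.of_le h0))
  have hPs := hPM.trans (H24.le_nrm_sigmaCore M)
  have hP0 := nrm_commutator_right K P
  have e := (hsd.cent hPs hP0).sup
  rw [hreg, coprime_abel_cent_TI hab hPK (hPp.coprime hK'), bot_sup_eq] at e
  have hnil := H47.T3_7.out (nrm_sup hPs hP0)
    (H51.sub_mmax_sol hG hM (sup_le (H24.sigmaCore_le M) (h0.trans hK)))
    (H24.elemAb_card_one hP ▸ hp) e.symm
  have hc : ⁅K, P⁆ ≤ Cent (sigmaCore M) :=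
    le_cent_symm (nil_cent_of_isPi hnil le_sup_left le_sup_right (H24.sigmaCore_pi M) (hs.of_le h0))
  obtain ⟨h1, h2⟩ := sub'cent_sigma_cyclic hG hM hs
  have hl : ⁅K, P⁆ ≤ K ⊓ Cent (sigmaCore M) ⊓ ⁅M, M⁆ :=
    le_inf (le_inf h0 hc) (commutator_mono hK hPM)
  exact ⟨hc, cyclic_of_le h1 hl, hl.trans h2.1, h2.2.trans (nrm_le_of_cyclic h1 hl)⟩

instance i10_11 [T10_2.{u}] [T10_10.{u}] [H48.T4_20c.{u}] [H48.T4_5z.{u}] [H51.T9_6b.{u}]
    [H47.T3_7.{u}] : T10_11.{u} :=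
  ⟨fun hG _ _ hM hK hs => sigma'_not_uniq hG hM hK hs,
    fun hG _ _ hM hK hs => sub'cent_sigma_rank1 hG hM hK hs,
    fun hG _ _ hM _ hs => sub'cent_sigma_cyclic hG hM hs,
    fun hG _ _ _ _ hM hK hs hp sp hP h1 h2 h3 =>
      commG_sigma'_1Elem_cyclic hG hM hK hs hp sp hP h1 h2 h3⟩

/-! ### 10.13 -/

/-- an element of order `p` centralizing a maximal elementary abelian subgroup lies in it. -/
theorem elem_le_of_max (hm : MaxElemAb p A ⊤) (hB : IsElementaryAbelian p X) (hc : X ≤ Cent A) :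
    X ≤ A := by
  have h : IsElementaryAbelian p (A ⊔ X) := by
    refine ⟨comm_sup hm.2.1.1 hB.1 hc, fun z hz => ?_⟩
    obtain ⟨a, ha, x, hx, rfl⟩ := (mem_sup_of_nrm (nrm_of_le_cent hc)).1 hz
    rw [Commute.mul_pow (mem_cent.1 (hc hx) a ha), hm.2.1.2 a ha, hB.2 x hx, one_mul]
  exact le_sup_right.trans (hm.2.2 _ le_top h le_sup_left).le

theorem mem_of_max (hm : MaxElemAb p A ⊤) {x : G} (hx : x ∈ Cent A) (h : x ^ p = 1) : x ∈ A :=
  zpowers_le.1 (elem_le_of_max hm ⟨inferInstance, fun y hy => by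
    obtain ⟨k, rfl⟩ := mem_zpowers_iff.1 hy
    rw [← zpow_natCast, ← zpow_mul, mul_comm, zpow_mul, zpow_natCast, h, one_zpow]⟩
    (zpowers_le.2 hx))

theorem omegaOne_zc_le_of_max (hm : MaxElemAb p A ⊤) (hAP : A ≤ P) : omegaOne p (Zc P) ≤ A :=
  omegaOne_le_iff.2 fun _ hx h => mem_of_max hm (cent_anti hAP hx.2) h

theorem exists_elemAb_one_not_le (hp : p.Prime) (hA : IsElementaryAbelian p A) (h : ¬ A ≤ X) :
    ∃ A₀ : Subgroup G, ElemAb p 1 A₀ A ∧ ¬ A₀ ≤ X := by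
  obtain ⟨a, ha, haX⟩ := SetLike.not_le_iff_exists.1 h
  refine ⟨zpowers a, H24.elemAb_one hp (zpowers_le.2 ha) ?_, fun h' => haX (zpowers_le.1 h')⟩
  rw [card_zpowers', H51.elem_orderOf hp hA ha fun e => haX (e ▸ X.one_mem)]

/-- the centralizer of `A` in a Sylow subgroup. -/
theorem exists_cyclic_cent_sylow [T10_7.{u}] [H52.T5_2.{u}] [H52.T5_3d.{u}]
    (hG : IsMinSimpleOddOrder G) (hp : p.Prime) (hA : ElemAb p 2 A ⊤) (hm : MaxElemAb p A ⊤)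
    (hS : IsSylowOf p S ⊤) (hAS : A ≤ S) (hna : ¬ IsMulCommutative S) :
    ∃ Z : Subgroup G, IsCyclic Z ∧ omegaOne p (Zc S) ≤ Z ∧ A ⊔ Z = S ⊓ Cent A := by
  have hAc : A ≤ Cent A := comm_iff_le_cent.1 hA.2.1.1
  rcases le_or_gt (pRank p S) 2 with hr | hr
  · obtain ⟨T, C, -, -, hT, hC, hcp, hO⟩ := T10_7.mFT_rank2_Sylow_cprod hG hp hS hr hna
    have key : ∀ x ∈ S, x ^ p = 1 → x ∈ T := fun x hx h => by
      obtain ⟨t, ht, c, hc, rfl⟩ := (mem_sup_of_nrm (nrm_of_le_cent hcp.cent)).1 (hcp.sup ▸ hx)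
      rw [Commute.mul_pow (mem_cent.1 (hcp.cent hc) t ht), hT t ht, one_mul] at h
      exact T.mul_mem ht ((hO ▸ mem_omegaOne hc h : c ∈ Zc T).1)
    have hAT : A ≤ T := fun a ha => key a (hAS ha) (hA.2.1.2 a ha)
    have hCA : C ≤ Cent A := hcp.cent.trans (cent_anti hAT)
    refine ⟨C, hC, omegaOne_le_iff.2 fun x hx h => omegaOne_le p C (hO ▸
      (⟨key x hx.1 h, cent_anti hcp.le_left hx.2⟩ : x ∈ Zc T)), ?_⟩
    rw [← hcp.sup, modr (nrm_of_le_cent hcp.cent) hCA]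
    exact congrArg (· ⊔ C) (le_antisymm (le_inf hAT hAc) fun x hx => mem_of_max hm hx.2 (hT x hx.1))
  · have hSp := hS.isPGroup hp
    have hA' : ElemAb p 2 A S := H24.elemAb_of_le hA hAS
    have hm' : MaxElemAb p A S := ⟨hAS, hm.2.1, fun B _ => hm.2.2 B le_top⟩
    obtain ⟨-, hZ, hW, -⟩ := H52.T5_2.out hp hSp (H51.mFT_odd hG _) hr hA' hm'
    have hZA := omegaOne_zc_le_of_max hm hAS
    have hZ1 : ElemAb p 1 (omegaOne p (Zc S)) A := H24.elemAb_one hp hZA hZ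
    obtain ⟨A₀, hA₀, hne⟩ := exists_elemAb_one_not_le (X := omegaOne p (Zc S)) hp hA.2.1 fun h => by
      have := card_le_of_le h
      rw [hZ, hA.2.2] at this
      nlinarith [hp.two_le]
    have hZS : omegaOne p (Zc S) ≤ Cent S := (omegaOne_le _ _).trans inf_le_right
    have e : S ⊓ Cent A₀ = S ⊓ Cent A := by
      rw [← H51.sup_eq_of_elemAb_one hp hA hA₀ hZ1 fun e => hne e.le, cent_sup, inf_comm (Cent A₀),
        ← inf_assoc, inf_of_le_left (le_cent_symm hZS)]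
    obtain ⟨h1, -, -, h2⟩ := H52.T5_3d.out hp hSp (H51.mFT_odd hG _) hr (fun _ => ⟨A, hA', hm'⟩)
      (H24.elemAb_card_one hA₀) (hA₀.1.trans hAS) (by
        by_contra h3
        obtain ⟨E, hE⟩ := H51.exists_of_le_pRank (H := S ⊓ Cent A₀) (n := 3) hp (by omega)
        have := card_le_of_le (elem_le_of_max hm hE.2.1 (hE.1.trans (e.le.trans inf_le_right)))
        rw [hE.2.2, hA.2.2] at this
        exact absurd ((Nat.pow_le_pow_iff_right hp.one_lt).1 this) (by omega))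
    refine ⟨_, h1, le_inf (le_inf (hZA.trans hAS) (hZS.trans (cent_anti hW.1)))
      (hZS.trans (cent_anti (hA₀.1.trans hAS))), le_antisymm (sup_le (le_inf hAS hAc) ?_) ?_⟩
    · exact h2.le_right.trans e.le
    · rw [← e, ← h2.sup]; exact sup_le_sup_right hA₀.1 _

theorem basic_p2maxElem_structure [T10_7.{u}] [H52.T5_2.{u}] [H52.T5_3d.{u}]
    (hG : IsMinSimpleOddOrder G) (hp : p.Prime) (hA : ElemAb p 2 A ⊤) (hm : MaxElemAb p A ⊤)
    (hP : IsPGroup p P) (hAP : A ≤ P) (hna : ¬ IsMulCommutative P) :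
    ElemAb p 1 (omegaOne p (Zc P)) A ∧
      (∃ Z : Subgroup G, IsCyclic Z ∧ omegaOne p (Zc P) ≤ Z ∧
        ∀ A₀ : Subgroup G, ElemAb p 1 A₀ A → A₀ ≠ omegaOne p (Zc P) → IsDp A₀ Z (P ⊓ Cent A)) ∧
      ∀ A₁ A₂ : Subgroup G, ElemAb p 1 A₁ A → A₁ ≠ omegaOne p (Zc P) → ElemAb p 1 A₂ A →
        A₂ ≠ omegaOne p (Zc P) → ∃ y ∈ P ⊓ Nrm A, A₂ = cj y A₁ := by
  obtain ⟨S, hS, hPS⟩ := exists_sylow_ge hp hP le_top
  obtain ⟨Z, hZ, hZ1, e⟩ := exists_cyclic_cent_sylow hG hp hA hm hS (hAP.trans hPS)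
    fun h => hna (comm_of_le h hPS)
  have hZc : Z ≤ Cent A := le_sup_right.trans (e.le.trans inf_le_right)
  have e' : A ⊔ (Z ⊓ P) = P ⊓ Cent A := by
    rw [← modl (nrm_of_le_cent hZc) hAP, e, inf_right_comm, inf_of_le_right hPS]
  have hCc : IsMulCommutative ↥(P ⊓ Cent A) :=
    e' ▸ comm_sup hA.2.1.1 (comm_of_cyclic (cyclic_of_le hZ inf_le_left)) (inf_le_left.trans hZc)
  have hlt : P ⊓ Cent A < P := lt_of_le_of_ne inf_le_left fun h => hna (h ▸ hCc)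
  have hA1 := H24.elemAb_ne_bot hp hA
  have hZA := omegaOne_zc_le_of_max hm hAP
  have hZP : omegaOne p (Zc P) ≤ Cent P := (omegaOne_le _ _).trans inf_le_right
  have hS1 : omegaOne p (Zc S) ≠ ⊥ := omegaOne_ne_bot_of_isPi hS.isPi.inf_left
    (zc_ne_bot_of_nil hS.isPi.nil (ne_bot_of_le (hAP.trans hPS) hA1))
  have hSP : omegaOne p (Zc S) ≤ omegaOne p (Zc P) := omegaOne_le_iff.2 fun x hx h =>
    mem_omegaOne ⟨hAP (mem_of_max hm (cent_anti (hAP.trans hPS) hx.2) h), cent_anti hPS hx.2⟩ h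
  have hcard : Nat.card (omegaOne p (Zc P)) = p := by
    obtain ⟨k, hk, ek⟩ := (Nat.dvd_prime_pow hp).1 (hA.2.2 ▸ card_dvd_of_le hZA)
    interval_cases k
    · exact absurd (card_eq_one.1 ek) (ne_bot_of_le hSP hS1)
    · simpa using ek
    · have e2 := eq_of_le_of_card_eq hZA (ek.trans hA.2.2.symm)
      exact absurd (le_inf le_rfl (le_cent_symm (e2 ▸ hZP))) hlt.not_ge
  have hZ0 : ElemAb p 1 (omegaOne p (Zc P)) A := H24.elemAb_one hp hZA hcard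
  have hZZ : omegaOne p (Zc P) ≤ Z ⊓ P := by
    refine le_inf ?_ (hZA.trans hAP)
    rw [← (eq_bot_or_eq_of_prime (hcard.symm ▸ hp) hSP).resolve_left hS1]
    exact hZ1
  have hZ' := cyclic_of_le hZ (inf_le_left : Z ⊓ P ≤ Z)
  refine ⟨hZ0, ⟨Z ⊓ P, hZ', hZZ, fun A₀ h0 hne => ⟨(inf_le_left.trans hZc).trans (cent_anti h0.1),
    inf_eq_bot_of_prime (H24.elemAb_card_one h0 ▸ hp) fun h => hne (eq_of_cyclic_of_card_eq hZ' h hZZ
      ((H24.elemAb_card_one h0).trans hcard.symm)), ?_⟩⟩, fun A₁ A₂ h1 n1 h2 n2 => ?_⟩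
  · rw [← e', ← H51.sup_eq_of_elemAb_one hp hA h0 hZ0 hne, sup_assoc, sup_of_le_right hZZ]
  · have hPn : Group.IsNilpotent P := nil_of_isPGroup hp hP
    have hO : omegaOne p (P ⊓ Cent A) = A := le_antisymm
      (omegaOne_le_iff.2 fun x hx h => mem_of_max hm hx.2 h)
      (le_omegaOne (e' ▸ le_sup_left) hA.2.1.2)
    obtain ⟨x, hx, hxC⟩ := SetLike.exists_of_lt (nil_lt_inf_nrm hPn hlt)
    have hxN : x ∈ P ⊓ Nrm A := ⟨hx.1, hO ▸ nrm_le_nrm_omegaOne p _ hx.2⟩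
    have hxC' : x ∉ Cent A := fun h => hxC ⟨hx.1, h⟩
    have s1 := H51.sup_eq_of_elemAb_one hp hA h1 hZ0 n1
    have s2 := H51.sup_eq_of_elemAb_one hp hA h2 hZ0 n2
    -- `x` fixes no subgroup of order `p` of `A` other than `Z₀`
    have nofix : ∀ B : Subgroup G, ElemAb p 1 B A → B ≠ omegaOne p (Zc P) → x ∉ Nrm B := by
      intro B hB hne hxB
      apply hxC'
      rw [← H51.sup_eq_of_elemAb_one hp hA hB hZ0 hne, cent_sup]
      refine ⟨?_, le_cent_symm hZP hx.1⟩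
      have hBP := hB.1.trans hAP
      have := nil_le_zc_of_prime (nil_of_le hPn (inf_le_left : P ⊓ Nrm B ≤ P))
        ⟨le_inf hBP le_nrm_self, inf_le_right⟩ (H24.elemAb_card_one hB ▸ hp)
      exact le_cent_symm (this.trans inf_le_right) ⟨hx.1, hxB⟩
    -- `[A, x] ≤ Z₀`
    have hcomm : ⁅A, P ⊓ Nrm A⁆ = omegaOne p (Zc P) := by
      have hl : ⁅A, P ⊓ Nrm A⁆ < A := nil_commutator_lt hPn hAP inf_le_left inf_le_right hA1
      obtain ⟨k, hk, ek⟩ := (Nat.dvd_prime_pow hp).1 (hA.2.2 ▸ card_dvd_of_le hl.le)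
      interval_cases k
      · exact absurd (commutator_eq_bot_iff'.1 (card_eq_one.1 ek) hxN) hxC'
      · by_contra hne
        exact nofix _ (H24.elemAb_one hp hl.le (by simpa using ek)) hne
          (nrm_commutator_right _ _ hxN)
      · exact absurd (eq_of_le_of_card_eq hl.le (ek.trans hA.2.2.symm)) hl.ne
    have p1 : (Nat.card A₁).Prime := H24.elemAb_card_one h1 ▸ hp
    have p2 : (Nat.card A₂).Prime := H24.elemAb_card_one h2 ▸ hp
    obtain ⟨a, ha, ha1⟩ := exists_ne_one_of_ne_bot (ne_bot_of_card_prime p1)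
    have ea := eq_zpowers_of_card_prime p1 ha ha1
    have hz : a⁻¹ * (x * a * x⁻¹) ∈ omegaOne p (Zc P) := by
      rw [← hcomm]
      simpa [commutatorElement_def, mul_assoc] using
        commutator_mem_commutator (A.inv_mem (h1.1 ha)) hxN
    obtain ⟨z, hzd⟩ : ∃ z, z = a⁻¹ * (x * a * x⁻¹) := ⟨_, rfl⟩
    rw [← hzd] at hz
    have hz1 : z ≠ 1 := fun h => nofix A₁ h1 n1 (by
      rw [mem_nrm_iff_cj, ← ea, cj_zpowers, ← inv_mul_eq_one.1 (hzd.symm.trans h)])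
    have hxz : x * z = z * x := mem_cent.1 (hZP hz) x hx.1
    have hk : ∀ k : ℕ, x ^ k * a * (x ^ k)⁻¹ = a * z ^ k := by
      intro k
      induction k with
      | zero => simp
      | succ k ih =>
        have h3 : x * z ^ k * x⁻¹ = z ^ k := by
          rw [(Commute.pow_right hxz k).eq, mul_inv_cancel_right]
        calc x ^ (k + 1) * a * (x ^ (k + 1))⁻¹ = x * (x ^ k * a * (x ^ k)⁻¹) * x⁻¹ := by
              rw [pow_succ']; group
          _ = a * (a⁻¹ * (x * a * x⁻¹)) * (x * z ^ k * x⁻¹) := by rw [ih]; group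
          _ = a * z ^ (k + 1) := by rw [← hzd, h3, pow_succ', mul_assoc]
    obtain ⟨b, hb, w, hw, eb⟩ := (mem_sup_of_nrm (hZA.trans (nrm_of_comm hA.2.1.1 h2.1))).1
      (s2.symm ▸ h1.1 ha)
    obtain ⟨k, ek⟩ := (mem_powers_iff_mem_zpowers.2
      (eq_zpowers_of_card_prime (hcard.symm ▸ hp) hz hz1 ▸ (omegaOne p (Zc P)).inv_mem hw))
    have hb1 : b ≠ 1 := fun h => n1 (eq_of_le_of_card_eq (by
      rw [← ea, zpowers_le, eb, h, one_mul]; exact hw)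
      ((H24.elemAb_card_one h1).trans hcard.symm))
    refine ⟨x ^ k, pow_mem hxN k, ?_⟩
    rw [← ea, cj_zpowers, hk, show z ^ k = w⁻¹ from ek, eb, mul_inv_cancel_right,
      eq_zpowers_of_card_prime p2 hb hb1]

instance i10_13 [T10_7.{u}] [H52.T5_2.{u}] [H52.T5_3d.{u}] : T10_13.{u} :=
  ⟨fun hG _ _ _ hp hA hm hP hAP hna => basic_p2maxElem_structure hG hp hA hm hP hAP hna⟩

end H49
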