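import Cfsg.Agent.H86.TP.Spec
import Cfsg.Agent.H14.FEKit

/-! # S1308, chapter TP, slot NC: the normaliser of `R` in `Q` centralises `E` -/

set_option autoImplicit false
set_option linter.unusedSectionVars false

namespace H49.TpNC

open Cfsg Subgroup MulAction H14 H98 H1.Gold H31.S2 H14.GC H14.FE H14.NF H86.TP
open scoped commutatorElement

universe u

variable {G : Type u} [Group G] [Finite G] {Q Q' T R E P : Subgroup G} {x : G}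

theorem nor_oz (R : Subgroup G) : nor R ≤ nor (OZ R) := fun n hn => by
  apply mem_normalizer_of_cj_le
  rintro _ ⟨z, ⟨z1, z2, z3⟩, rfl⟩
  change n * z * n⁻¹ ∈ OZ R
  refine ⟨conj_mem_of_mem_normalizer hn z1, ?_, fun y hy => ?_⟩
  · calc n * z * n⁻¹ * (n * z * n⁻¹) = n * (z * z) * n⁻¹ := by group
      _ = 1 := by rw [z2]; group
  · calc y * (n * z * n⁻¹) = n * (n⁻¹ * y * n * z) * n⁻¹ := by group
      _ = n * z * n⁻¹ * y := by rw [z3 _ (conj_mem_of_mem_normalizer' hn hy)]; group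

theorem el_comm (h : El T) {s t : G} (hs : s ∈ T) (ht : t ∈ T) : s * t = t * s := by
  calc s * t = (t * t) * (s * t) * (s * s) := by rw [h s hs, h t ht]; group
    _ = t * (t * s * (t * s)) * s := by group
    _ = t * s := by rw [h _ (mul_mem ht hs)]; group

theorem te (h : LP Q Q' T R E P) {t e : G} (ht : t ∈ T) (he : e ∈ E) : t * e = e * t :=
  mem_centralizer_iff.1 (h.eq.le he).2 t ht

theorem memR (h : LP Q Q' T R E P) {n t : G} (h1 : n ∈ Q) (h2 : n ∈ nor (R ⊔ T)) (ht : t ∈ T) :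
    ⁅n, t⁆ ∈ R := by
  have a1 : ⁅n, t⁆ ∈ Q := comm_mem_left h1 (h.syl.le ht).2
  obtain ⟨y, hy, s, hs, e⟩ := (h.memRT _).1 (comm_mem_right h2 (mem_sup_right ht))
  have a2 : s ∈ Q := by
    have := mul_mem (inv_mem (h.sylR.le hy)) a1
    rwa [e, inv_mul_cancel_left] at this
  rw [e, h.dis s hs a2, mul_one]
  exact hy

/-- An element that fixes `t` acts trivially on `E T / E`. -/
theorem comE (h : LP Q Q' T R E P) {m t s : G} (h1 : m ∈ Q) (h2 : m ∈ nor (R ⊔ T)) (ht : t ∈ T)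
    (t1 : t ≠ 1) (hc : Commute m t) (hs : s ∈ T) : ⁅m, s⁆ ∈ E := by
  refine h.fix t ht t1 ⟨memR h h1 h2 hs, mem_centralizer_singleton_iff.2 ?_⟩
  have hst : Commute s t := el_comm h.el hs ht
  rw [commutatorElement_def]
  exact ((hc.mul_left hst).mul_left hc.inv_left).mul_left hst.inv_left

theorem conjP (h : LP Q Q' T R E P) {m y : G} (h1 : m ∈ nor R) (h2 : m ∈ nor E)
    (h3 : ∀ s ∈ T, ⁅m⁻¹, s⁆ ∈ E) (hy : y ∈ P) : m * y * m⁻¹ ∈ P := by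
  obtain ⟨yR, hyT⟩ := (h.mem y).1 hy
  refine (h.mem _).2 ⟨conj_mem_of_mem_normalizer h1 yR, fun s hs => ?_⟩
  have hr := h3 s hs
  have c : ⁅m⁻¹, s⁆ * y = y * ⁅m⁻¹, s⁆ := mem_centralizer_iff.1 (h.cenE hy) _ hr
  have c' : ⁅m⁻¹, s⁆ * s = s * ⁅m⁻¹, s⁆ := (te h hs hr).symm
  have e : ⁅s, m * y * m⁻¹⁆ = m * ⁅s, y⁆ * m⁻¹ := by
    calc ⁅s, m * y * m⁻¹⁆
        = m * ((⁅m⁻¹, s⁆ * s) * y * (⁅m⁻¹, s⁆ * s)⁻¹ * y⁻¹) * m⁻¹ := by
          simp only [commutatorElement_def]; group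
      _ = m * (s * (⁅m⁻¹, s⁆ * y) * (⁅m⁻¹, s⁆)⁻¹ * s⁻¹ * y⁻¹) * m⁻¹ := by rw [c']; group
      _ = _ := by rw [c, commutatorElement_def s y]; group
  rw [e]
  exact conj_mem_of_mem_normalizer h2 (hyT s hs)

theorem core0 (h : LP Q Q' T R E P) (k : XX T R E P x) (hZ : E = OZ R) {m t : G} (h1 : m ∈ Q)
    (h2 : m ∈ nor R) (h3 : m ∈ nor (R ⊔ T)) (ht : t ∈ T) (t1 : t ≠ 1) (hc : Commute m t) :
    m ∈ cen E := by
  have hE : m ∈ nor E := hZ ▸ nor_oz R h2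
  have re : ∀ ρ ∈ R, ∀ e ∈ E, ρ * e = e * ρ := fun ρ hρ e he => (hZ.le he).2.2 ρ hρ
  have PR : P ≤ R := fun y hy => ((h.mem y).1 hy).1
  have a1 : ∀ s ∈ T, ⁅m, s⁆ ∈ E := fun s hs => comE h h1 h3 ht t1 hc hs
  have hx' : m * x * m⁻¹ * x⁻¹ ∈ P := by
    refine (k.idx _ (conj_mem_of_mem_normalizer h2 k.memR)).resolve_left fun hp => k.notP ?_
    have := conjP h (inv_mem h2) (inv_mem hE) (by simpa using a1) hp
    simpa [mul_assoc] using this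
  have a2 : ∀ s ∈ T, (⁅x, s⁆)⁻¹ * (m * ⁅x, s⁆ * m⁻¹) ∈ E := fun s hs => by
    have hz := k.cm s hs
    have hr := a1 s hs
    have c1 : m * x * m⁻¹ * ⁅m, s⁆ = ⁅m, s⁆ * (m * x * m⁻¹) :=
      re _ (conj_mem_of_mem_normalizer h2 k.memR) _ hr
    have c2 : ⁅m, s⁆ * s = s * ⁅m, s⁆ := (te h hs hr).symm
    have e1 : m * ⁅x, s⁆ * m⁻¹ = ⁅m * x * m⁻¹, s⁆ := by
      calc m * ⁅x, s⁆ * m⁻¹
          = (m * x * m⁻¹) * (⁅m, s⁆ * s) * (m * x * m⁻¹)⁻¹ * (⁅m, s⁆ * s)⁻¹ := by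
            simp only [commutatorElement_def]; group
        _ = (m * x * m⁻¹) * s * ((m * x * m⁻¹)⁻¹ * (m * x * m⁻¹ * ⁅m, s⁆) * (m * x * m⁻¹)⁻¹) *
              (⁅m, s⁆)⁻¹ * s⁻¹ := by rw [c2]; group
        _ = (m * x * m⁻¹) * s * ((m * x * m⁻¹)⁻¹ * ⁅m, s⁆) * (⁅m, s⁆)⁻¹ * s⁻¹ := by
            rw [c1]; group
        _ = _ := by rw [commutatorElement_def (m * x * m⁻¹) s]; group
    have e2 : (⁅x, s⁆)⁻¹ * ⁅m * x * m⁻¹, s⁆ =
        ⁅(⁅x, s⁆)⁻¹, m * x * m⁻¹ * x⁻¹⁆ * (⁅s, m * x * m⁻¹ * x⁻¹⁆)⁻¹ := by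
      simp only [commutatorElement_def]; group
    rw [e1, e2]
    exact mul_mem (h.cmP _ (inv_mem hz) _ hx') (inv_mem (((h.mem _).1 hx').2 s hs))
  have a3 : ∀ y ∈ P, y⁻¹ * (m * y * m⁻¹) ∈ E := fun y hy => by
    obtain ⟨s, hs, he⟩ := k.sur y hy
    have e : y⁻¹ * (m * y * m⁻¹) = (y⁻¹ * ⁅x, s⁆) * ((⁅x, s⁆)⁻¹ * (m * ⁅x, s⁆ * m⁻¹)) *
        (m * (y⁻¹ * ⁅x, s⁆) * m⁻¹)⁻¹ := by
      have c := re _ (PR hy) _ he
      generalize ⁅x, s⁆ = z at c ⊢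
      have c' : z * (y⁻¹ * z)⁻¹ = y := by group
      calc _ = y⁻¹ * (m * (z * (y⁻¹ * z)⁻¹) * m⁻¹) := by rw [c']
        _ = _ := by group
    rw [e]
    exact mul_mem (mul_mem he (a2 s hs)) (inv_mem (conj_mem_of_mem_normalizer hE he))
  refine mem_centralizer_iff.2 fun r hr => ?_
  obtain ⟨y, hy, rfl⟩ := k.fu t ht t1 r hr
  have c := te h ht (a3 y hy)
  have e : m * ⁅t, y⁆ * m⁻¹ = ⁅t, y⁆ := by
    calc m * ⁅t, y⁆ * m⁻¹
        = (m * t) * m⁻¹ * (m * y * m⁻¹) * (m * t * m⁻¹)⁻¹ * (m * y * m⁻¹)⁻¹ := by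
          simp only [commutatorElement_def]; group
      _ = t * y * t⁻¹ * (t * (y⁻¹ * (m * y * m⁻¹))) * t⁻¹ * (m * y * m⁻¹)⁻¹ * t * t⁻¹ := by
          rw [hc.eq]; group
      _ = _ := by rw [c, commutatorElement_def]; group
  calc ⁅t, y⁆ * m = m * ⁅t, y⁆ * m⁻¹ * m := by rw [e]
    _ = _ := by group

theorem core1 (h : LP Q Q' T R E P) (k : XX T R E P x) (hZ : E = OZ R) {m t : G} (h1 : m ∈ Q)
    (h2 : m ∈ nor R) (h3 : m ∈ nor (R ⊔ T)) (ht : t ∈ T) (t1 : t ≠ 1) (hc : ⁅m, t⁆ ∈ E) :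
    m ∈ cen E := by
  obtain ⟨p, hp, e⟩ := k.fu t ht t1 _ hc
  have pR : p ∈ R := ((h.mem p).1 hp).1
  have c : ⁅m, t⁆ * p = p * ⁅m, t⁆ := mem_centralizer_iff.1 (h.cenE hp) _ hc
  have c0 : Commute (p * m) t := by
    have e1 : p * m * t * (p * m)⁻¹ = t := by
      calc p * m * t * (p * m)⁻¹ = (p * ⁅m, t⁆) * t * p⁻¹ := by
            rw [commutatorElement_def]; group
        _ = ⁅m, t⁆ * (⁅t, p⁆)⁻¹ * t := by rw [← c, commutatorElement_def t p]; group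
        _ = t := by rw [e]; group
    calc p * m * t = p * m * t * (p * m)⁻¹ * (p * m) := by group
      _ = t * (p * m) := by rw [e1]
  have := core0 h k hZ (mul_mem (h.sylR.le pR) h1) (mul_mem (le_normalizer pR) h2)
    (mul_mem (le_normalizer (mem_sup_left pR)) h3) ht t1 c0
  exact ((cen E).mul_mem_cancel_left (h.cenE hp)).1 this

theorem core2 (h : LP Q Q' T R E P) (k : XX T R E P x) (hZ : E = OZ R) {n : G} (h1 : n ∈ Q)
    (h2 : n ∈ nor R) (h3 : n ∈ nor (R ⊔ T)) : n ∈ cen E := by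
  have xE : x ∈ cen E := mem_centralizer_iff.2 fun e he => ((hZ.le he).2.2 x k.memR).symm
  obtain ⟨t, ht, t1, hP⟩ : ∃ t ∈ T, t ≠ 1 ∧ ⁅n, t⁆ ∈ P := by
    obtain ⟨s, hs, t, ht, s1, t1, hne, -⟩ := h.four
    rcases k.idx _ (memR h h1 h3 hs) with a | a
    · exact ⟨s, hs, s1.1, a⟩
    rcases k.idx _ (memR h h1 h3 ht) with b | b
    · exact ⟨t, ht, t1.1, b⟩
    refine ⟨s * t, mul_mem hs ht, fun e => hne ?_, ?_⟩
    · rw [← mul_one s, ← t1.2, ← mul_assoc, e, one_mul]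
    have xx : x * x ∈ P :=
      (k.idx _ (mul_mem k.memR k.memR)).resolve_right fun e => k.notP (by simpa using e)
    have b1 : ⁅s, ⁅n, t⁆ * x⁻¹⁆ * (⁅n, t⁆ * x⁻¹) * (⁅x, s⁆)⁻¹ ∈ P :=
      mul_mem (mul_mem (h.ltP.le (((h.mem _).1 b).2 s hs)) b) (inv_mem (k.cm s hs))
    have e : ⁅n, s * t⁆ = (⁅n, s⁆ * x⁻¹) *
        (x * (⁅s, ⁅n, t⁆ * x⁻¹⁆ * (⁅n, t⁆ * x⁻¹) * (⁅x, s⁆)⁻¹) * x⁻¹) * (x * x) := by
      simp only [commutatorElement_def]; group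
    rw [e]
    exact mul_mem (mul_mem a (conj_mem_of_mem_normalizer k.norP b1)) xx
  have sq : ⁅n, t⁆ * t * (⁅n, t⁆ * t) = 1 := by
    calc _ = n * (t * t) * n⁻¹ := by rw [commutatorElement_def]; group
      _ = 1 := by rw [h.el t ht]; group
  rcases k.inv _ hP t ht t1 sq with a | a
  · exact core1 h k hZ h1 h2 h3 ht t1 a
  have c1 := te h ht a
  have c2 := mem_centralizer_iff.1 xE _ a
  have e : ⁅x⁻¹ * n, t⁆ = ((⁅n, t⁆)⁻¹ * ⁅x, t⁆)⁻¹ := by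
    generalize hr : (⁅n, t⁆)⁻¹ * ⁅x, t⁆ = r at c1 c2
    have e1 : ⁅n, t⁆ = ⁅x, t⁆ * r⁻¹ := by rw [← hr]; group
    have c3 : t⁻¹ * r⁻¹ = r⁻¹ * t⁻¹ := by rw [← mul_inv_rev, ← c1, mul_inv_rev]
    have c4 : x⁻¹ * r⁻¹ = r⁻¹ * x⁻¹ := by rw [← mul_inv_rev, c2, mul_inv_rev]
    have c5 : t * r⁻¹ = r⁻¹ * t := (show Commute t r from c1).inv_right.eq
    calc ⁅x⁻¹ * n, t⁆ = x⁻¹ * ⁅n, t⁆ * t * x * t⁻¹ := by
          simp only [commutatorElement_def]; group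
      _ = t * x⁻¹ * (t⁻¹ * r⁻¹) * t * x * t⁻¹ := by rw [e1, commutatorElement_def]; group
      _ = t * (x⁻¹ * r⁻¹) * x * t⁻¹ := by rw [c3]; group
      _ = (t * r⁻¹) * t⁻¹ := by rw [c4]; group
      _ = r⁻¹ := by rw [c5]; group
  have := core1 h k hZ (mul_mem (inv_mem (h.sylR.le k.memR)) h1)
    (mul_mem (inv_mem (le_normalizer k.memR)) h2)
    (mul_mem (inv_mem (le_normalizer (mem_sup_left k.memR))) h3) ht t1 (e ▸ inv_mem a)
  exact ((cen E).mul_mem_cancel_left (inv_mem xE)).1 this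

theorem jNC : JobNC.{u} := by
  intro zr G _ _ Q Q' T R E P x h k n ⟨h1, h2⟩
  have : Fact (Nat.Prime 2) := ⟨Nat.prime_two⟩
  have hZ := zr G Q Q' T R E P h
  have TQ : T ≤ nor Q := h.syl.le.trans inf_le_right
  have TE : T ≤ cen E := fun t ht => mem_centralizer_iff.2 fun e he => (te h ht he).symm
  have RE : R ≤ cen E := fun ρ hρ => mem_centralizer_iff.2 fun e he => ((hZ.le he).2.2 ρ hρ).symm
  have s1 : IsSyl 2 (R ⊔ T) (Q ⊔ T) := by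
    refine ⟨sup_le_sup_right h.sylR.le T,
      IsPGroup.to_sup_of_normal_left' h.sylR.isPGroup h.syl.isPGroup h.norR, fun U hU a b => ?_⟩
    refine le_antisymm (fun w hw => ?_) a
    obtain ⟨y, hy, t, ht, rfl⟩ := (mem_sup_right_norm TQ).1 (b hw)
    have e : U ⊓ Q = R := h.sylR.eq_of_le (hU.to_le inf_le_left)
      (le_inf (le_sup_left.trans a) h.sylR.le) inf_le_right
    exact mul_mem (mem_sup_left (e.le ⟨(U.mul_mem_cancel_right (a (mem_sup_right ht))).1 hw, hy⟩))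
      (mem_sup_right ht)
  have s2 : IsSyl 2 (R ⊔ T) ((Q ⊔ T) ⊓ nor R ⊓ cen E) :=
    s1.of_le (le_inf (le_inf s1.le (sup_le le_normalizer h.norR)) (sup_le RE TE))
      (inf_le_left.trans inf_le_left)
  have hn : zpowers n ≤ nor ((Q ⊔ T) ⊓ nor R ⊓ cen E) :=
    le_normalizer_inf (le_normalizer_inf (le_normalizer_of_le (zpowers_le.2 (mem_sup_left h1)))
      (le_normalizer_of_le (zpowers_le.2 h2)))
      (le_normalizer_centralizer (zpowers_le.2 (hZ ▸ nor_oz R h2)))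
  obtain ⟨a, ha, c, ⟨⟨c1, c2⟩, c3⟩, rfl⟩ := s2.frattini_mem (hn (mem_zpowers n))
  obtain ⟨y, hy, t, ht, rfl⟩ := (mem_sup_right_norm TQ).1
    (((Q ⊔ T).mul_mem_cancel_right c1).1 (mem_sup_left h1))
  have y1 : y ∈ nor R := ((nor R).mul_mem_cancel_right (h.norR ht)).1
    (((nor R).mul_mem_cancel_right c2).1 h2)
  have y2 : y ∈ nor (R ⊔ T) :=
    ((nor (R ⊔ T)).mul_mem_cancel_right (le_normalizer (mem_sup_right ht))).1 ha
  exact mul_mem (mul_mem (core2 h k hZ hy y1 y2) (TE ht)) c3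

end H49.TpNC
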