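import Cfsg.Agent.H54.YSSpec

/-! STD-SP endgame, slot HQ: a class-preserving automorphism of `Q` that fixes `Z` is induced by `P`. -/

set_option autoImplicit false
set_option linter.unusedSectionVars false

namespace H49.YSHQ

open H64.SG (O2 Syl Cz Cs Ns cjs Is2 Inv2 IsO2 fx)
open Subgroup H67.SP H64.YE H54.YS
open H67.UA hiding Par Base FV FW
open H67.SA (cm St la)
open H86.SPI (hf_comm hf_self ok EE_mul')

variable {n : ℕ} {K : Type} [Field K] [StarRing K] [TrivialStar K] [CharP K 2] [Finite K] [Par n K]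

theorem hf_sum (g : Fin (n + 1) → K) (w : Fin (n + 1) → Vn n K) (z : Vn n K) :
    hf (∑ i, g i • w i) z = ∑ i, g i * hf (w i) z := by
  classical
  induction (Finset.univ : Finset (Fin (n + 1))) using Finset.induction_on with
  | empty => simp
  | insert a s ha ih => rw [Finset.sum_insert ha, Finset.sum_insert ha, hf_add_left, hf_smul_left, ih]

theorem li_of_gram (w : Fin (n + 1) → Vn n K)
    (h : ∀ i j, hf (w i) (w j) = hf (ev i : Vn n K) (ev j)) : LinearIndependent K w := by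
  refine Fintype.linearIndependent_iff.2 fun g hg j => ?_
  have := congrArg (fun v => hf v (w j.rev)) hg
  simp only [hf_sum, h, hf_ev, Fin.rev_inj, hf_zero_left, mul_ite, mul_one, mul_zero,
    Finset.sum_ite_eq, Finset.mem_univ, if_true] at this
  exact this

theorem hf_0n : hf (ev 0 : Vn n K) (ev (la n)) = 1 := by rw [hf_ev, if_pos (by simp [la])]

theorem c_of_alt {y : Vn n K} (hy : Hy y) {c : K} (h : Alt (EE (ev 0) y c)) : c = 0 := by
  have := h (ev (la n))
  rw [ac_EE (ok hy.1 c), hf_add_left, hf_add_left, hf_add_left, hf_smul_left, hf_smul_left,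
    hf_smul_left, hf_self, hy.2, hf_comm _ y, hy.2, hf_comm (ev (la n)), hf_0n] at this
  simpa using this

theorem not_hy {i : Fin (n + 1)} (h : ¬ Hy (ev i : Vn n K)) : i = 0 ∨ i = la n := by
  by_contra k
  rw [not_or] at k
  refine h ⟨?_, ?_⟩ <;> rw [hf_ev, if_neg]
  · exact fun e => k.2 (by rw [← Fin.rev_rev i, ← e]; simp [la])
  · exact fun e => k.1 (by rw [← Fin.rev_rev i, ← e]; simp [la])

theorem split {y : Vn n K} (hy : hf y (ev 0) = 0) (c : K) :
    EE (ev 0) y c = EE (ev 0) y 0 * Tc c (ev 0) := by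
  rw [EE_mul' hy (hf_zero_left _)]; simp

theorem jobHQ : JobHQ := by
  intro n K _ _ _ _ _ _ _ _ _ _ θ hθ hz hc
  classical
  have mq : ∀ y c, Hy y → EE (ev 0) y c ∈ QQ n K := fun y c hy => (FV.mem_QQ _).2 ⟨y, c, hy, rfl⟩
  have h0 : Hy (0 : Vn n K) := ⟨hf_zero_left _, hf_zero_left _⟩
  have zt : ∀ c : K, θ (Tc c (ev 0)) = Tc c (ev 0) := fun c => hz _ ((FV.mem_Zl _ _).2 ⟨c, rfl⟩)
  have ex : ∀ y : Vn n K, ∃ y' : Vn n K, Hy y → Hy y' ∧ θ (EE (ev 0) y 0) = EE (ev 0) y' 0 := by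
    intro y
    by_cases hy : Hy y
    swap
    · exact ⟨0, fun h => absurd h hy⟩
    by_cases y0 : y = 0
    · subst y0
      exact ⟨0, fun _ => ⟨h0, zt 0⟩⟩
    obtain ⟨y', c, h1, h2⟩ := (FV.mem_QQ _).1 (hθ.bij.mapsTo (mq y 0 hy))
    obtain ⟨β, hβ⟩ := hc _ (mq y 0 hy)
    have s : Sr (β (EE (ev 0) y 0)) :=
      (FA.cls β _).2.1 ⟨ev 0, y, hf_symm hy.1, KT.li y hy y0, rfl⟩
    rw [hβ, h2] at s
    have := c_of_alt h1 ((FR.rk _).2.1.1 s).2.2
    subst this
    exact ⟨y', fun _ => ⟨h1, h2⟩⟩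
  choose T hT using ex
  have th : ∀ y c, Hy y → θ (EE (ev 0) y c) = EE (ev 0) (T y) c := fun y c hy => by
    rw [split hy.1, hθ.mul _ (mq y 0 hy) _ (mq 0 c h0), (hT y hy).2, zt, ← split (hT y hy).1.1]
  have iso : ∀ y y', Hy y → Hy y' → hf (T y') (T y) = hf y' y := fun y y' hy hy' => by
    have hs : Hy (y + y') := ⟨by rw [hf_add_left, hy.1, hy'.1, add_zero],
      by rw [hf_add_left, hy.2, hy'.2, add_zero]⟩
    have e := hθ.mul _ (mq y 0 hy) _ (mq y' 0 hy')
    rw [EE_mul' hy.1 hy'.1, th _ _ hs, th _ _ hy, th _ _ hy',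
      EE_mul' (hT y hy).1.1 (hT y' hy').1.1] at e
    obtain ⟨a, -, h2⟩ := EE_inj (ev_ne 0) (ok (hT _ hs).1.1 _) (ok (by
      rw [hf_add_left, (hT y hy).1.1, (hT y' hy').1.1, add_zero]) _) e
    rw [tr_eq_zero.2 (star_trivial a)] at h2
    simpa using h2.symm
  let w : Fin (n + 1) → Vn n K := fun i => if Hy (ev i : Vn n K) then T (ev i) else ev i
  have key : ∀ y, Hy y → ∀ i, hf (T y) (w i) = hf y (ev i) := fun y hy i => by
    by_cases hi : Hy (ev i : Vn n K)
    · simp only [w, if_pos hi]; exact iso _ _ hi hy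
    · simp only [w, if_neg hi]
      rcases not_hy hi with rfl | rfl
      · rw [hy.1, (hT y hy).1.1]
      · rw [hy.2, (hT y hy).1.2]
  have gram : ∀ i j, hf (w i) (w j) = hf (ev i : Vn n K) (ev j) := fun i j => by
    by_cases hi : Hy (ev i : Vn n K)
    · rw [show w i = T (ev i) from if_pos hi]; exact key _ hi j
    by_cases hj : Hy (ev j : Vn n K)
    · rw [show w j = T (ev j) from if_pos hj, hf_comm, hf_comm (ev i)]; exact key _ hj i
    rw [show w i = ev i from if_neg hi, show w j = ev j from if_neg hj]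
  obtain ⟨p, hp⟩ := FW.witt (n + 1) ev w (li_of_gram _ fun _ _ => rfl) (li_of_gram w gram)
    fun i j => (gram i j).symm
  have p0 : ac p (ev 0) = ev 0 := by
    rw [hp]
    exact if_neg fun h => one_ne_zero (hf_0n.symm.trans h.2)
  have pT : ∀ y, Hy y → ac p y = T y := fun y hy => by
    have : ac p⁻¹ (T y) = y := funext fun i => by
      have := key y hy i.rev
      rwa [← hp, ← hf_ac p⁻¹, ac_inv_ac, hf_ev_right, hf_ev_right, Fin.rev_rev] at this
    rw [← ac_ac_inv p (T y), this]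
  refine ⟨p, p0, fun x hx => ?_⟩
  obtain ⟨y, c, hy, rfl⟩ := (FV.mem_QQ _).1 hx
  rw [th y c hy, EE_conj (ok hy.1 c), p0, pT y hy, mul_inv_cancel]
  exact one_mem _

end H49.YSHQ
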