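import Cfsg.Agent.H78.YUDef

/-! STD-SP endgame, unitary models, slot HB. -/

set_option autoImplicit false
set_option linter.unusedSectionVars false

namespace H49.YUHB

open H64.SG (O2 Syl Cz Cs Ns cjs Is2 Inv2 IsO2 fx)
open H67 H67.UA H64.YE H78.YU Subgroup
open H67.SA (cm St la)
open H59.UM (exists_tr)

variable {m : ℕ} {K : Type} [Field K] [StarRing K] [CharP K 2] [Finite K] [Par m K]

theorem fix_TT {v : Vn m K} (h : Pp (ev 0) v) : ac (TT v) (ev 0) = ev 0 := by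
  rw [ac_Tc h.r (star_one K), h.p]; simp

theorem ok_smul {z : Vn m K} (h : Pp (ev 0) z) (a : K) : Ok (ev 0) (a • z) (nm a) :=
  ⟨h.l, by rw [hf_smul_left, h.symm.p, mul_zero], by
    rw [tr_eq_zero.2 (star_nm a)]; exact (h.r.smul a).symm⟩

theorem cm_TT {z y : Vn m K} {c : K} (h : Pp (ev 0) z) (o : Ok (ev 0) y c) :
    cm (TT z) (EE (ev 0) y c) = EE (ev 0) (hf y z • z) (nm (hf y z)) := by
  have o' := o.ac (TT z)
  rw [cm, EE_conj o, EE_inv o]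
  rw [fix_TT h] at o' ⊢
  rw [EE_mul o' o.star, ac_Tc h.r (star_one K), one_mul, add_right_comm, v_add_self, zero_add,
    hf_add_right, hf_smul_right, ← o.tr]
  congr 1
  simp only [tr, nm]
  linear_combination (c + star c) * two0 K

theorem mem_Z0 {y : Vn m K} {d : K} (o : Ok (ev 0) y d) :
    EE (ev 0) y d ∈ Z0 m K ↔ ∃ a : K, y = a • ev 0 := by
  rw [FV.mem_Z]
  constructor
  · rintro ⟨c, hc, e⟩
    obtain ⟨a, h, -⟩ := EE_inj (ev_ne 0) (ok_zero iso0 hc) o e.symm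
    exact ⟨a, by simpa using h⟩
  · rintro ⟨a, rfl⟩
    refine ⟨d + tr a, ?_, by simpa using EE_shift a (ev 0 : Vn m K) 0 d⟩
    rw [star_add, star_tr, tr_eq_zero.1 (o.tr.trans (iso0.smul a))]

theorem root_U (R : R0 m K) {d : XU m K} (hd : d ∈ U0 m K) (h : IsConj (r0 m K) d) :
    ∃ v, Pp (ev 0) v ∧ d = TT v := by
  obtain ⟨v, v0, hv, rfl⟩ := (R.rt d).1 h
  have e : ac (TT v) (ev 0) = ev 0 := GA.FB.UP hd
  rw [ac_Tc hv (star_one K), one_mul, add_eq_left, smul_eq_zero] at e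
  exact ⟨v, ⟨iso0, hv, e.resolve_right v0⟩, rfl⟩

theorem prod_Z {v w y y' : Vn m K} {c c' : K} (h : Pp (ev 0) v) (h' : Pp (ev 0) w)
    (o : Ok (ev 0) y c) (o' : Ok (ev 0) y' c') :
    cm (TT v) (EE (ev 0) y c) * (cm (TT w) (EE (ev 0) y' c'))⁻¹ ∈ Z0 m K ↔
      ∃ b : K, hf y v • v + hf y' w • w = b • ev 0 := by
  rw [cm_TT h o, cm_TT h' o', EE_inv (ok_smul h' _), EE_mul (ok_smul h _) (ok_smul h' _).star,
    mem_Z0 ((ok_smul h _).add (ok_smul h' _).star)]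

theorem jobHB : JobHB := by
  intro m K _ _ _ _ _ R
  refine ⟨GA.FB.UP.trans (FW.genP _ fun v hv => ?_), fun d₁ h₁ d₂ h₂ c₁ c₂ hx x hq => ?_⟩
  · by_cases v0 : v = 0
    · rw [v0, TT, Tc, EE_zero_left]; exact one_mem _
    · exact subset_closure ⟨GA.FB.PZ (fix_TT hv), (R.rt _).2 ⟨v, v0, hv.r, rfl⟩⟩
  obtain ⟨v, hv, rfl⟩ := root_U R h₁ c₁
  obtain ⟨w, hw, rfl⟩ := root_U R h₂ c₂
  obtain ⟨x₀, q₀, x₁, q₁, n₀, e⟩ := hx
  obtain ⟨y₀, a₀, o₀, rfl⟩ := (FV.mem_Q _).1 q₀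
  obtain ⟨y₁, a₁, o₁, rfl⟩ := (FV.mem_Q _).1 q₁
  obtain ⟨y, a, o, rfl⟩ := (FV.mem_Q _).1 hq
  obtain ⟨b, hb⟩ := (prod_Z hv hw o₀ o₁).1 e
  have ne : hf y₀ v ≠ 0 := fun k => n₀ (by
    rw [cm_TT hv o₀, mem_Z0 (ok_smul hv _), k]; exact ⟨0, by simp⟩)
  obtain ⟨c, hc⟩ := exists_tr (star_hf ((hf y v / hf y₀ v) • y₁) ((hf y v / hf y₀ v) • y₁))
  have o' : Ok (ev 0) ((hf y v / hf y₀ v) • y₁) c :=
    ⟨iso0, by rw [hf_smul_left, o₁.perp, mul_zero], hc⟩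
  refine ⟨_, (FV.mem_Q _).2 ⟨_, c, o', rfl⟩, (prod_Z hv hw o o').2 ⟨hf y v / hf y₀ v * b, ?_⟩⟩
  rw [mul_smul, ← hb, hf_smul_left, smul_add, smul_smul, smul_smul, div_mul_cancel₀ _ ne]

end H49.YUHB
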